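import Groth.Agent.Lib.FMK22.Duality
import Groth.Agent.Lib.InjTilde20.Main
import Groth.Agent.Lib.FMAdj25.Gorenstein
import Groth.Agent.Lib.Cube.Pic
import Groth.Agent.Lib.OX.AffinePush
import Groth.Agent.Lib.KSix19.ProjPush.Serre
import Groth.Agent.Lib.FMInv15.Tensor
import Groth.Agent.Lib.GabRos20.Invertible
import Groth.Agent.Lib.Poincare.TensorInv
import Groth.Agent.Lib.LocFreeHom.IsoNear

/-! # Serre duality for perfect complexes on a proper Cohen–Macaulay scheme over a field -/

set_option autoImplicit false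
set_option maxHeartbeats 1000000
set_option linter.style.haveILetI false
set_option backward.isDefEq.respectTransparency false
universe u

open CategoryTheory CategoryTheory.Limits AlgebraicGeometry HomologicalComplex
open DerivedCategory (Q)
attribute [local instance] HasDerivedCategory.standard

noncomputable section

namespace GrothLib.FMK22

open GrothLib.OX GrothLib.RightAdj22

/-- Maps into an injective object in degree zero are detected on the zeroth cohomology. -/
theorem hom_single_injective_eq_zero {X : Scheme.{u}} (M : X.Modules) [Injective M] (T : DCoh.D X)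
    (h : IsZero (DCoh.HD T 0)) (f : T ⟶ DCoh.inD X M) : f = 0 := by
  let S : CochainComplex X.Modules ℤ := (HomologicalComplex.single X.Modules (ComplexShape.up ℤ) 0).obj M
  haveI : S.IsKInjective := by
    haveI : S.IsStrictlyGE 0 := (S.isStrictlyGE_iff 0).2 fun i hi =>
      HomologicalComplex.isZero_single_obj_X _ _ _ _ (by omega)
    haveI : ∀ n, Injective (S.X n) := fun n => by
      by_cases hn : n = 0
      · subst hn
        exact Injective.of_iso (HomologicalComplex.singleObjXSelf (ComplexShape.up ℤ) 0 M).symm inferInstance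
      · haveI := (HomologicalComplex.isZero_single_obj_X (ComplexShape.up ℤ) 0 M n hn)
        exact IsZero.injective this
    exact CochainComplex.isKInjective_of_injective S 0
  let K := Q.objPreimage T
  let e : Q.obj K ≅ T := Q.objObjPreimageIso T
  let eS : DCoh.inD X M ≅ Q.obj S := (DerivedCategory.singleFunctorIsoCompQ X.Modules 0).app M
  have hK : IsZero (K.homology 0) := (h.of_iso ((DerivedCategory.homologyFunctor _ 0).mapIso e)).of_iso
    ((DerivedCategory.homologyFunctorFactors X.Modules 0).app K).symm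
  haveI : Mono (K.fromOpcycles 0 1) :=
    Preadditive.mono_of_isZero_kernel' _ (K.homologyIsKernel 0 1 (by simp)) hK
  suffices hz : ∀ g : Q.obj K ⟶ Q.obj S, g = 0 by
    rw [← cancel_epi e.hom, ← cancel_mono eS.hom, comp_zero, zero_comp, Category.assoc]
    exact hz _
  intro g
  obtain ⟨c, rfl⟩ := Q_map_surjective g
  let c₀ : K.X 0 ⟶ M := c.f 0 ≫ (HomologicalComplex.singleObjXSelf (ComplexShape.up ℤ) 0 M).hom
  have h1 : K.d (-1) 0 ≫ c₀ = 0 := by
    rw [← Category.assoc, ← c.comm]
    simp [S, HomologicalComplex.single_obj_d]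
  let d₀ : K.opcycles 0 ⟶ M := K.descOpcycles c₀ (-1) (by simp) h1
  let l : K.X 1 ⟶ M := Injective.factorThru d₀ (K.fromOpcycles 0 1)
  have hl : K.d 0 1 ≫ l = c₀ := by
    rw [← K.p_fromOpcycles 0 1, Category.assoc, Injective.comp_factorThru, HomologicalComplex.p_descOpcycles]
  refine Q_map_eq_zero_of_null ?_
  exact {
    hom := fun i j => if hij : i = 1 ∧ j = 0 then
      eqToHom (by rw [hij.1]) ≫ l ≫ (HomologicalComplex.singleObjXSelf (ComplexShape.up ℤ) 0 M).inv ≫
        eqToHom (by rw [hij.2]) else 0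
    zero := fun i j hij => dif_neg fun h => hij (by rw [h.1, h.2]; simp)
    comm := fun i => by
      by_cases hi : i = 0
      · subst hi
        rw [dNext_eq _ (show (ComplexShape.up ℤ).Rel 0 1 from rfl),
          prevD_eq _ (show (ComplexShape.up ℤ).Rel (-1) 0 by simp)]
        simp [S, HomologicalComplex.single_obj_d, reassoc_of% hl, c₀]
      · exact (HomologicalComplex.isZero_single_obj_X (ComplexShape.up ℤ) 0 M i hi).eq_of_tgt _ _ }

/-- The structure module of the spectrum of a field is injective. -/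
theorem injective_structure_spec_field (k : Type u) [Field k] :
    Injective (Coh.structureModule (Spec (CommRingCat.of k))) :=
  Injective.of_iso (tildeSelf (R := CommRingCat.of k))
    (InjTilde20.injective_tilde (R := CommRingCat.of k) (ModuleCat.of (CommRingCat.of k) (CommRingCat.of k))
      (Module.injective_of_isSemisimpleRing k k))

/-- Over a field, duals reverse the vanishing of cohomology. -/
theorem isZero_HD_dual_spec_field {k : Type u} [Field k] (M : CochainComplex (Spec (CommRingCat.of k)).Modules ℤ)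
    (hM : DCoh.IsPerfect (DCoh.toD (Spec (CommRingCat.of k)) M)) [DCoh.HasLTensorCx M] [DCoh.HasRSheafHom M] (l l' : ℤ)
    (hll : l + l' = 0) (h : IsZero (DCoh.HD (DCoh.toD (Spec (CommRingCat.of k)) M) l)) :
    IsZero (DCoh.HD ((DCoh.RSheafHom M).obj (DCoh.inD (Spec (CommRingCat.of k))
      (Coh.structureModule (Spec (CommRingCat.of k))))) l') := by
  rw [KSix19.ProjPush.isZero_HD_iff_hom
    (isQCohD_of_isPerfect (isPerfect_RSheafHom_of_perfect M hM (isPerfect_unit _)))]
  intro φ
  apply ((DCoh.RSheafHomAdj M).homEquiv _ _).symm.injective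
  rw [show ((DCoh.RSheafHomAdj M).homEquiv _ _).symm 0 =
    ((DCoh.RSheafHomAdj M).homEquiv _ _).symm 0 from rfl]
  haveI := injective_structure_spec_field k
  let O := Coh.structureModule (Spec (CommRingCat.of k))
  let T := (DCoh.LTensorCx M).obj ((DerivedCategory.singleFunctor _ l').obj O)
  have hT : IsZero (DCoh.HD T 0) := by
    obtain ⟨s⟩ := nonempty_ltensorCx_obj_shift M (DCoh.inD (Spec (CommRingCat.of k)) O) (-l')
    obtain ⟨u⟩ := Detect22.nonempty_ltensor_unit M
    refine h.of_iso ((DerivedCategory.homologyFunctor _ 0).mapIso ((DCoh.LTensorCx M).mapIso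
      (((DerivedCategory.singleFunctors _).shiftIso (-l') l' 0 (by omega)).app O).symm ≪≫ s ≪≫
      (shiftFunctor _ (-l')).mapIso ((DCoh.LTensorCx M).mapIso (unitCxQIso _).symm ≪≫ u.symm)) ≪≫
      ((DerivedCategory.homologyFunctor _ 0).shiftIso (-l') 0 l (by omega)).app _)
  exact (hom_single_injective_eq_zero O T hT _).trans (hom_single_injective_eq_zero O T hT _).symm

variable {Y : Scheme.{u}}

/-- An invertible module in degree zero is locally the unit. -/
theorem locUnit_inD {N : Y.Modules} (hN : PicF.IsInvertible N) : FMAdj25.LocUnit (DCoh.inD Y N) := fun x => by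
  obtain ⟨U, hx, ⟨i⟩⟩ := hN x
  exact ⟨U, U.ι, inferInstance, 0, ⟨⟨x, hx⟩, rfl⟩,
    ⟨((Scheme.Modules.restrictFunctor U.ι).mapDerivedCategorySingleFunctor 0).app _ ≪≫
      (DerivedCategory.singleFunctor _ 0).mapIso i ≪≫ ((shiftFunctorZero (DCoh.D (U : Scheme.{u})) ℤ).app _).symm⟩⟩

/-- Inverse powers. -/
theorem nonempty_tensorPow_inverse {L L' : Y.Modules} (hL : PicF.IsInvertible L)
    (h : Nonempty (CohB1.tensorMod L L' ≅ Coh.structureModule Y)) (n : ℕ) :
    PicF.IsInvertible (CohB1.tensorPow L' n) ∧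
      Nonempty (CohB1.tensorMod (CohB1.tensorPow L n) (CohB1.tensorPow L' n) ≅ Coh.structureModule Y) := by
  obtain ⟨e⟩ := h
  have hL' : PicF.IsInvertible L' := KL.isInvertible_of_tensor_iso e hL Euler.isInvertible_structure
  refine ⟨Ample.isInvertible_tensorPow hL' n,
    (Cube.clsMod_eq_one_iff (Ample.isInvertible_tensorMod (Ample.isInvertible_tensorPow hL n) (Ample.isInvertible_tensorPow hL' n))).1 ?_⟩
  rw [Cube.clsMod_tensorMod (Ample.isInvertible_tensorPow hL n) (Ample.isInvertible_tensorPow hL' n),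
    Cube.clsMod_tensorPow hL, Cube.clsMod_tensorPow hL', ← mul_pow,
    ← Cube.clsMod_tensorMod hL hL', (Cube.clsMod_eq_one_iff _).2 ⟨e⟩, one_pow]

/-- The dual of an invertible module in degree zero. -/
theorem nonempty_dual_invertible {N N' : Y.Modules} (hN : PicF.IsInvertible N) (hN' : PicF.IsInvertible N')
    (e : CohB1.tensorMod N N' ≅ Coh.structureModule Y)
    (W : CochainComplex Y.Modules ℤ) (hW : DCoh.IsKFlat W) (eW : DCoh.toD Y W ≅ DCoh.inD Y N')
    [DCoh.HasLTensorCx W] [DCoh.HasRSheafHom W] :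
    Nonempty ((DCoh.RSheafHom W).obj (DCoh.inD Y (Coh.structureModule Y)) ≅ DCoh.inD Y N) := by
  obtain ⟨h₁, h₂⟩ := FinSupp15.exact_tF hN'
  haveI := h₁
  haveI := h₂
  let S' := (HomologicalComplex.single Y.Modules (ComplexShape.up ℤ) 0).obj N'
  haveI := hasLTensorCx S'
  obtain ⟨cW⟩ := nonempty_ltensorCx_congr_of_iso (eW ≪≫ (FMInv15.singleQIso N').symm : Q.obj W ≅ Q.obj S')
  obtain ⟨t⟩ := FMInv15.nonempty_ltensorCx_single hN'
  let c : (Euler.tF N').obj N ≅ Coh.structureModule Y := e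
  let u : (DCoh.LTensorCx W).obj (DCoh.inD Y N) ≅ DCoh.inD Y (Coh.structureModule Y) :=
    (cW ≪≫ t).app _ ≪≫ ((Euler.tF N').mapDerivedCategorySingleFunctor 0).app N ≪≫
      (DerivedCategory.singleFunctor Y.Modules 0).mapIso c
  haveI : (DCoh.LTensorCx W).IsEquivalence := by
    haveI : (Euler.tF N').IsEquivalence := FundIso27.isEquivalence_tensor hN'
    let E := (Euler.tF N').asEquivalence
    haveI : E.functor.Additive := inferInstanceAs ((Euler.tF N').Additive)
    haveI : E.inverse.Additive := inferInstance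
    haveI : PreservesFiniteLimits E.functor := inferInstance
    haveI : PreservesFiniteColimits E.functor := inferInstance
    haveI : PreservesFiniteLimits E.inverse := inferInstance
    haveI : PreservesFiniteColimits E.inverse := inferInstance
    haveI : (Euler.tF N').mapDerivedCategory.IsEquivalence := AffineHom22.isEquivalence_mapDerived E
    exact Functor.isEquivalence_of_iso (cW ≪≫ t).symm
  haveI : IsIso ((DCoh.RSheafHomAdj W).unit.app (DCoh.inD Y N)) := inferInstance
  exact ⟨(DCoh.RSheafHom W).mapIso u.symm ≪≫ (asIso ((DCoh.RSheafHomAdj W).unit.app (DCoh.inD Y N))).symm⟩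

/-- **Serre duality, vanishing form.** -/
theorem isZero_rGamma_of_dual {k : Type u} [Field k] (b : Y ⟶ Spec (CommRingCat.of k)) [IsProper b]
    (hcm : ∀ y : ↥Y, LocCoh.IsCohenMacaulayLocalRing ↑(Y.presheaf.stalk y)) (g : ℕ)
    (hYeq : ∀ Z ∈ irreducibleComponents ↥Y, topologicalKrullDim ↥Z = (g : WithBot ℕ∞))
    [DCoh.HasRpush b] (hb : DCoh.RpushPreservesQCoh b)
    {bdx : DCoh.DQCoh (Spec (CommRingCat.of k)) ⥤ DCoh.DQCoh Y} (adj : DCoh.RpushQ b hb ⊣ bdx)
    (O : DCoh.DQCoh (Spec (CommRingCat.of k)))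
    (hO : Nonempty (O.obj ≅ DCoh.inD (Spec (CommRingCat.of k)) (Coh.structureModule (Spec (CommRingCat.of k)))))
    [DCoh.HasRΓ Y]
    (A DA : CochainComplex Y.Modules ℤ) (hA : DCoh.IsKFlat A) (hAp : DCoh.IsPerfect (DCoh.toD Y A))
    [DCoh.HasLTensorCx A] [DCoh.HasRSheafHom A] [DCoh.HasLTensorCx DA]
    (iA : DCoh.toD Y DA ≅ (DCoh.RSheafHom A).obj (DCoh.inD Y (Coh.structureModule Y))) (i j : ℤ)
    (hij : i + j = (g : ℤ))
    (h : IsZero ((DerivedCategory.homologyFunctor AddCommGrpCat.{u} j).obj ((DCoh.RΓ Y).obj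
      ((DCoh.LTensorCx DA).obj (DCoh.inD Y (DCoh.HD (bdx.obj O).obj (-(g : ℤ)))))))) :
    IsZero ((DerivedCategory.homologyFunctor AddCommGrpCat.{u} i).obj ((DCoh.RΓ Y).obj (DCoh.toD Y A))) := by
  let S := Spec (CommRingCat.of k)
  haveI : IsNoetherian S := inferInstance
  haveI : CompactSpace Y := QuasiCompact.compactSpace_of_compactSpace b
  haveI : QuasiSeparatedSpace Y := quasiSeparatedSpace_of_quasiSeparated b
  let ω := DCoh.inD Y (DCoh.HD (bdx.obj O).obj (-(g : ℤ)))
  obtain ⟨B, _, _, ⟨eB⟩, hB⟩ := nonempty_RR_RSheafHom b A hAp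
  have hBp : DCoh.IsPerfect (Q.obj B) := by
    obtain ⟨l, hl⟩ := KSix19.ProjPush.exists_isGE_of_isPerfect hAp
    exact isPerfect_of_iso (@KSix19.RelNoeth.isPerfect_Rpush _ _ _ b _ (ShriekPerf22.isPerfectMor_of_flat b) _ _ l hl hAp)
      ((rpushIsoRres b).app _ ≪≫ eB.symm)
  obtain ⟨r⟩ := hB O (isQCohD_RSheafHom_of_perfect B hBp O.property)
  obtain ⟨s⟩ := nonempty_dualizing_single b hcm g hYeq hb adj O hO
  obtain ⟨t⟩ := nonempty_tensor_dual_iso A DA hA hAp iA ((shiftFunctor (DCoh.D Y) (g : ℤ)).obj ω)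
  obtain ⟨sh⟩ := nonempty_ltensorCx_obj_shift DA ω (g : ℤ)
  let W := (DCoh.LTensorCx DA).obj ω
  let eW : (DCoh.RSheafHom A).obj ((aQ b).obj O).obj ≅ (shiftFunctor (DCoh.D Y) (g : ℤ)).obj W :=
    (DCoh.RSheafHom A).mapIso ((DCoh.IsQCohD (X := Y)).ι.mapIso ((aQUniq b hb adj).app O).symm ≪≫ s) ≪≫
      t.symm ≪≫ sh
  have hq : DCoh.IsQCohD W := by
    have h1 := isQCohD_RSheafHom_of_perfect A hAp ((aQ b).obj O).property
    intro l
    exact isQCoh_of_iso (((DerivedCategory.homologyFunctor _ (l - g)).mapIso eW) ≪≫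
      ((DerivedCategory.homologyFunctor Y.Modules 0).shiftIso (g : ℤ) (l - g) l (by omega)).app W) (h1 (l - g))
  have h0 : IsZero (DCoh.HD ((RR b).obj W) j) := (isZero_rGamma_iff_Rres b hq j).1 h
  obtain ⟨eO⟩ := hO
  have h2 : IsZero (DCoh.HD ((DCoh.RSheafHom B).obj (DCoh.inD S (Coh.structureModule S))) (j - g)) :=
    h0.of_iso ((DerivedCategory.homologyFunctor _ (j - g)).mapIso
      ((DCoh.RSheafHom B).mapIso eO.symm ≪≫ r.symm ≪≫ (RR b).mapIso eW ≪≫ ((RR b).commShiftIso (g : ℤ)).app W) ≪≫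
      ((DerivedCategory.homologyFunctor S.Modules 0).shiftIso (g : ℤ) (j - g) j (by omega)).app _)
  obtain ⟨B₀, hB₀, ⟨eB₀⟩⟩ := exists_kflat_rep (DCoh.toD S B)
  haveI := hasLTensorCx B₀
  haveI := hasRSheafHom B₀
  obtain ⟨cB⟩ := nonempty_RSheafHom_congr (E := B₀) (E' := B) eB₀
  obtain ⟨D, hD, _, _, hDp, ⟨iB⟩, ⟨iD⟩⟩ :=
    RightAdj20.exists_dual_pair B₀ hB₀ (isPerfect_of_iso hBp eB₀.symm)
  have h3 : IsZero (DCoh.HD (DCoh.toD S D) (j - g)) :=
    h2.of_iso ((DerivedCategory.homologyFunctor _ (j - g)).mapIso (iD ≪≫ cB.app _))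
  have h4 : IsZero (DCoh.HD (Q.obj B) i) := (isZero_HD_dual_spec_field D hDp (j - g) i (by omega) h3).of_iso
    ((DerivedCategory.homologyFunctor _ i).mapIso (eB₀.symm ≪≫ iB))
  exact (isZero_rGamma_iff_Rres b (isQCohD_of_isPerfect hAp) i).2
    (h4.of_iso ((DerivedCategory.homologyFunctor _ i).mapIso eB.symm))

end GrothLib.FMK22
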