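import Groth.Agent.Lib.OX.ProjPerfect
import Groth.Agent.Lib.OX.RRLocal
import Groth.Agent.Lib.OX.RpushQCoh
import Groth.Agent.Lib.OX.LTensorCx
import Groth.Agent.Lib.OX.PullbackKFlat
import Groth.Agent.Lib.OX.LTensor
import Groth.Agent.Lib.OX.InjKSES

/-! # Hypercohomology and the projection formula for perfect complexes -/

set_option autoImplicit false
set_option maxHeartbeats 1000000
universe u

open CategoryTheory CategoryTheory.Limits AlgebraicGeometry HomologicalComplex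
open DerivedCategory (Q Qh)

attribute [local instance] HasDerivedCategory.standard

namespace GrothLib.FMK22

open GrothLib.OX

variable {X Y : Scheme.{u}}

/-- `RΓ(Y, Rf_* E) = RΓ(X, E)`. -/
theorem nonempty_rGamma_rpush (f : X ⟶ Y) [DCoh.HasRpush f] [DCoh.HasRΓ X] [DCoh.HasRΓ Y] (E : DCoh.D X) :
    Nonempty ((DCoh.RΓ Y).obj ((DCoh.Rpush f).obj E) ≅ (DCoh.RΓ X).obj E) :=
  ⟨(DCoh.RΓ Y).mapIso ((rpushIsoRres f).app E) ≪≫
    (KInj.totalRightDerivedIso (DCoh.gammaKh Y)).app _ ≪≫ (RΓRRIso f).app E ≪≫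
    ((KInj.totalRightDerivedIso (DCoh.gammaKh X)).app E).symm⟩

/-- Every object of the derived category is represented by a K-injective complex of injectives. -/
theorem exists_injK_rep (E : DCoh.D X) :
    ∃ A : CochainComplex X.Modules ℤ, InjK A ∧ Nonempty (Q.obj A ≅ E) := by
  obtain ⟨I, ι, hI, hq, -, hinj⟩ := CohDer19.exists_mono_kInjective_resolution (Q.objPreimage E)
  exact ⟨I, ⟨hinj, hI⟩, ⟨(asIso (Q.map ι)).symm ≪≫ Q.objObjPreimageIso E⟩⟩

/-- **Projection formula for a K-flat perfect complex.** -/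
theorem nonempty_proj_kflat (f : X ⟶ Y) [DCoh.HasRpush f] (P : CochainComplex Y.Modules ℤ)
    (hP : DCoh.IsKFlat P) (hperf : DCoh.IsPerfect (Q.obj P))
    [DCoh.HasLTensorCx P] [DCoh.HasLTensorCx ((pullCxF f).obj P)] (E : DCoh.D X) :
    Nonempty ((DCoh.LTensorCx P).obj ((DCoh.Rpush f).obj E) ≅
      (DCoh.Rpush f).obj ((DCoh.LTensorCx ((pullCxF f).obj P)).obj E)) := by
  obtain ⟨A, hA, ⟨e⟩⟩ := exists_injK_rep E
  haveI := hA.kInj
  have hu : IsIso (pushUnit f A) :=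
    map_isIso_of (DCoh.pushKh f)
      (KInj.isIso_unit_of_rightOrthogonal (CochainComplex.IsKInjective.rightOrthogonal A))
  obtain ⟨v⟩ := ltensorCx_value_of_isKFlat P hP ((pushCxF f).obj A)
  obtain ⟨w⟩ := ltensorCx_value_of_isKFlat ((pullCxF f).obj P) (isKFlat_pullback f hP) A
  haveI := isIso_projD_of_perfect f hA P hP hperf
  let c : (DCoh.Rpush f).obj (Q.obj A) ≅ Q.obj ((pushCxF f).obj A) :=
    (rpushIsoRres f).app _ ≪≫ (SiteDer.Rres (rmor f)).mapIso ((DerivedCategory.quotientCompQhIso X.Modules).symm.app A) ≪≫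
      (asIso (pushUnit f A)).symm ≪≫ (DerivedCategory.quotientCompQhIso Y.Modules).app ((pushCxF f).obj A)
  exact ⟨(DCoh.LTensorCx P).mapIso ((DCoh.Rpush f).mapIso e.symm ≪≫ c) ≪≫ v ≪≫
    Q.mapIso (tensorCxSymm _ _) ≪≫ (DerivedCategory.quotientCompQhIso Y.Modules).symm.app _ ≪≫ asIso (projD f P A) ≪≫
    ((rpushIsoRres f).app _).symm ≪≫ (DCoh.Rpush f).mapIso ((DerivedCategory.quotientCompQhIso X.Modules).app _ ≪≫
      Q.mapIso (tensorCxSymm _ _) ≪≫ w.symm ≪≫ (DCoh.LTensorCx ((pullCxF f).obj P)).mapIso e)⟩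

/-- The derived tensor product depends on the complex only up to isomorphism in the derived category. -/
theorem nonempty_ltensorCx_congr {M N : CochainComplex X.Modules ℤ} [DCoh.HasLTensorCx M] [DCoh.HasLTensorCx N]
    (e : Q.obj M ≅ Q.obj N) (E : DCoh.D X) :
    Nonempty ((DCoh.LTensorCx M).obj E ≅ (DCoh.LTensorCx N).obj E) := by
  obtain ⟨P, hP, ⟨eP⟩⟩ := exists_kflat_rep E
  haveI := hasLTensorCx P
  obtain ⟨vM⟩ := ltensorCx_value M P hP
  obtain ⟨vN⟩ := ltensorCx_value N P hP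
  obtain ⟨aM⟩ := ltensorCx_value_of_isKFlat P hP M
  obtain ⟨aN⟩ := ltensorCx_value_of_isKFlat P hP N
  exact ⟨(DCoh.LTensorCx M).mapIso eP.symm ≪≫ vM ≪≫ Q.mapIso (tensorCxSymm M P) ≪≫ aM.symm ≪≫
    (DCoh.LTensorCx P).mapIso e ≪≫ aN ≪≫ Q.mapIso (tensorCxSymm N P).symm ≪≫ vN.symm ≪≫
    (DCoh.LTensorCx N).mapIso eP⟩

end GrothLib.FMK22
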