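import Groth.Agent.Lib.FMK22.Hyper
import Groth.Agent.Lib.FMInv15.Tensor
import Groth.Agent.Lib.GVanish.Sober
import Groth.Agent.Lib.OX.CompactBdd
import Groth.Agent.Lib.Euler.TensorSupport
import Groth.Agent.Lib.OX.LocFreeTensor
import Groth.Agent.Lib.AmpSpread10.InvModel
import Groth.Agent.Lib.CohAmple24.Dim

/-! # Hypercohomology vanishing from the codimension of the supports of the cohomology sheaves -/

set_option autoImplicit false
set_option maxHeartbeats 1000000
set_option linter.style.haveILetI false
universe u

open CategoryTheory CategoryTheory.Limits CategoryTheory.Pretriangulated AlgebraicGeometry Opposite HomologicalComplex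
attribute [local instance] HasDerivedCategory.standard

noncomputable section

namespace GrothLib.FMK22

open GrothLib.OX

variable {X : Scheme.{u}}

/-- A bounded object receives no maps from `T` if none of its cohomology objects does. -/
theorem hom_eq_zero_of_cohomology {A : Type*} [Category A] [Abelian A] [HasDerivedCategory A] (T : DerivedCategory A)
    (m : ℕ) : ∀ (E : DerivedCategory A) (a : ℤ) [E.IsGE a] [E.IsLE (a + m)],
      (∀ (j : ℤ) (ψ : T ⟶ (DerivedCategory.singleFunctor A j).obj ((DerivedCategory.homologyFunctor A j).obj E)), ψ = 0) →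
      ∀ φ : T ⟶ E, φ = 0 := by
  induction m with
  | zero =>
    intro E a _ hLE h φ
    haveI : E.IsLE a := by simpa using hLE
    obtain ⟨e⟩ := DerTrunc.nonempty_iso_single E a
    rw [← cancel_mono e.hom, zero_comp]
    exact h a _
  | succ m ih =>
    intro E a hGE hLE h φ
    obtain ⟨b, hb⟩ : ∃ b, b = a + (m + 1 : ℕ) := ⟨_, rfl⟩
    rw [← hb] at hLE
    let t := DerivedCategory.TStructure.t (C := A)
    let E₁ := (t.truncLT b).obj E
    let E₂ := (t.truncGE b).obj E
    haveI : E₁.IsLE (a + m) := t.isLE_truncLT_obj E b (a + m) (by omega)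
    haveI : E₁.IsGE a := inferInstanceAs (t.IsGE ((t.truncLT b).obj E) a)
    haveI : E₂.IsGE b := inferInstanceAs (t.IsGE ((t.truncGE b).obj E) b)
    haveI : E₂.IsLE b := inferInstanceAs (t.IsLE ((t.truncGE b).obj E) b)
    obtain ⟨e₂⟩ := DerTrunc.nonempty_iso_single E₂ b
    haveI := DerTrunc.isIso_homology_truncGEπ E b b le_rfl
    let c := (DerivedCategory.singleFunctor A b).mapIso
      (asIso ((DerivedCategory.homologyFunctor A b).map ((t.truncGEπ b).app E)))
    have h2 : φ ≫ (t.truncGEπ b).app E = 0 := by
      rw [← cancel_mono (e₂ ≪≫ c.symm).hom, zero_comp]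
      exact h b _
    obtain ⟨ψ, hψ⟩ := Triangle.coyoneda_exact₂ _ (t.triangleLTGE_distinguished b E) φ h2
    have h1 : ψ = 0 := ih E₁ a (fun j χ => by
      by_cases hj : j < b
      · haveI := DerTrunc.isIso_homology_truncLTι E b j hj
        let d := (DerivedCategory.singleFunctor A j).mapIso
          (asIso ((DerivedCategory.homologyFunctor A j).map ((t.truncLTι b).app E)))
        rw [← cancel_mono d.hom, zero_comp]
        exact h j _
      · exact ((DerivedCategory.singleFunctor A j).map_isZero
          (DerTrunc.isZero_homology_truncLT E b j (by omega))).eq_of_tgt _ _) ψ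
    rw [hψ, h1]
    exact zero_comp

/-- Maps out of the shifted structure sheaf into a shifted module are cohomology classes. -/
theorem hom_single_eq_zero (M : X.Modules) (i j : ℤ)
    (h : ∀ p : ℕ, (p : ℤ) = i - j → Subsingleton (Coh.HH X M p))
    (φ : (DerivedCategory.singleFunctor X.Modules i).obj (Coh.structureModule X) ⟶
      (DerivedCategory.singleFunctor X.Modules j).obj M) : φ = 0 := by
  by_cases hij : i < j
  · exact DerivedCategory.TStructure.t.zero_of_isLE_of_isGE φ i j hij
      (inferInstanceAs (((DerivedCategory.singleFunctor X.Modules i).obj (Coh.structureModule X)).IsLE i))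
      (inferInstanceAs (((DerivedCategory.singleFunctor X.Modules j).obj M).IsGE j))
  · obtain ⟨p, hp⟩ : ∃ p : ℕ, (p : ℤ) = i - j := ⟨(i - j).toNat, by omega⟩
    obtain ⟨e⟩ := nonempty_ext_genTop_equiv M p
    haveI := h p hp
    haveI := e.subsingleton
    have h0 : ∀ ψ : (DerivedCategory.singleFunctor X.Modules 0).obj ((genF X).obj ⊤) ⟶
        ((DerivedCategory.singleFunctor X.Modules 0).obj M)⟦(p : ℤ)⟧, ψ = 0 := fun ψ =>
      (Abelian.Ext.homEquiv (C := X.Modules) (X := (genF X).obj ⊤) (Y := M) (n := p)).symm.injective (Subsingleton.elim _ _)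
    let s₁ : ((DerivedCategory.singleFunctor X.Modules i).obj ((genF X).obj ⊤))⟦i⟧ ≅
        (DerivedCategory.singleFunctor X.Modules 0).obj ((genF X).obj ⊤) :=
      ((SingleFunctors.shiftIso (DerivedCategory.singleFunctors X.Modules) i 0 i (by omega))).app _
    let s₂ : ((DerivedCategory.singleFunctor X.Modules j).obj M)⟦i⟧ ≅
        ((DerivedCategory.singleFunctor X.Modules 0).obj M)⟦(p : ℤ)⟧ :=
      (shiftFunctorAdd' (DCoh.D X) j (p : ℤ) i (by omega)).app _ ≪≫
        (shiftFunctor (DCoh.D X) (p : ℤ)).mapIso
          (((SingleFunctors.shiftIso (DerivedCategory.singleFunctors X.Modules) j 0 j (by omega))).app M)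
    let g := (DerivedCategory.singleFunctor X.Modules i).mapIso (genTopIso X)
    rw [← cancel_epi g.hom, comp_zero]
    apply (shiftFunctor (DCoh.D X) i).map_injective
    rw [Functor.map_zero, ← cancel_epi s₁.inv, ← cancel_mono s₂.hom, comp_zero, zero_comp]
    exact h0 _

/-- Cohomology vanishes above `g - c` for modules supported in codimension at least `c`. -/
theorem subsingleton_HH_of_codim [IsNoetherian X] (g : ℕ) (hg : topologicalKrullDim ↥X ≤ (g : WithBot ℕ∞))
    (M : X.Modules) (c : ℕ)
    (hM : ∀ x : X, x ∈ CohB1.support M → (c : WithBot ℕ∞) ≤ ringKrullDim (X.presheaf.stalk x))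
    (p : ℕ) (hp : g + 1 ≤ p + c) : Subsingleton (Coh.HH X M p) := by
  have hco : ∀ x : X, Order.coheight x ≤ (g : ℕ∞) := fun x => by
    have h : ringKrullDim (X.presheaf.stalk x) ≤ (g : WithBot ℕ∞) := by
      refine le_trans ?_ hg
      rw [GrothLib.AlgSp.topologicalKrullDim_eq_iSup_stalk]
      exact le_iSup (fun z : X => ringKrullDim (X.presheaf.stalk z)) x
    rw [ringKrullDim_stalk_eq_coheight] at h
    exact WithBot.coe_le_coe.1 h
  let rk : X → ℕ := fun x => g - (Order.coheight x).toNat
  have hne : ∀ x : X, Order.coheight x ≠ ⊤ := fun x => ne_top_of_le_ne_top (ENat.coe_ne_top g) (hco x)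
  have hn : ∀ x : X, (Order.coheight x).toNat ≤ g := fun x => by
    have := ENat.toNat_le_toNat (hco x) (ENat.coe_ne_top g)
    simpa using this
  haveI : TopologicalSpace.NoetherianSpace (X.toTopCat : Type u) := inferInstanceAs (TopologicalSpace.NoetherianSpace ↥X)
  haveI : QuasiSober (X.toTopCat : Type u) := inferInstanceAs (QuasiSober ↥X)
  have hrk : ∀ η x : ↥X, η ⤳ x → η ≠ x → rk x < rk η := fun η x hηx hne' => by
    have hlt : (x : X) < (η : X) := by
      refine lt_of_le_not_ge hηx fun h => hne' ?_
      exact (Specializes.antisymm hηx h).eq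
    have h1 := Order.coheight_strictAnti hlt ((hco η).trans_lt (ENat.coe_lt_top g))
    have h2 : (Order.coheight (η : X)).toNat < (Order.coheight (x : X)).toNat := by
      have a1 := ENat.natCast_toNat (hne η)
      have a2 := ENat.natCast_toNat (hne x)
      rw [← a1, ← a2] at h1
      exact_mod_cast h1
    have := hn x
    show g - (Order.coheight (x : X)).toNat < g - (Order.coheight (η : X)).toNat
    omega
  have hz : ∀ x : ↥X, g + 1 - c ≤ rk x → IsZero ((Godement25.st' (X := X.toTopCat) x).obj (Coh.toAb M)) := fun x hx => by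
    haveI : Subsingleton (M.presheaf.stalk x) := by
      by_contra hx'
      have h := hM x hx'
      rw [ringKrullDim_stalk_eq_coheight] at h
      have h' := ENat.toNat_le_toNat (WithBot.coe_le_coe.1 h) (hne x)
      have hx'' : g + 1 - c ≤ g - (Order.coheight (x : X)).toNat := hx
      have := hn x
      rw [ENat.toNat_coe] at h'
      omega
    exact AddCommGrpCat.isZero_of_subsingleton (M.presheaf.stalk x)
  exact GVanish.subsingleton_H_of_support (X := X.toTopCat) rk hrk (g + 1 - c) (Coh.toAb M) hz p (by omega)

/-- Twisting by a finite locally free module does not enlarge the support. -/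
theorem support_tF_subset_finLocFree {M N : X.Modules} (hN : FlatMod.IsFinLocFree N) :
    CohB1.support ((Euler.tF N).obj M) ⊆ CohB1.support M := fun x hx hs => by
  haveI := hs
  exact hx (Ref1.tensorStalk M N x).toEquiv.subsingleton

/-- Tensoring with a finite locally free module is exact. -/
theorem exact_tF_finLocFree {N : X.Modules} (hN : FlatMod.IsFinLocFree N) :
    PreservesFiniteLimits (Euler.tF N) ∧ PreservesFiniteColimits (Euler.tF N) := by
  obtain ⟨hl, hr⟩ := FunMor20.exact_pullback_tensor (𝟭 X.Modules) (𝟙 X) N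
    ((AmpSpread10.isFlat_iff_isFlatOver_id N).1 (flat_of_isFinLocFree hN))
  let η : (𝟭 X.Modules) ⋙ Scheme.Modules.pullback (𝟙 X) ⋙ DCoh.tensorRightMod N ≅ Euler.tF N :=
    Functor.leftUnitor _ ≪≫ Functor.isoWhiskerRight (Scheme.Modules.pullbackId X) _ ≪≫ Functor.leftUnitor _ ≪≫
      OX.tensorRightModIso N
  haveI := hl
  haveI := hr
  exact ⟨preservesFiniteLimits_of_natIso η, preservesFiniteColimits_of_natIso η⟩

/-- The derived tensor product with a finite locally free module in degree zero is the twist. -/
theorem nonempty_ltensorCx_single_finLocFree {N : X.Modules}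
    [PreservesFiniteLimits (Euler.tF N)] [PreservesFiniteColimits (Euler.tF N)]
    [DCoh.HasLTensorCx ((single X.Modules (ComplexShape.up ℤ) 0).obj N)] :
    Nonempty (DCoh.LTensorCx ((single X.Modules (ComplexShape.up ℤ) 0).obj N) ≅
      (Euler.tF N).mapDerivedCategory) := by
  let T := Euler.tF N
  let S := (single X.Modules (ComplexShape.up ℤ) 0).obj N
  let α : DerivedCategory.Q ⋙ T.mapDerivedCategory ⟶ DCoh.tensorCxQ S :=
    T.mapDerivedCategoryFactors.hom ≫ Functor.whiskerRight (FMInv15.singleNatIso N).hom DerivedCategory.Q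
  haveI : T.mapDerivedCategory.IsLeftDerivedFunctor α
      (HomologicalComplex.quasiIso X.Modules (ComplexShape.up ℤ)) :=
    (cxResolvable_tensor S).isLeftDerivedFunctor _ α fun A hA => by
      simp only [α, NatTrans.comp_app, Functor.whiskerRight_app]
      infer_instance
  exact ⟨Functor.leftDerivedUnique _ _ ((DCoh.tensorCxQ S).totalLeftDerivedCounit DerivedCategory.Q
    (HomologicalComplex.quasiIso X.Modules (ComplexShape.up ℤ))) α
    (HomologicalComplex.quasiIso X.Modules (ComplexShape.up ℤ))⟩

/-- Local rings have dimension at most that of the space. -/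
theorem ringKrullDim_stalk_le (x : X) : ringKrullDim (X.presheaf.stalk x) ≤ topologicalKrullDim ↥X := by
  rw [GrothLib.AlgSp.topologicalKrullDim_eq_iSup_stalk]
  exact le_iSup (fun z : X => ringKrullDim (X.presheaf.stalk z)) x

/-- Supports are invariant under isomorphism. -/
theorem mem_support_of_iso {M M' : X.Modules} (e : M ≅ M') {x : X} (hx : x ∈ CohB1.support M) :
    x ∈ CohB1.support M' := fun h => by
  haveI : Subsingleton ((TopCat.Presheaf.stalkFunctor AddCommGrpCat.{u} x).obj ((Scheme.Modules.toPresheaf X).obj M')) := h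
  exact hx ((TopCat.Presheaf.stalkFunctor AddCommGrpCat.{u} x).mapIso
    ((Scheme.Modules.toPresheaf X).mapIso e)).addCommGroupIsoToAddEquiv.toEquiv.subsingleton

end GrothLib.FMK22
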