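import Groth.Agent.Lib.FMK22.PdBound
import Groth.Agent.Lib.FMK22.SuppVanish
import Groth.Agent.Lib.OX.SingleDegree
import Groth.Agent.Lib.OX.HomQCoh
import Groth.Agent.Lib.ShriekLine22.Main
import Groth.Agent.Lib.TensorPerf20.Main
import Groth.Agent.Lib.OX.FibreRank

/-! # Amplitude of perfect complexes from the vanishing of low cohomology, and their duals -/

set_option autoImplicit false
set_option maxHeartbeats 1000000
set_option linter.style.haveILetI false
set_option backward.isDefEq.respectTransparency false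
universe u

open CategoryTheory CategoryTheory.Limits CategoryTheory.Pretriangulated AlgebraicGeometry HomologicalComplex
open DerivedCategory (Q)
attribute [local instance] HasDerivedCategory.standard

noncomputable section

namespace GrothLib.FMK22

open GrothLib.OX

variable {Y : Scheme.{u}}

/-- The stalk of a complex. -/
abbrev stCx {U : Scheme.{u}} (u : U) (P : CochainComplex U.Modules ℤ) :
    CochainComplex (ModuleCat.{u} (U.presheaf.stalk u)) ℤ :=
  ((stalk u).mapHomologicalComplex (ComplexShape.up ℤ)).obj P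

/-- Termwise finite free. -/
def FreeTerms {U : Scheme.{u}} (P : CochainComplex U.Modules ℤ) : Prop :=
  ∀ k, ∃ n, Nonempty (P.X k ≅ FlatMod.freeMod U n)

theorem isZero_freeMod_zero (U : Scheme.{u}) : IsZero (FlatMod.freeMod U 0) := by
  rw [IsZero.iff_id_eq_zero]
  exact Sigma.hom_ext _ _ fun i => i.elim0

theorem freeTerms_resCx {U W : Scheme.{u}} (j : W ⟶ U) [IsOpenImmersion j] {P : CochainComplex U.Modules ℤ}
    (h : FreeTerms P) : FreeTerms ((resCx j).obj P) := fun k => by
  obtain ⟨n, ⟨i⟩⟩ := h k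
  exact ⟨n, ⟨(Scheme.Modules.restrictFunctor j).mapIso i ≪≫ DCoh.restrictFreeModIso j n⟩⟩

theorem strictlyPerfect_of_free {U : Scheme.{u}} {P : CochainComplex U.Modules ℤ} (h : FreeTerms P) {a b : ℤ}
    (hb : DCoh.VanishesOutside P a b) : DCoh.IsStrictlyPerfect P :=
  ⟨⟨a, b, hb⟩, fun k => by
    obtain ⟨n, ⟨i⟩⟩ := h k
    exact DCoh.isFinLocFree_of_iso i.symm (isFinLocFree_freeMod U n)⟩

theorem projective_stCx {U : Scheme.{u}} (u : U) {P : CochainComplex U.Modules ℤ} (h : FreeTerms P) (k : ℤ) :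
    Projective ((stCx u P).X k) ∧ Module.Finite (U.presheaf.stalk u) ((stCx u P).X k) := by
  obtain ⟨n, ⟨i⟩⟩ := h k
  obtain ⟨hf, hfin⟩ := finite_stalk i u
  exact ⟨(IsProjective.iff_projective _).1 (Module.Projective.of_free (P := (stalk u).obj (P.X k))), hfin⟩

/-- One shortening step at the bottom. -/
theorem exists_step {U T : Scheme.{u}} [Subsingleton T] (g : T ⟶ U) (t : T) (hT : IsField (T.presheaf.stalk t))
    (P : CochainComplex U.Modules ℤ) (hfree : FreeTerms P) {a b : ℤ} (hs : DCoh.VanishesOutside P a b)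
    (hd : IsSplitMono ((stCx (g t) P).d a (a + 1))) :
    ∃ (W : Scheme.{u}) (k : W ⟶ U) (_ : IsOpenImmersion k), g t ∈ Set.range k ∧
      ∃ P' : CochainComplex W.Modules ℤ, FreeTerms P' ∧ DCoh.VanishesOutside P' (a + 1) b ∧
        Nonempty (Q.obj P' ≅ Q.obj ((resCx k).obj P)) := by
  obtain ⟨m, ⟨eA⟩⟩ := hfree a
  obtain ⟨n, ⟨eB⟩⟩ := hfree (a + 1)
  have hmono : Mono ((fib g t).map (P.d a (a + 1))) := by
    haveI : IsSplitMono ((stalk (g t)).map (P.d a (a + 1))) := hd
    exact ((MorphismProperty.monomorphisms _).arrow_mk_iso_iff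
      (Arrow.isoMk ((pullStalkIso g t).app (P.X a)) ((pullStalkIso g t).app (P.X (a + 1)))
        ((pullStalkIso g t).hom.naturality (P.d a (a + 1))).symm)).2
      (show Mono ((ModuleCat.extendScalars (g.stalkMap t).hom).map ((stalk (g t)).map (P.d a (a + 1)))) from
        inferInstance)
  obtain ⟨W, k, hk, hxW, hmonoW, hcok⟩ := exists_mono_of_fib_mono g t hT eA eB (P.d a (a + 1)) hmono
  let P₂ := (resCx k).obj P
  have hs₂ : DCoh.VanishesOutside P₂ a b := fun l hl => (Scheme.Modules.restrictFunctor k).map_isZero (hs l hl)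
  have hd' : Mono (P₂.d a (a + 1)) := hmonoW
  have hGE : P₂.IsGE (a + 1) := (P₂.isGE_iff (a + 1)).2 fun l hl => by
    by_cases hla : l = a
    · subst hla
      rw [P₂.exactAt_iff' (l - 1) l (l + 1) (by simp) (by simp)]
      exact (ShortComplex.exact_iff_mono _ ((hs₂ (l - 1) (by omega)).eq_of_src _ _)).2 hd'
    · exact ExactAt.of_isZero (hs₂ l (by omega))
  let P' := P₂.truncGE (a + 1)
  have hvan : DCoh.VanishesOutside P' (a + 1) b := fun l hl => by
    by_cases hl' : l < a + 1
    · exact CochainComplex.isZero_of_isStrictlyGE P' (a + 1) l hl'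
    · rcases eq_or_ne l (a + 1) with rfl | hne
      · exact (IsZero.of_epi (P₂.pOpcycles (a + 1)) (hs₂ (a + 1) (by omega))).of_iso (P₂.truncGEXIsoOpcycles (a + 1))
      · exact (hs₂ l (by omega)).of_iso (P₂.truncGEXIso (a + 1) l (by omega))
  have hcok' : FlatMod.IsFinLocFree (P'.X (a + 1)) := DCoh.isFinLocFree_of_iso
    (IsColimit.coconePointUniqueUpToIso (cokernelIsCokernel (P₂.d a (a + 1)))
      (P₂.opcyclesIsCokernel a (a + 1) (by simp)) ≪≫ (P₂.truncGEXIsoOpcycles (a + 1)).symm) hcok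
  obtain ⟨w, hw⟩ := hxW
  obtain ⟨A, r, hA, ⟨eC⟩⟩ := hcok' w
  haveI : QuasiIso (P₂.πTruncGE (a + 1)) := inferInstance
  refine ⟨(A : Scheme.{u}), A.ι ≫ k, inferInstance, ⟨⟨w, hA⟩, by rw [Scheme.Hom.comp_apply]; exact hw⟩,
    (resCx A.ι).obj P', fun l => ?_, fun l hl => (Scheme.Modules.restrictFunctor A.ι).map_isZero (hvan l hl), ?_⟩
  · rcases lt_trichotomy l (a + 1) with hl | rfl | hl
    · exact ⟨0, ⟨((Scheme.Modules.restrictFunctor A.ι).map_isZero
        (CochainComplex.isZero_of_isStrictlyGE P' (a + 1) l hl)).iso (isZero_freeMod_zero _)⟩⟩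
    · exact ⟨r, ⟨eC⟩⟩
    · obtain ⟨q, ⟨i⟩⟩ := freeTerms_resCx A.ι (freeTerms_resCx k hfree) l
      exact ⟨q, ⟨(Scheme.Modules.restrictFunctor A.ι).mapIso (P₂.truncGEXIso (a + 1) l hl) ≪≫ i⟩⟩
  · exact ⟨((resDFac A.ι).app P').symm ≪≫ (resD A.ι).mapIso (asIso (Q.map (P₂.πTruncGE (a + 1)))).symm ≪≫
      (resDFac A.ι).app _ ≪≫ Q.mapIso ((resCxCompIso A.ι k).app P).symm⟩

/-- Cohomology of a representative at a point outside the support. -/
theorem exactAt_stCx {U : Scheme.{u}} (j : U ⟶ Y) [IsOpenImmersion j] (u : U) (K : DCoh.D Y)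
    (P : CochainComplex U.Modules ℤ) (e : Q.obj P ≅ (resD j).obj K) (i : ℤ)
    (h : j u ∉ CohB1.support (DCoh.HD K i)) : (stCx u P).ExactAt i := by
  have h' : u ∉ CohB1.support ((Scheme.Modules.restrictFunctor j).obj (DCoh.HD K i)) :=
    fun hu => h ((TensorPerf20.mem_support_restrict j _ u).1 hu)
  have h0 : IsZero ((stalk u).obj ((Scheme.Modules.restrictFunctor j).obj (DCoh.HD K i))) := by
    haveI : Subsingleton ((stalk u).obj ((Scheme.Modules.restrictFunctor j).obj (DCoh.HD K i))) := not_not.1 h'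
    exact ModuleCat.isZero_of_subsingleton _
  rw [exactAt_iff_isZero_homology]
  exact (h0.of_iso ((stalk u).mapIso (((DerivedCategory.homologyFunctorFactors U.Modules i).app P).symm ≪≫
    (DerivedCategory.homologyFunctor _ i).mapIso e ≪≫ (HDResIso j K i)))).of_iso ((P.sc i).mapHomologyIso (stalk u))

/-- The dimension of the local rings of an open subscheme. -/
theorem ringKrullDim_stalk_openImmersion {U : Scheme.{u}} (j : U ⟶ Y) [IsOpenImmersion j] (u : U) :
    ringKrullDim (U.presheaf.stalk u) = ringKrullDim (Y.presheaf.stalk (j u)) :=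
  (ringKrullDim_eq_of_ringEquiv (asIso (j.stalkMap u)).commRingCatIsoToRingEquiv).symm

/-- **Representatives in high degrees.** -/
theorem exists_free_ge (K : DCoh.D Y) (hK : DCoh.IsPerfect K) (y : Y) (m : ℤ) (e : ℕ)
    (hsupp : ∀ i, i < m → y ∉ CohB1.support (DCoh.HD K i))
    (hpd : ∀ (U : Scheme.{u}) (j : U ⟶ Y) [IsOpenImmersion j] (u : U), j u = y →
      ∀ (P : CochainComplex U.Modules ℤ) (a b : ℤ), FreeTerms P → DCoh.VanishesOutside P a b →
        Nonempty (Q.obj P ≅ (resD j).obj K) → (∀ i, i < m → (stCx u P).ExactAt i) →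
          HasProjectiveDimensionLT ((stCx u P).opcycles m) (e + 1)) :
    ∃ (U : Scheme.{u}) (j : U ⟶ Y) (_ : IsOpenImmersion j), y ∈ Set.range j ∧
      ∃ (P : CochainComplex U.Modules ℤ) (b : ℤ), FreeTerms P ∧ DCoh.VanishesOutside P (m - e) b ∧
        Nonempty (Q.obj P ≅ (resD j).obj K) := by
  have key : ∀ (N : ℕ) (U : Scheme.{u}) (j : U ⟶ Y) [IsOpenImmersion j] (u : U), j u = y →
      ∀ (P : CochainComplex U.Modules ℤ) (a b : ℤ), FreeTerms P → DCoh.VanishesOutside P a b →
      (Q.obj P ≅ (resD j).obj K) → m - e - a ≤ N →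
      ∃ (U : Scheme.{u}) (j : U ⟶ Y) (_ : IsOpenImmersion j), y ∈ Set.range j ∧
        ∃ (P : CochainComplex U.Modules ℤ) (b : ℤ), FreeTerms P ∧ DCoh.VanishesOutside P (m - e) b ∧
          Nonempty (Q.obj P ≅ (resD j).obj K) := by
    intro N
    induction N with
    | zero =>
      intro U j _ u hu P a b hf hb i hN
      exact ⟨U, j, inferInstance, ⟨u, hu⟩, P, b, hf, fun l hl => hb l (by omega), ⟨i⟩⟩
    | succ N ih =>
      intro U j _ u hu P a b hf hb i hN
      by_cases ha : m - e ≤ a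
      · exact ⟨U, j, inferInstance, ⟨u, hu⟩, P, b, hf, fun l hl => hb l (by omega), ⟨i⟩⟩
      · have hex : ∀ l, l < m → (stCx u P).ExactAt l := fun l hl =>
          exactAt_stCx j u K P i l (by rw [hu]; exact hsupp l hl)
        have hd : IsSplitMono ((stCx u P).d a (a + 1)) :=
          isSplitMono_d (stCx u P) a m (fun k => (projective_stCx u hf k).1)
            (fun k hk => (stalk u).map_isZero (hb k (Or.inl hk))) hex e (hpd U j u hu P a b hf hb ⟨i⟩ hex) (by omega)
        obtain ⟨t⟩ : Nonempty ↥(Spec (U.residueField u)) := inferInstance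
        have hg : U.fromSpecResidueField u t = u := U.fromSpecResidueField_apply u t
        obtain ⟨W, k, _, ⟨w, hw⟩, P', hf', hb', ⟨i'⟩⟩ := exists_step (U.fromSpecResidueField u) t
          (isField_stalk_spec _ (Field.toIsField _) t) P hf hb (by rw [hg]; exact hd)
        refine ih W (k ≫ j) w (by rw [Scheme.Hom.comp_apply, hw, hg, hu]) P' (a + 1) b hf' hb'
          (i' ≪≫ ((resDFac k).app P).symm ≪≫ (resD k).mapIso i ≪≫ (resDCompIso k j).app K) (by omega)
  obtain ⟨Pc, -, ⟨ePc⟩⟩ := exists_kflat_rep K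
  obtain ⟨V, E, hy, hE, ⟨i₀⟩⟩ := (isPerfect_iff_rep ePc).1 hK y
  obtain ⟨W, E', hyW, ⟨a, n, hb⟩, hf, -, ⟨i⟩⟩ := exists_free_bounded hE hy i₀
  exact key (m - e - a).toNat W W.ι ⟨y, hyW⟩ rfl E' a (a + n) hf (fun l hl => hb l (by omega))
    (i.symm ≪≫ ((resDFac W.ι).app Pc).symm ≪≫ (resD W.ι).mapIso ePc) (by omega)

/-- **The amplitude is bounded by the dimension.** -/
theorem exists_free_ge_of_dim [IsLocallyNoetherian Y] (K : DCoh.D Y) (hK : DCoh.IsPerfect K) (y : Y) (m : ℤ) (δ : ℕ)
    (hδ : ringKrullDim (Y.presheaf.stalk y) ≤ δ) (c : ℕ) (hc : c ≤ δ)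
    (hsupp : ∀ i, i < m → y ∉ CohB1.support (DCoh.HD K i))
    (hdepth : ∀ (U : Scheme.{u}) (j : U ⟶ Y) [IsOpenImmersion j] (u : U), j u = y →
      ∀ (P : CochainComplex U.Modules ℤ), FreeTerms P → Nonempty (Q.obj P ≅ (resD j).obj K) →
        ∀ d : ℕ, AusBuch.IsDepth (U.presheaf.stalk u) ((stCx u P).opcycles m) d → c ≤ d) :
    ∃ (U : Scheme.{u}) (j : U ⟶ Y) (_ : IsOpenImmersion j), y ∈ Set.range j ∧
      ∃ (P : CochainComplex U.Modules ℤ) (b : ℤ), FreeTerms P ∧
        DCoh.VanishesOutside P (m - (δ - c : ℕ)) b ∧ Nonempty (Q.obj P ≅ (resD j).obj K) := by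
  refine exists_free_ge K hK y m (δ - c) hsupp fun U j _ u hu P a b hf hb hi hex => ?_
  haveI : IsLocallyNoetherian U := isLocallyNoetherian_of_isOpenImmersion j
  haveI hfin : Module.Finite (U.presheaf.stalk u) ((stCx u P).opcycles m) :=
    haveI := (projective_stCx u hf m).2
    Module.Finite.of_surjective ((stCx u P).pOpcycles m).hom ((ModuleCat.epi_iff_surjective _).1 inferInstance)
  have hn : ∃ n, HasProjectiveDimensionLT ((stCx u P).opcycles m) (n + 1) := by
    by_cases ham : a ≤ m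
    · exact ⟨(m - a).toNat, by
        have := pd_opcycles_of_bottom (stCx u P) a m (fun k => (projective_stCx u hf k).1)
          (fun k hk => (stalk u).map_isZero (hb k (Or.inl hk))) hex (m - a).toNat (by omega)
        rwa [show a + ((m - a).toNat : ℤ) = m by omega] at this⟩
    · haveI := (IsZero.of_epi ((stCx u P).pOpcycles m)
        ((stalk u).map_isZero (hb m (Or.inl (by omega))))).hasProjectiveDimensionLT_zero
      exact ⟨0, hasProjectiveDimensionLT_of_ge _ 0 _ (by omega)⟩
  obtain ⟨n, hn⟩ := hn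
  refine pd_le_dim _ δ ?_ ((stCx u P).opcycles m) n hn c hc (hdepth U j u hu P hf hi)
  rw [ringKrullDim_stalk_openImmersion j u, hu]
  exact hδ

/-- Duals of complexes of free modules in high degrees live in low degrees. -/
theorem isLE_homCx {U : Scheme.{u}} (I : CochainComplex U.Modules ℤ) [I.IsKInjective]
    (i₀ : Q.obj I ≅ DCoh.inD U (Coh.structureModule U)) :
    ∀ (m : ℕ) (E : CochainComplex U.Modules ℤ) (a : ℤ), (∀ k : ℤ, k < a ∨ a + m ≤ k → IsZero (E.X k)) →
      FreeTerms E → ∀ i, -a < i → IsZero (DCoh.HD (Q.obj ((homCx E).obj I)) i) := by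
  let Z : ℤ → ObjectProperty (DCoh.D U) := fun i K => IsZero (DCoh.HD K i)
  have hiso : ∀ {E E' : CochainComplex U.Modules ℤ}, (E ≅ E') → ∀ i,
      IsZero (DCoh.HD (Q.obj ((homCx E).obj I)) i) → IsZero (DCoh.HD (Q.obj ((homCx E').obj I)) i) := by
    intro E E' e i h
    let t : tensR E ≅ tensR E' := (DCoh.tensorCx (X := U)).flip.mapIso e
    exact h.of_iso ((DerivedCategory.homologyFunctor _ i).mapIso (Q.mapIso
      ((((homCxAdj E).ofNatIsoLeft t).rightAdjointUniq (homCxAdj E')).app I))).symm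
  have hext : ∀ {S : ShortComplex (CochainComplex U.Modules ℤ)}
      (_ : ∀ q, (S.map (HomologicalComplex.eval U.Modules (ComplexShape.up ℤ) q)).Splitting) (i : ℤ),
      IsZero (DCoh.HD (Q.obj ((homCx S.X₁).obj I)) i) → IsZero (DCoh.HD (Q.obj ((homCx S.X₃).obj I)) i) →
      IsZero (DCoh.HD (Q.obj ((homCx S.X₂).obj I)) i) := fun σ i h₁ h₃ =>
    (DerivedCategory.HomologySequence.exact₂ _ (homTriangle_distinguished σ I) i).isZero_of_both_zeros
      (h₃.eq_of_src _ _) (h₁.eq_of_tgt _ _)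
  have hzero : ∀ {E : CochainComplex U.Modules ℤ}, IsZero E → ∀ i, IsZero (DCoh.HD (Q.obj ((homCx E).obj I)) i) :=
    fun h i => (DerivedCategory.homologyFunctor _ i).map_isZero
      (isZero_Q_homCx_of_contractible (Homotopy.ofEq (h.eq_of_src _ _)) I)
  have hunit : ∀ (a i : ℤ), -a < i →
      IsZero (DCoh.HD (Q.obj ((homCx ((single U.Modules (ComplexShape.up ℤ) a).obj (Coh.structureModule U))).obj I)) i) := by
    intro a i hi
    let T := (unitCx U)⟦-a⟧
    haveI := hasLTensorCx T
    haveI := hasRSheafHom T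
    obtain ⟨t⟩ := ShriekLine22.nonempty_ltensor_unit_shift U (-a)
    have hT : DCoh.IsKFlat T := Dual22.isKFlat_shift (isKFlat_single _ (flat_structureModule _) 0) _
    obtain ⟨v⟩ := nonempty_RSheafHom_value T hT I
    let r : DCoh.RSheafHom T ≅ shiftFunctor (DCoh.D U) a :=
      ((DCoh.RSheafHomAdj T).ofNatIsoLeft t).rightAdjointUniq
        (shiftEquiv' (DCoh.D U) (-a) a (by omega)).toAdjunction
    haveI : (DCoh.inD U (Coh.structureModule U)).IsLE 0 := inferInstance
    refine hiso (((CochainComplex.singleFunctors U.Modules).shiftIso (-a) a 0 (by omega)).app _) i ?_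
    exact ((DerivedCategory.isZero_of_isLE (DCoh.inD U (Coh.structureModule U)) 0 (a + i) (by omega)).of_iso
      (((DerivedCategory.homologyFunctor U.Modules 0).shiftIso a i (a + i) (by omega)).app _)).of_iso
      ((DerivedCategory.homologyFunctor _ i).mapIso (v.symm ≪≫ r.app _ ≪≫ (shiftFunctor (DCoh.D U) a).mapIso i₀))
  have hfree : ∀ (a i : ℤ), -a < i → ∀ n : ℕ,
      IsZero (DCoh.HD (Q.obj ((homCx ((single U.Modules (ComplexShape.up ℤ) a).obj (FlatMod.freeMod U n))).obj I)) i) := by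
    intro a i hi n
    induction n with
    | zero => exact hzero ((single U.Modules (ComplexShape.up ℤ) a).map_isZero (isZero_freeMod_zero U)) i
    | succ n ih =>
      let O := Coh.structureModule U
      let F := fun m : ℕ => fun _ : Fin m => O
      let f : ∐ F n ⟶ ∐ F (n + 1) := Sigma.desc fun i => Sigma.ι (F (n + 1)) i.castSucc
      let g : ∐ F (n + 1) ⟶ O := Sigma.desc (Fin.lastCases (𝟙 O) fun _ => 0)
      let r : ∐ F (n + 1) ⟶ ∐ F n := Sigma.desc (Fin.lastCases 0 fun i => Sigma.ι (F n) i)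
      let s : O ⟶ ∐ F (n + 1) := Sigma.ι (F (n + 1)) (Fin.last n)
      have hfg : f ≫ g = 0 := Sigma.hom_ext _ _ fun i => by simp [f, g]
      let σ : (ShortComplex.mk f g hfg).Splitting :=
        { r := r, s := s, f_r := Sigma.hom_ext _ _ fun i => by simp [f, r], s_g := by simp [s, g]
          id := Sigma.hom_ext _ _ fun i => by
            induction i using Fin.lastCases with
            | last =>
              simp [f, g, r, s, Preadditive.comp_add]
              exact Category.id_comp _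
            | cast i => simp [f, g, r, s, Preadditive.comp_add] }
      exact hext (S := (ShortComplex.mk f g hfg).map (single U.Modules (ComplexShape.up ℤ) a))
        (fun q => (σ.map (single U.Modules (ComplexShape.up ℤ) a)).map (HomologicalComplex.eval _ _ q)) i ih
        (hunit a i hi)
  intro m
  induction m with
  | zero =>
    intro E a hE _ i _
    refine hzero ?_ i
    rw [IsZero.iff_id_eq_zero]
    exact HomologicalComplex.hom_ext _ _ fun k => (hE k (by omega)).eq_of_src _ _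
  | succ m ih =>
    intro E a hE hX i hi
    let p : E ⟶ (single U.Modules (ComplexShape.up ℤ) a).obj (E.X a) :=
      mkHomToSingle (𝟙 _) fun k hk => (hE k (Or.inl (by simp at hk; omega))).eq_of_src _ _
    have hpa : p.f a = (singleObjXSelf (ComplexShape.up ℤ) a (E.X a)).inv := by simp [p]
    have hp : ∀ k, Nonempty (SplitEpi (p.f k)) := fun k => by
      by_cases h : k = a
      · subst h
        exact ⟨⟨(singleObjXSelf (ComplexShape.up ℤ) k (E.X k)).hom, by rw [hpa]; simp⟩⟩
      · exact ⟨⟨0, (isZero_single_obj_X _ _ _ _ h).eq_of_src _ _⟩⟩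
    have : Epi p := @epi_of_epi_f _ _ _ _ _ _ _ p fun k => (hp k).some.epi
    let S : ShortComplex (CochainComplex U.Modules ℤ) := ShortComplex.mk (kernel.ι p) p (kernel.condition p)
    have hS : S.ShortExact := { exact := ShortComplex.exact_kernel p }
    have hn := fun q => hS.map_of_exact (HomologicalComplex.eval U.Modules (ComplexShape.up ℤ) q)
    let σ : ∀ q, (S.map (HomologicalComplex.eval U.Modules (ComplexShape.up ℤ) q)).Splitting := fun q =>
      ShortComplex.Splitting.ofExactOfSection _ (hn q).exact (hp q).some.section_ (hp q).some.id (hn q).mono_f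
    let e : ∀ k, (kernel p).X k ≅ kernel (p.f k) := fun k =>
      PreservesKernel.iso (HomologicalComplex.eval U.Modules (ComplexShape.up ℤ) k) p
    have hz : IsZero ((kernel p).X a) := by
      have : IsIso (p.f a) := by rw [hpa]; infer_instance
      exact (isZero_kernel_of_mono (p.f a)).of_iso (e a)
    have hK : ∀ k, k ≠ a → Nonempty ((kernel p).X k ≅ E.X k) := fun k hk => by
      have h0 : p.f k = 0 := (isZero_single_obj_X _ _ _ _ hk).eq_of_tgt _ _
      exact ⟨e k ≪≫ eqToIso (by rw [h0]) ≪≫ kernelZeroIsoSource⟩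
    refine hext σ i (ih (kernel p) (a + 1) (fun k hk => ?_) (fun k => ?_) i (by omega)) ?_
    · rcases eq_or_ne k a with rfl | h
      · exact hz
      · obtain ⟨ei⟩ := hK k h
        exact (hE k (by omega)).of_iso ei
    · rcases eq_or_ne k a with rfl | h
      · exact ⟨0, ⟨hz.iso (isZero_freeMod_zero _)⟩⟩
      · obtain ⟨ei⟩ := hK k h
        obtain ⟨n, ⟨e'⟩⟩ := hX k
        exact ⟨n, ⟨ei ≪≫ e'⟩⟩
    · obtain ⟨n, ⟨e'⟩⟩ := hX a
      exact hiso ((single U.Modules (ComplexShape.up ℤ) a).mapIso e'.symm) i (hfree a i hi n)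

/-- **Supports of the cohomology of a dual.** -/
theorem notMem_support_dual (K : CochainComplex Y.Modules ℤ) [DCoh.HasLTensorCx K] [DCoh.HasRSheafHom K]
    {U : Scheme.{u}} (j : U ⟶ Y) [IsOpenImmersion j] (u : U) (P : CochainComplex U.Modules ℤ) (hf : FreeTerms P)
    (a b : ℤ) (hb : DCoh.VanishesOutside P a b) (e : Q.obj P ≅ (resD j).obj (DCoh.toD Y K)) (i : ℤ) (hi : -a < i) :
    j u ∉ CohB1.support (DCoh.HD ((DCoh.RSheafHom K).obj (DCoh.inD Y (Coh.structureModule Y))) i) := by
  haveI := hasLTensorCx ((resCx j).obj K)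
  haveI := hasRSheafHom ((resCx j).obj K)
  haveI := hasLTensorCx P
  haveI := hasRSheafHom P
  obtain ⟨β⟩ := nonempty_resD_RSheafHom (j := j) (K := K)
  obtain ⟨c⟩ := nonempty_RSheafHom_congr (E := (resCx j).obj K) (E' := P) (((resDFac j).app K).symm ≪≫ e.symm)
  obtain ⟨I, i₁, hi₁, hI, -⟩ := KInj.exists_kInjective_resolution (A := U.Modules) (unitCx U)
  haveI := hi₁; haveI := hI
  let i₀ : Q.obj I ≅ DCoh.inD U (Coh.structureModule U) := (asIso (Q.map i₁)).symm ≪≫ unitCxQIso U
  obtain ⟨v⟩ := nonempty_RSheafHom_value P (isKFlat_of_strictlyPerfect (strictlyPerfect_of_free hf hb)) I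
  let eO : (resD j).obj (DCoh.inD Y (Coh.structureModule Y)) ≅ DCoh.inD U (Coh.structureModule U) :=
    (resD j).mapIso (unitCxQIso Y).symm ≪≫ resUnitCxIso j ≪≫ unitCxQIso U
  let E : (resD j).obj ((DCoh.RSheafHom K).obj (DCoh.inD Y (Coh.structureModule Y))) ≅ Q.obj ((homCx P).obj I) :=
    β.app _ ≪≫ c.app _ ≪≫ (DCoh.RSheafHom P).mapIso (eO ≪≫ i₀.symm) ≪≫ v
  have h0 := (isLE_homCx I i₀ ((b + 1) - a).toNat P a (fun k hk => hb k (by omega)) hf i hi).of_iso
    ((HDResIso j _ i).symm ≪≫ (DerivedCategory.homologyFunctor _ i).mapIso E)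
  intro hs
  exact (TensorPerf20.mem_support_restrict j _ u).2 hs (AddCommGrpCat.subsingleton_of_isZero
    ((Scheme.Modules.toPresheaf _ ⋙ TopCat.Presheaf.stalkFunctor AddCommGrpCat.{u} (X := U.toTopCat) u).map_isZero h0))

end GrothLib.FMK22
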