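import Groth.Agent.Lib.FMK22.Phi
import Groth.Agent.S3618
import Groth.Agent.Lib.RightAdj22.RHomPush
import Groth.Agent.Lib.RightAdj22.CoherentMain
import Groth.Agent.Lib.RightAdj20.PullDual
import Groth.Agent.Lib.ShriekPerf22.Etale
import Groth.Agent.Lib.ShriekBridge22.FieldPoints
import Groth.Agent.Lib.CodimExt27.Basic
import Groth.Agent.Lib.HomBC22.ShriekBC
import Groth.Agent.Lib.OX.Support
import Groth.Agent.Lib.FMComp25.Basic

/-! # Duality for Fourier–Mukai transforms -/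

set_option autoImplicit false
set_option maxHeartbeats 1000000
set_option linter.style.haveILetI false
set_option backward.isDefEq.respectTransparency false
universe u

open CategoryTheory CategoryTheory.Limits AlgebraicGeometry
open DerivedCategory (Q)
attribute [local instance] HasDerivedCategory.standard

noncomputable section

namespace GrothLib.FMK22

open GrothLib.OX GrothLib.RightAdj22

variable {X Y : Scheme.{u}}

/-- The derived tensor product commutes with shifts. -/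
theorem nonempty_ltensorCx_obj_shift (D : CochainComplex X.Modules ℤ) [DCoh.HasLTensorCx D] (M : DCoh.D X) (n : ℤ) :
    Nonempty ((DCoh.LTensorCx D).obj ((shiftFunctor (DCoh.D X) n).obj M) ≅
      (shiftFunctor (DCoh.D X) n).obj ((DCoh.LTensorCx D).obj M)) := by
  obtain ⟨W, -, ⟨eW⟩⟩ := exists_kflat_rep M
  haveI := hasLTensorCx W
  haveI := hasLTensorCx (W⟦n⟧)
  let eW' : DCoh.toD X (W⟦n⟧) ≅ (shiftFunctor (DCoh.D X) n).obj M :=
    ((Q (C := X.Modules)).commShiftIso n).app W ≪≫ (shiftFunctor (DCoh.D X) n).mapIso eW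
  obtain ⟨s⟩ := KSix19.nonempty_ltensor_symm (K₁ := W⟦n⟧) (K₂ := D) eW' (Iso.refl (DCoh.toD X D))
  obtain ⟨t⟩ := FMInv15.nonempty_ltensorCx_shift W n
  obtain ⟨s'⟩ := KSix19.nonempty_ltensor_symm (K₁ := W) (K₂ := D) eW (Iso.refl (DCoh.toD X D))
  exact ⟨s ≪≫ t.app _ ≪≫ (shiftFunctor (DCoh.D X) n).mapIso s'.symm⟩

/-- Composition of internal homs. -/
theorem nonempty_RSheafHom_tensor (K L : CochainComplex X.Modules ℤ) (hL : DCoh.IsKFlat L) [DCoh.HasLTensorCx K]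
    [DCoh.HasLTensorCx L] [DCoh.HasRSheafHom K] [DCoh.HasRSheafHom L]
    [DCoh.HasLTensorCx (((DCoh.tensorCx (X := X)).obj K).obj L)]
    [DCoh.HasRSheafHom (((DCoh.tensorCx (X := X)).obj K).obj L)] :
    Nonempty (DCoh.RSheafHom (((DCoh.tensorCx (X := X)).obj K).obj L) ≅ DCoh.RSheafHom L ⋙ DCoh.RSheafHom K) :=
  ⟨((DCoh.RSheafHomAdj _).ofNatIsoLeft (ltensorCompIso K L hL).symm).rightAdjointUniq
    ((DCoh.RSheafHomAdj K).comp (DCoh.RSheafHomAdj L))⟩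

variable {k : Type u} [Field k]

/-- The dualizing complex of an equidimensional Cohen–Macaulay scheme is the shifted dualizing module. -/
theorem nonempty_dualizing_single (a : X ⟶ Spec (CommRingCat.of k)) [IsProper a]
    (hcm : ∀ x : ↥X, LocCoh.IsCohenMacaulayLocalRing ↑(X.presheaf.stalk x)) (d : ℕ)
    (hXeq : ∀ Z ∈ irreducibleComponents ↥X, topologicalKrullDim ↥Z = (d : WithBot ℕ∞))
    [DCoh.HasRpush a] (ha : DCoh.RpushPreservesQCoh a)
    {adx : DCoh.DQCoh (Spec (CommRingCat.of k)) ⥤ DCoh.DQCoh X} (adj : DCoh.RpushQ a ha ⊣ adx)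
    (O : DCoh.DQCoh (Spec (CommRingCat.of k)))
    (hO : Nonempty (O.obj ≅ DCoh.inD (Spec (CommRingCat.of k)) (Coh.structureModule (Spec (CommRingCat.of k))))) :
    Nonempty ((adx.obj O).obj ≅ (shiftFunctor (DCoh.D X) (d : ℤ)).obj
      (DCoh.inD X (DCoh.HD (adx.obj O).obj (-(d : ℤ))))) := by
  haveI : ∀ R : CommRingCat.{u}, PreservesFiniteLimits (tilde.functor R) := preservesFiniteLimits_tildeGen
  have hz : ∀ i : ℤ, i ≠ -(d : ℤ) → IsZero (DCoh.HD (adx.obj O).obj i) := fun i hi =>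
    isZero_of_subsingleton_stalks _ fun x => not_nontrivial_iff_subsingleton.1 fun h =>
      hi (((ShriekBridge22.stalk_field_of_isCM a ha adj O hO x (hcm x) d
        (CodimExt27.localDim_eq_of_pure a hXeq x)).1 i).1 h)
  haveI : (adx.obj O).obj.IsGE (-(d : ℤ)) := (DerivedCategory.isGE_iff _ _).2 fun i hi => hz i (ne_of_lt hi)
  haveI : (adx.obj O).obj.IsLE (-(d : ℤ)) := (DerivedCategory.isLE_iff _ _).2 fun i hi => hz i (ne_of_gt hi)
  obtain ⟨N, ⟨e⟩⟩ := DerivedCategory.exists_iso_singleFunctor_obj_of_isGE_of_isLE (adx.obj O).obj (-(d : ℤ))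
  let eN : N ≅ DCoh.HD (adx.obj O).obj (-(d : ℤ)) :=
    ((DerivedCategory.singleFunctorCompHomologyFunctorIso X.Modules (-(d : ℤ))).app N).symm ≪≫
      (DerivedCategory.homologyFunctor _ (-(d : ℤ))).mapIso e.symm
  exact ⟨e ≪≫ (((DerivedCategory.singleFunctors X.Modules).shiftIso (d : ℤ) (-(d : ℤ)) 0 (by omega)).app N).symm ≪≫
    (shiftFunctor (DCoh.D X) (d : ℤ)).mapIso ((DerivedCategory.singleFunctor X.Modules 0).mapIso eN)⟩

variable (a : X ⟶ Spec (CommRingCat.of k)) (b : Y ⟶ Spec (CommRingCat.of k))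

/-- The relative dualizing object of a product over a field. -/
theorem nonempty_aQ_snd [IsProper a] [IsProper b] [AlgebraicGeometry.IsNoetherian Y]
    [DCoh.HasRpush a] (ha : DCoh.RpushPreservesQCoh a)
    {adx : DCoh.DQCoh (Spec (CommRingCat.of k)) ⥤ DCoh.DQCoh X} (adj : DCoh.RpushQ a ha ⊣ adx)
    (O : DCoh.DQCoh (Spec (CommRingCat.of k)))
    (hO : Nonempty (O.obj ≅ DCoh.inD (Spec (CommRingCat.of k)) (Coh.structureModule (Spec (CommRingCat.of k)))))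
    [DCoh.HasLpull (pullback.fst a b)] :
    Nonempty (((aQ (pullback.snd a b)).obj ⟨DCoh.inD Y (Coh.structureModule Y),
        isQCohD_of_isPerfect (isPerfect_unit Y)⟩).obj ≅
      (DCoh.Lpull (pullback.fst a b)).obj (adx.obj O).obj) := by
  haveI : IsNoetherian (Spec (CommRingCat.of k)) := inferInstance
  haveI : IsNoetherian X := isNoetherian_of_proper a
  haveI : IsNoetherian (Spec (CommRingCat.of k)) := inferInstance
  haveI : IsNoetherian Y := isNoetherian_of_proper b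
  haveI : CompactSpace (pullback a b : Scheme.{u}) :=
    QuasiCompact.compactSpace_of_compactSpace (pullback.snd a b)
  haveI : QuasiSeparatedSpace (pullback a b : Scheme.{u}) :=
    quasiSeparatedSpace_of_quasiSeparated (pullback.snd a b)
  haveI := hasLpull b
  haveI : DCoh.HasRpush b := KInj.hasRightDerivedFunctor _
  haveI : DCoh.HasRpush (pullback.fst a b) := KInj.hasRightDerivedFunctor _
  haveI : DCoh.HasRpush (pullback.snd a b) := KInj.hasRightDerivedFunctor _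
  have hpres : ∀ {A B : Scheme.{u}} (k : A ⟶ B) [QuasiCompact k] [QuasiSeparated k] [DCoh.HasRpush k],
      DCoh.RpushPreservesQCoh k := fun k _ _ _ K hK i =>
    isQCoh_of_iso ((DerivedCategory.homologyFunctor _ i).mapIso ((rpushIsoRres k).app K)).symm
      (isQCohD_Rres k K hK i)
  have hL : ∀ {A B : Scheme.{u}} (g : A ⟶ B) [DCoh.HasLpull g], Dual3.LpullPreservesQCoh g :=
    fun g _ _ hK => TorBC25.isQCohD_lpull g hK
  have hq := hpres (pullback.snd a b)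
  have hp := hpres (pullback.fst a b)
  have hb := hpres b
  obtain ⟨lb⟩ := nonempty_lpullAdj b
  obtain ⟨lp⟩ := nonempty_lpullAdj (pullback.fst a b)
  let adjq : DCoh.RpushQ _ hq ⊣ aQ (pullback.snd a b) :=
    (aQAdj _).ofNatIsoLeft (rpushQIso _ hq).symm
  obtain ⟨e, hξ, hbc⟩ := Groth.Agent.S3618.result X (Spec (CommRingCat.of k)) (pullback a b) Y a b
    (pullback.snd a b) (pullback.fst a b) (IsPullback.of_hasPullback a b)
    (ShriekPerf22.isPerfectMor_of_flat a) ha hq hb hp adx (aQ (pullback.snd a b)) adj adjq (hL b) (hL _)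
    (BaseChange22.adjQ hb lb) (BaseChange22.adjQ hp lp)
  haveI := hbc O
  let i := (DCoh.IsQCohD (X := (pullback a b : Scheme.{u}))).ι.mapIso
    (asIso (Dual3.bcMap adj adjq e (BaseChange22.adjQ hb lb) (BaseChange22.adjQ hp lp) O (hξ _)))
  obtain ⟨eO⟩ := hO
  obtain ⟨u⟩ := Detect22.nonempty_lpull_unit b
  let eY : (Dual3.LpullQ b (hL b)).obj O ≅
      (⟨DCoh.inD Y (Coh.structureModule Y), isQCohD_of_isPerfect (isPerfect_unit Y)⟩ : DCoh.DQCoh Y) :=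
    (DCoh.IsQCohD (X := Y)).isoMk
      ((DCoh.Lpull b).mapIso (eO ≪≫ (unitCxQIso _).symm) ≪≫ u ≪≫ unitCxQIso Y)
  exact ⟨(DCoh.IsQCohD (X := (pullback a b : Scheme.{u}))).ι.mapIso ((aQ _).mapIso eY.symm) ≪≫ i.symm⟩

/-- Duals of the pullback of a perfect complex twisted by a kernel. -/
theorem nonempty_RSheafHom_pull_tensor {Z : Scheme.{u}} (p : Z ⟶ X) [QuasiCompact p] [QuasiSeparated p]
    [DCoh.HasLpull p] (E₀ D : CochainComplex X.Modules ℤ) [DCoh.HasLTensorCx E₀]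
    [DCoh.HasLTensorCx D] [DCoh.HasRSheafHom D]
    (hE : DCoh.IsKFlat E₀) (hEp : DCoh.IsPerfect (Q.obj E₀)) (hD : DCoh.IsKFlat D) (hDp : DCoh.IsPerfect (Q.obj D))
    (iE : Q.obj E₀ ≅ (DCoh.RSheafHom D).obj (DCoh.inD X (Coh.structureModule X)))
    (P₀ : CochainComplex Z.Modules ℤ) (hP : DCoh.IsKFlat P₀) (hPp : DCoh.IsPerfect (Q.obj P₀))
    [DCoh.HasLTensorCx P₀] [DCoh.HasRSheafHom P₀] (DP : CochainComplex Z.Modules ℤ) [DCoh.HasLTensorCx DP]
    (iP : Q.obj DP ≅ (DCoh.RSheafHom P₀).obj (DCoh.inD Z (Coh.structureModule Z)))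
    [DCoh.HasLTensorCx (((DCoh.tensorCx (X := Z)).obj ((pullCxF p).obj E₀)).obj P₀)]
    [DCoh.HasRSheafHom (((DCoh.tensorCx (X := Z)).obj ((pullCxF p).obj E₀)).obj P₀)] (M : DCoh.D X) :
    Nonempty ((DCoh.RSheafHom (((DCoh.tensorCx (X := Z)).obj ((pullCxF p).obj E₀)).obj P₀)).obj
        ((DCoh.Lpull p).obj M) ≅
      (DCoh.LTensorCx DP).obj ((DCoh.Lpull p).obj ((DCoh.LTensorCx D).obj M))) := by
  haveI : DCoh.HasRpush p := KInj.hasRightDerivedFunctor _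
  let E' := (pullCxF p).obj E₀
  haveI := hasLTensorCx E'
  haveI := hasRSheafHom E'
  have hE' : DCoh.IsKFlat E' := isKFlat_pullback p hE
  have hE'p : DCoh.IsPerfect (Q.obj E') := isPerfect_pull p hE hEp
  obtain ⟨D', hD', _, _, hD'p, ⟨i'⟩, ⟨iD'⟩⟩ := RightAdj20.exists_dual_pair E' hE' hE'p
  obtain ⟨dd⟩ := RightAdj20.nonempty_lpull_dual p hD hDp hE hEp iE hD' hD'p i'
  obtain ⟨c⟩ := nonempty_RSheafHom_tensor E' P₀ hP
  obtain ⟨t₁⟩ := nonempty_tensor_dual_iso P₀ DP hP hPp iP ((DCoh.Lpull p).obj M)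
  obtain ⟨t₂⟩ := nonempty_tensor_dual_iso E' D' hE' hE'p iD' ((DCoh.LTensorCx DP).obj ((DCoh.Lpull p).obj M))
  let D'' := (pullCxF p).obj D
  haveI := hasLTensorCx D''
  obtain ⟨lt⟩ := FMComp25.nonempty_lpull_ltensor_nat (f := p) (P := D) hD
  obtain ⟨vD⟩ := lpull_value p D hD
  obtain ⟨cD⟩ := nonempty_ltensorCx_congr_of_iso (vD.symm ≪≫ dd : Q.obj D'' ≅ Q.obj D')
  obtain ⟨P', hP', ⟨eP'⟩⟩ := exists_kflat_rep (Q.obj DP)
  haveI := hasLTensorCx P'
  obtain ⟨cP⟩ := nonempty_ltensorCx_congr_of_iso eP'.symm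
  haveI := hasLTensorCx (((DCoh.tensorCx (X := Z)).obj P').obj D')
  haveI := hasLTensorCx (((DCoh.tensorCx (X := Z)).obj D').obj P')
  obtain ⟨cT⟩ := nonempty_ltensorCx_congr_of_iso ((Q (C := Z.Modules)).mapIso (tensorCxSymm P' D'))
  let N := (DCoh.Lpull p).obj M
  let w : (DCoh.LTensorCx D').obj ((DCoh.LTensorCx DP).obj N) ≅
      (DCoh.LTensorCx DP).obj ((DCoh.LTensorCx D').obj N) :=
    (DCoh.LTensorCx D').mapIso (cP.app N) ≪≫ (ltensorCompIso P' D' hD').app N ≪≫ cT.symm.app N ≪≫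
      (ltensorCompIso D' P' hP').symm.app N ≪≫ cP.symm.app _
  exact ⟨c.app _ ≪≫ (DCoh.RSheafHom E').mapIso t₁.symm ≪≫ t₂.symm ≪≫ w ≪≫
    (DCoh.LTensorCx DP).mapIso (cD.symm.app N ≪≫ lt.symm.app M)⟩

/-- **The dual of a Fourier–Mukai transform.** -/
theorem nonempty_dual_phi [IsProper a] [IsProper b]
    (hXcm : ∀ x : ↥X, LocCoh.IsCohenMacaulayLocalRing ↑(X.presheaf.stalk x)) (d : ℕ)
    (hXeq : ∀ Z ∈ irreducibleComponents ↥X, topologicalKrullDim ↥Z = (d : WithBot ℕ∞))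
    [DCoh.HasRpush a] (ha : DCoh.RpushPreservesQCoh a)
    {adx : DCoh.DQCoh (Spec (CommRingCat.of k)) ⥤ DCoh.DQCoh X} (adj : DCoh.RpushQ a ha ⊣ adx)
    (O : DCoh.DQCoh (Spec (CommRingCat.of k)))
    (hO : Nonempty (O.obj ≅ DCoh.inD (Spec (CommRingCat.of k)) (Coh.structureModule (Spec (CommRingCat.of k)))))
    (P : CochainComplex (pullback a b).Modules ℤ) (hP : DCoh.IsPerfect (DCoh.toD (pullback a b) P))
    [DCoh.HasLpull (pullback.fst a b)] [DCoh.HasLTensorCx P] [DCoh.HasRSheafHom P] [DCoh.HasRpush (pullback.snd a b)]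
    (P' : CochainComplex (pullback a b).Modules ℤ) [DCoh.HasLTensorCx P']
    (hP' : Nonempty (DCoh.toD (pullback a b) P' ≅
      (DCoh.RSheafHom P).obj (DCoh.inD (pullback a b) (Coh.structureModule (pullback a b)))))
    (E : CochainComplex X.Modules ℤ) (hE : DCoh.IsPerfect (DCoh.toD X E)) [DCoh.HasLTensorCx E] [DCoh.HasRSheafHom E]
    (K : CochainComplex Y.Modules ℤ) [DCoh.HasLTensorCx K] [DCoh.HasRSheafHom K]
    (hK : Nonempty (DCoh.toD Y K ≅ (FMK.phi a b P).obj (DCoh.toD X E))) :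
    DCoh.IsPerfect (DCoh.toD Y K) ∧
    Nonempty ((DCoh.RSheafHom K).obj (DCoh.inD Y (Coh.structureModule Y)) ≅
      (FMK.phi a b P').obj ((shiftFunctor (DCoh.D X) (d : ℤ)).obj
        ((DCoh.RSheafHom E).obj (DCoh.inD X (DCoh.HD (adx.obj O).obj (-(d : ℤ))))))) := by
  haveI : IsNoetherian (Spec (CommRingCat.of k)) := inferInstance
  haveI : IsNoetherian Y := isNoetherian_of_proper b
  let p := pullback.fst a b
  let q := pullback.snd a b
  haveI : Flat q := inferInstance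
  obtain ⟨E₀, hE₀, ⟨eE⟩⟩ := exists_kflat_rep (DCoh.toD X E)
  haveI := hasLTensorCx E₀
  haveI := hasRSheafHom E₀
  have hE₀p : DCoh.IsPerfect (Q.obj E₀) := isPerfect_of_iso hE eE.symm
  obtain ⟨D, hD, _, _, hDp, ⟨iE⟩, ⟨iD⟩⟩ := RightAdj20.exists_dual_pair E₀ hE₀ hE₀p
  obtain ⟨P₀, hP₀, ⟨eP⟩⟩ := exists_kflat_rep (DCoh.toD (pullback a b) P)
  haveI := hasLTensorCx P₀
  haveI := hasRSheafHom P₀
  have hP₀p : DCoh.IsPerfect (Q.obj P₀) := isPerfect_of_iso hP eP.symm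
  obtain ⟨cP⟩ := nonempty_ltensorCx_congr_of_iso eP
  obtain ⟨hP₀r⟩ := nonempty_RSheafHom_congr (E := P) (E' := P₀) eP.symm
  let E' := (pullCxF p).obj E₀
  let M₀ := ((DCoh.tensorCx (X := (pullback a b : Scheme.{u}))).obj E').obj P₀
  haveI := hasLTensorCx M₀
  haveI := hasRSheafHom M₀
  obtain ⟨vE⟩ := lpull_value p E₀ hE₀
  obtain ⟨vM⟩ := ltensorCx_value P₀ E' (isKFlat_pullback p hE₀)
  let eM : Q.obj M₀ ≅ (DCoh.LTensorCx P).obj ((DCoh.Lpull p).obj (DCoh.toD X E)) :=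
    vM.symm ≪≫ (DCoh.LTensorCx P₀).mapIso (vE.symm ≪≫ (DCoh.Lpull p).mapIso eE) ≪≫ cP.app _
  have hM : DCoh.IsPerfect (Q.obj M₀) :=
    isPerfect_of_iso (isPerfect_ltensor P₀ hP₀ hP₀p (isPerfect_lpull p hE)) (eM ≪≫ cP.symm.app _).symm
  obtain ⟨B, _, _, ⟨eB⟩, hB⟩ := nonempty_RR_RSheafHom q M₀ hM
  obtain ⟨eK⟩ := hK
  let eKB : DCoh.toD Y K ≅ Q.obj B :=
    eK ≪≫ (DCoh.Rpush q).mapIso eM.symm ≪≫ (rpushIsoRres q).app _ ≪≫ eB.symm
  haveI : IsLocallyNoetherian Y := inferInstance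
  obtain ⟨l, hl⟩ := KSix19.ProjPush.exists_isGE_of_isPerfect hM
  have hKp : DCoh.IsPerfect (DCoh.toD Y K) :=
    isPerfect_of_iso (@KSix19.RelNoeth.isPerfect_Rpush _ _ _ q _ (ShriekPerf22.isPerfectMor_of_flat q) _ _ l hl hM)
      ((DCoh.Rpush q).mapIso eM ≪≫ eK.symm)
  refine ⟨hKp, ?_⟩
  let OY : DCoh.DQCoh Y := ⟨DCoh.inD Y (Coh.structureModule Y), isQCohD_of_isPerfect (isPerfect_unit Y)⟩
  obtain ⟨cK⟩ := nonempty_RSheafHom_congr (E := K) (E' := B) eKB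
  obtain ⟨r⟩ := hB OY (isQCohD_RSheafHom_of_perfect B (isPerfect_of_iso hKp eKB) OY.property)
  obtain ⟨w⟩ := nonempty_aQ_snd a b ha adj O hO
  obtain ⟨s⟩ := nonempty_dualizing_single a hXcm d hXeq ha adj O hO
  obtain ⟨eP'⟩ := hP'
  obtain ⟨n⟩ := nonempty_RSheafHom_pull_tensor p E₀ D hE₀ hE₀p hD hDp iE P₀ hP₀ hP₀p P'
    (eP' ≪≫ hP₀r.app _) ((shiftFunctor (DCoh.D X) (d : ℤ)).obj (DCoh.inD X (DCoh.HD (adx.obj O).obj (-(d : ℤ)))))
  let ω := DCoh.inD X (DCoh.HD (adx.obj O).obj (-(d : ℤ)))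
  obtain ⟨sh⟩ := nonempty_ltensorCx_obj_shift D ω (d : ℤ)
  obtain ⟨t⟩ := nonempty_tensor_dual_iso E₀ D hE₀ hE₀p iD ω
  obtain ⟨cE⟩ := nonempty_RSheafHom_congr (E := E) (E' := E₀) eE.symm
  exact ⟨cK.app _ ≪≫ r.symm ≪≫
    (RR q).mapIso ((DCoh.RSheafHom M₀).mapIso (w ≪≫ (DCoh.Lpull p).mapIso s) ≪≫ n ≪≫
      (DCoh.LTensorCx P').mapIso ((DCoh.Lpull p).mapIso (sh ≪≫
        (shiftFunctor (DCoh.D X) (d : ℤ)).mapIso (t ≪≫ cE.symm.app ω)))) ≪≫
    ((rpushIsoRres q).app _).symm⟩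

end GrothLib.FMK22
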