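import Groth.Agent.Lib.FMK22.SuppVanish
import Groth.Agent.Lib.FMK22.Duality
import Groth.Agent.Lib.OX.LocFreeHomVanish
import Groth.Agent.Lib.OX.CohRHom

/-! # The dual of a finite locally free module in the derived category -/

set_option autoImplicit false
set_option maxHeartbeats 1000000
set_option linter.style.haveILetI false
set_option backward.isDefEq.respectTransparency false
universe u

open CategoryTheory CategoryTheory.Limits AlgebraicGeometry HomologicalComplex
attribute [local instance] HasDerivedCategory.standard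

noncomputable section

namespace GrothLib.FMK22

open GrothLib.OX

variable {X : Scheme.{u}}

/-- `RHom(P, N) = Hom(P, N)` for finite locally free `P`. -/
theorem nonempty_RSheafHom_single [IsLocallyNoetherian X] (P : X.Modules) (hP : FlatMod.IsFinLocFree P) [DCoh.HasSheafHom P]
    [DCoh.HasLTensorCx ((single X.Modules (ComplexShape.up ℤ) 0).obj P)]
    [DCoh.HasRSheafHom ((single X.Modules (ComplexShape.up ℤ) 0).obj P)] (N : X.Modules) :
    Nonempty ((DCoh.RSheafHom ((single X.Modules (ComplexShape.up ℤ) 0).obj P)).obj (DCoh.inD X N) ≅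
      DCoh.inD X ((DCoh.sheafHom P).obj N)) := by
  let K := (single X.Modules (ComplexShape.up ℤ) 0).obj P
  let R := (DCoh.RSheafHom K).obj (DCoh.inD X N)
  obtain ⟨t₁, t₂⟩ := exact_tF_finLocFree hP
  haveI := t₁
  haveI := t₂
  haveI : (DCoh.inD X N).IsGE 0 := inferInstanceAs (((DerivedCategory.singleFunctor X.Modules 0).obj N).IsGE 0)
  haveI : (DCoh.inD X N).IsLE 0 := inferInstanceAs (((DerivedCategory.singleFunctor X.Modules 0).obj N).IsLE 0)
  haveI : ((DerivedCategory.singleFunctor X.Modules 0).obj P).IsLE 0 := inferInstance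
  haveI : (DerivedCategory.Q.obj K).IsLE 0 :=
    DerivedCategory.TStructure.t.isLE_of_iso (FMInv15.singleQIso P).symm 0
  haveI : R.IsLE 0 := isLE_RSheafHom_of_finLocFree hP (DCoh.inD X N) 0
  haveI : R.IsGE 0 := by simpa using isGE_RSheafHom K 0 (DCoh.inD X N) 0
  obtain ⟨M, ⟨e⟩⟩ := DerivedCategory.exists_iso_singleFunctor_obj_of_isGE_of_isLE R 0
  obtain ⟨t⟩ := nonempty_ltensorCx_single_finLocFree (N := P)
  let S := DerivedCategory.singleFunctor X.Modules 0
  let β : S ⋙ DCoh.LTensorCx K ≅ (DCoh.tensorBi (X := X)).obj P ⋙ S :=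
    Functor.isoWhiskerLeft _ t ≪≫ (Euler.tF P).mapDerivedCategorySingleFunctor 0 ≪≫
      Functor.isoWhiskerRight ((OX.tensorBraiding (X := X)).app P) S
  let adj := DCoh.RSheafHomAdj K
  let φ : ∀ Z : X.Modules, (Z ⟶ M) ≃ (((DCoh.tensorBi (X := X)).obj P).obj Z ⟶ N) := fun Z =>
    (Functor.FullyFaithful.ofFullyFaithful S).homEquiv.trans
      ((Iso.homToEquiv e.symm).trans ((adj.homEquiv (S.obj Z) (DCoh.inD X N)).symm.trans
        ((β.app Z).homFromEquiv.trans (Functor.FullyFaithful.ofFullyFaithful S).homEquiv.symm)))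
  have hφ : ∀ {Z Z' : X.Modules} (f : Z ⟶ Z') (g : Z' ⟶ M),
      φ Z (f ≫ g) = ((DCoh.tensorBi (X := X)).obj P).map f ≫ φ Z' g := by
    intro Z Z' f g
    apply S.map_injective
    let hS := Functor.FullyFaithful.ofFullyFaithful S
    have hv : ∀ (W : X.Modules) (u : W ⟶ M), S.map (φ W u) =
        β.inv.app W ≫ (adj.homEquiv (S.obj W) (DCoh.inD X N)).symm (S.map u ≫ e.inv) := fun W u =>
      hS.map_preimage _
    refine (hv Z _).trans (Eq.trans ?_ ((S.map_comp _ _).trans (congrArg (_ ≫ ·) (hv Z' g))).symm)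
    refine (congrArg (fun w => β.inv.app Z ≫ (adj.homEquiv (S.obj Z) (DCoh.inD X N)).symm w)
      ((congrArg (· ≫ e.inv) (S.map_comp f g)).trans (Category.assoc _ _ _))).trans ?_
    refine (congrArg (β.inv.app Z ≫ ·) (adj.homEquiv_naturality_left_symm _ _)).trans ?_
    exact ((Category.assoc _ _ _).symm.trans (congrArg (· ≫ _) (β.inv.naturality f).symm)).trans (Category.assoc _ _ _)
  let r : (((DCoh.tensorBi (X := X)).obj P).op ⋙ yoneda.obj N).RepresentableBy M :=
    { homEquiv := fun {Z} => φ Z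
      homEquiv_comp := fun {Z Z'} f g => hφ f g }
  exact ⟨e ≪≫ S.mapIso (r.uniqueUpToIso ((DCoh.sheafHomAdj P).representableBy N))⟩

end GrothLib.FMK22
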