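import Groth.Agent.Lib.DualRing.LocalizedEH
import Groth.Agent.Lib.DualRing.Single
import Groth.Agent.Lib.DualRing.Devissage
import Groth.Agent.Lib.DualRing.Locus
import Mathlib.RingTheory.Ideal.Height

/-! # Vanishing of duals at a prime from bounds on the dimension of the supports -/

set_option autoImplicit false
set_option linter.style.haveILetI false
set_option maxHeartbeats 1000000
universe u

open CategoryTheory CategoryTheory.Limits CategoryTheory.Pretriangulated GrothLib.DualRing

attribute [local instance] HasDerivedCategory.standard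

namespace GrothLib.FMK22

variable {A : Type u} [CommRing A] [IsNoetherianRing A] {ω : Dual.D A}

/-- Dévissage: the dual of a bounded complex vanishes at `p` if it does so on all cohomology modules. -/
theorem len_EH_eq_zero_of_terms (p : Ideal A) [p.IsPrime] (i : ℤ) : ∀ (n : ℕ) (X : Dual.D A) (b : ℤ),
    (∀ l, l ≤ b - n ∨ b < l → Subsingleton (Dual.HD A X l)) →
    (∀ l, len p (EH ω (Dual.inD A (Dual.HD A X l)) (i + l)) = 0) → len p (EH ω X i) = 0 := by
  intro n
  induction n with
  | zero => exact fun X b hv _ => len_EH_isZero (fun l => hv l (by omega)) i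
  | succ n ih =>
    intro X b hv ht
    obtain ⟨T, hT, rfl, ⟨e⟩, hlt, hge⟩ := exists_top_triangle X b fun l hl => hv l (Or.inr hl)
    refine len_mid p T hT i ((len_EH_single _ e i).trans (ht b)) (ih T.obj₁ (b - 1) (fun l hl => ?_) fun l => ?_)
    · by_cases hlb : l < b
      · haveI := hv l (Or.inl (by omega))
        exact (hlt l hlb).some.toEquiv.subsingleton
      · exact hge l (not_lt.1 hlb)
    · by_cases hlb : l < b
      · exact (len_iso p ((DerivedCategory.singleFunctor (ModuleCat.{u} A) 0).mapIso
          (hlt l hlb).some.toModuleIso) _).trans (ht l)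
      · haveI := hge l (not_lt.1 hlb)
        exact len_EH_of_len_eq_zero ω p len_eq_zero_of_subsingleton _

/-- Codimension bounds the dimension of a support. -/
theorem supportDim_localized_le (p : PrimeSpectrum A) (N : Type u) [AddCommGroup N] [Module A N] (c δ : ℕ)
    (hδ : ringKrullDim (Localization.AtPrime p.asIdeal) = δ)
    (hc : ∀ q : PrimeSpectrum A, q.asIdeal ≤ p.asIdeal → q ∈ Module.support A N → (c : ℕ∞) ≤ q.asIdeal.height)
    (d : ℕ) (hd : Module.supportDim (Localization.AtPrime p.asIdeal) (LocalizedModule p.asIdeal.primeCompl N) = d) :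
    d + c ≤ δ := by
  let B := Localization.AtPrime p.asIdeal
  let NB := LocalizedModule p.asIdeal.primeCompl N
  haveI : Nonempty (Module.support B NB) := by
    by_contra h
    rw [not_nonempty_iff] at h
    rw [show Module.supportDim B NB = ⊥ from Order.krullDim_eq_bot] at hd
    exact WithBot.bot_ne_natCast d hd
  obtain ⟨s, hs⟩ := Order.le_krullDim_iff.1 (le_of_eq hd.symm)
  have hq : (c : ℕ∞) ≤ Order.height (s.head.1 : PrimeSpectrum B) := by
    rw [← PrimeSpectrum.height_eq_orderHeight, ← IsLocalization.height_under p.asIdeal.primeCompl]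
    refine hc ⟨s.head.1.asIdeal.under A, inferInstance⟩ ?_ ?_
    · exact le_trans (Ideal.comap_mono (IsLocalRing.le_maximalIdeal s.head.1.2.ne_top))
        (IsLocalization.AtPrime.under_maximalIdeal B p.asIdeal).le
    · by_contra hn
      refine absurd s.head.2 (Module.notMem_support_iff'.2 fun x => ?_)
      induction x using LocalizedModule.induction_on with
      | h x t =>
        obtain ⟨r, hr, hrx⟩ := Module.notMem_support_iff'.1 hn x
        refine ⟨algebraMap A B r, hr, ?_⟩
        rw [algebraMap_smul, LocalizedModule.smul'_mk, hrx, LocalizedModule.zero_mk]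
  obtain ⟨t, ht, htc⟩ := Order.exists_series_of_le_height _ hq
  let s' : LTSeries (PrimeSpectrum B) := s.map Subtype.val fun _ _ h => h
  have hl := Order.LTSeries.length_le_krullDim (t.smash s' (by rw [ht]; rfl))
  have hlen : (t.smash s' (by rw [ht]; rfl)).length = c + d := by
    change t.length + s.length = c + d
    rw [htc, hs]
  rw [hlen, show Order.krullDim (PrimeSpectrum B) = (δ : WithBot ℕ∞) from hδ] at hl
  have h : c + d ≤ δ := by exact_mod_cast hl
  omega

variable (hω : Dual.IsDualizing A ω)

include hω in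
/-- The degrees of the dual at a prime, bounded below by the codimension of the support. -/
theorem deg_sub_le_of_len_ne_zero (p : PrimeSpectrum A) (N : Type u) [AddCommGroup N] [Module A N]
    [Module.Finite A N] (c δ : ℕ) (hδ : ringKrullDim (Localization.AtPrime p.asIdeal) = δ)
    (hc : ∀ q : PrimeSpectrum A, q.asIdeal ≤ p.asIdeal → q ∈ Module.support A N → (c : ℕ∞) ≤ q.asIdeal.height)
    (m : ℤ) (hm : len p.asIdeal (EH ω (Dual.inD A N) m) ≠ 0) : deg hω p.asIdeal - δ + c ≤ m := by
  let B := Localization.AtPrime p.asIdeal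
  let NB := LocalizedModule p.asIdeal.primeCompl N
  have hN : len p.asIdeal N ≠ 0 := fun h => hm (len_EH_of_len_eq_zero ω p.asIdeal h m)
  haveI : Nontrivial NB := (nontrivial_localized_iff p.asIdeal N).2 hN
  haveI : Module.Finite B NB := Module.Finite.equiv (LocalizedModule.isBaseChange p.asIdeal.primeCompl N).equiv
  obtain ⟨ω', hω', hn, hiff⟩ := exists_localized_EH hω p N
  obtain ⟨d, hd⟩ : ∃ d : ℕ, Module.supportDim B NB = d := by
    obtain ⟨x, hx⟩ := WithBot.ne_bot_iff_exists.1 (Module.supportDim_ne_bot_of_nontrivial B NB)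
    obtain ⟨d, rfl⟩ := ENat.ne_top_iff_exists.1 (show x ≠ ⊤ from fun h => by
      have h3 := Module.supportDim_le_ringKrullDim B NB
      rw [← hx, h, hδ] at h3
      exact ENat.natCast_ne_top δ (top_le_iff.1 (WithBot.coe_le_coe.1 h3)))
    exact ⟨d, hx.symm⟩
  have hdc := supportDim_localized_le p N c δ hδ hc d hd
  by_contra hlt
  refine not_subsingleton_iff_nontrivial.2 ((hiff (m - deg hω p.asIdeal)).2 ?_)
    (subsingleton_EH_lt hω' hn NB d hd (by omega))
  rw [show deg hω p.asIdeal + (m - deg hω p.asIdeal) = m by omega, Module.mem_support_iff]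
  exact (nontrivial_localized_iff p.asIdeal _).2 hm

include hω in
/-- The degree of a prime when the dualizing complex is concentrated in degree `e` there. -/
theorem deg_eq_of_concentrated (p : PrimeSpectrum A) (δ : ℕ)
    (hδ : ringKrullDim (Localization.AtPrime p.asIdeal) = δ) (e : ℤ)
    (he : ∀ i, p ∈ Module.support A (Dual.HD A ω i) → i = e) : deg hω p.asIdeal = e + δ := by
  let B := Localization.AtPrime p.asIdeal
  have hp : p ∈ Module.support A A := by
    by_contra h
    obtain ⟨r, hr, h1⟩ := Module.notMem_support_iff'.1 h 1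
    rw [smul_eq_mul, mul_one] at h1
    exact hr (h1 ▸ p.asIdeal.zero_mem)
  obtain ⟨k, -, hk, -, hiff⟩ := exists_degrees hω p A hp
  have hsupp : ∀ i, p ∈ Module.support A (EH ω (Dual.inD A A) i) → i = e := fun i hi =>
    he i (by
      rw [Module.mem_support_iff] at hi ⊢
      rw [nontrivial_localized_iff p.asIdeal, ← len_congr (p := p.asIdeal) (exists_hom_ring_equiv ω i).some,
        ← nontrivial_localized_iff p.asIdeal]
      exact hi)
  have hke : deg hω p.asIdeal - k = e := hsupp _ hk
  have hdim : (k : WithBot ℕ∞) = δ := by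
    rw [hiff.2 fun i hi => (hsupp i hi).trans hke.symm, ← hδ, ← Module.supportDim_self_eq_ringKrullDim]
  have hk : k = δ := by exact_mod_cast hdim
  omega

include hω in
/-- **Vanishing of the dual below `-k'` under a codimension condition on the cohomology.** -/
theorem len_EH_eq_zero_of_codim (p : PrimeSpectrum A) (δ : ℕ)
    (hδ : ringKrullDim (Localization.AtPrime p.asIdeal) = δ) (e : ℤ)
    (he : ∀ i, p ∈ Module.support A (Dual.HD A ω i) → i = e) (X : Dual.D A)
    (hfin : ∀ l, Module.Finite A (Dual.HD A X l)) (lo hi : ℤ)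
    (hb : ∀ l, l < lo ∨ hi < l → Subsingleton (Dual.HD A X l)) (k' : ℕ)
    (hgv : ∀ (l : ℕ) (q : PrimeSpectrum A), q ∈ Module.support A (Dual.HD A X (l : ℤ)) →
      ((l - k' : ℕ) : ℕ∞) ≤ q.asIdeal.height)
    (i : ℤ) (hik : i < e - k') : len p.asIdeal (EH ω X i) = 0 := by
  refine len_EH_eq_zero_of_terms p.asIdeal i (hi - lo + 1).toNat X hi (fun l hl => hb l (by omega)) fun l => ?_
  by_contra hne
  haveI := hfin l
  have hdeg := deg_eq_of_concentrated hω p δ hδ e he
  rcases lt_or_ge l 0 with hl | hl
  · have := deg_sub_le_of_len_ne_zero hω p _ 0 δ hδ (fun q _ _ => bot_le) _ hne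
    omega
  · obtain ⟨n, rfl⟩ := Int.eq_ofNat_of_zero_le hl
    have := deg_sub_le_of_len_ne_zero hω p _ (n - k') δ hδ (fun q _ hq => hgv n q hq) _ hne
    omega

end GrothLib.FMK22
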