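import Groth.Agent.Lib.FMK22.Phi
import Groth.Agent.S11109
import Groth.Agent.Lib.BaseChange22.Square
import Groth.Agent.Lib.ThickDesc6.Pull
import Groth.Agent.Lib.SuppTens22.Basic
import Groth.Agent.Lib.QCoh.SupportPullback
import Groth.Agent.Lib.QCoh.SupportExact
import Groth.Agent.Lib.OX.FibreRank
import Groth.Agent.Lib.TensorPerf20.Main
import Groth.Agent.Lib.OX.PerfectEnvelope

/-! # Fibre hypercohomology against the supports of the direct image sheaves -/

set_option autoImplicit false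
set_option maxHeartbeats 1000000
set_option linter.style.haveILetI false
universe u

open CategoryTheory CategoryTheory.Limits AlgebraicGeometry
attribute [local instance] HasDerivedCategory.standard

noncomputable section

namespace GrothLib.FMK22

open GrothLib.OX

variable {Z Y : Scheme.{u}}

/-- Above a local bound the cohomology sheaves avoid the point. -/
theorem not_mem_support_of_isLE (K : DCoh.D Y) (V : Y.Opens) {y : Y} (hy : y ∈ V) (h : ℤ)
    [((resD V.ι).obj K).IsLE h] (l : ℤ) (hl : h < l) : y ∉ CohB1.support (DCoh.HD K l) := fun hs => by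
  have h0 := (DerivedCategory.isZero_of_isLE ((resD V.ι).obj K) h l hl).of_iso (HDResIso V.ι K l).symm
  exact (TensorPerf20.mem_support_restrict V.ι (DCoh.HD K l) ⟨y, hy⟩).2 hs
    (AddCommGrpCat.subsingleton_of_isZero
      ((Scheme.Modules.toPresheaf _ ⋙ TopCat.Presheaf.stalkFunctor AddCommGrpCat.{u} (X := (V : Scheme.{u}).toTopCat) ⟨y, hy⟩).map_isZero h0))

/-- Near a point the higher cohomology sheaves avoiding it vanish. -/
theorem exists_nbhd_isLE [IsLocallyNoetherian Y] (K : DCoh.D Y) (hK : DCoh.IsCohD K) (y : Y)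
    (V : Y.Opens) (hy : y ∈ V) (h : ℤ) [((resD V.ι).obj K).IsLE h] (j : ℤ)
    (hsupp : ∀ l : ℤ, j < l → y ∉ CohB1.support (DCoh.HD K l)) :
    ∃ W : Y.Opens, y ∈ W ∧ ((resD W.ι).obj K).IsLE j := by
  have hbig : ∀ l, h < l → ∀ z : Y, z ∈ V → z ∉ CohB1.support (DCoh.HD K l) := fun l hl z hz =>
    not_mem_support_of_isLE K V hz h l hl
  let C : Set Y := ⋃ l : (Finset.Ioc j h : Finset ℤ), CohB1.support (DCoh.HD K l.1)
  have hC : IsClosed C := isClosed_iUnion_of_finite fun l => QCoh.isClosed_support_of_isCoh (hK l.1)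
  have hyC : y ∉ C := by
    intro hh
    obtain ⟨l, hl⟩ := Set.mem_iUnion.1 hh
    exact hsupp l.1 (Finset.mem_Ioc.1 l.2).1 hl
  let W : Y.Opens := ⟨(V : Set Y) ∩ Cᶜ, V.2.inter hC.isOpen_compl⟩
  refine ⟨W, ⟨hy, hyC⟩, (DerivedCategory.isLE_iff _ _).2 fun l hl => ?_⟩
  refine IsZero.of_iso ?_ (HDResIso W.ι K l)
  refine OX.isZero_of_subsingleton_stalks _ fun w => ?_
  by_contra hw
  have hs := (TensorPerf20.mem_support_restrict W.ι (DCoh.HD K l) w).1 hw
  by_cases hlh : l ≤ h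
  · exact w.2.2 (Set.mem_iUnion.2 ⟨⟨l, Finset.mem_Ioc.2 ⟨hl, hlh⟩⟩, hs⟩)
  · exact hbig l (by omega) w.1 w.2.1 hs

/-- Above the top degree the derived fibre has no cohomology, and in the top degree it is the fibre. -/
theorem isZero_HD_fibre_of_isLE (K : DCoh.D Y) (hK : DCoh.IsCohD K) [IsLocallyNoetherian Y] (y : Y)
    [DCoh.HasLpull (Y.fromSpecResidueField y)] (W : Y.Opens) (hy : y ∈ W) (j : ℤ) [((resD W.ι).obj K).IsLE j] :
    (∀ p, j < p → IsZero (DCoh.HD ((DCoh.Lpull (Y.fromSpecResidueField y)).obj K) p)) ∧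
      (IsZero (DCoh.HD ((DCoh.Lpull (Y.fromSpecResidueField y)).obj K) j) → y ∉ CohB1.support (DCoh.HD K j)) := by
  have hr : y ∈ Set.range W.ι := ⟨⟨y, hy⟩, rfl⟩
  let g := ptLift W.ι y hr
  haveI := OX.hasLpull W.ι
  haveI := OX.hasLpull g
  haveI := OX.hasLpull (g ≫ W.ι)
  obtain ⟨a⟩ := SuppTens22.nonempty_lpull_openImmersion W.ι
  have hfac : g ≫ W.ι = Y.fromSpecResidueField y := ptLift_fac W.ι y hr
  obtain ⟨e⟩ : Nonempty ((DCoh.Lpull (Y.fromSpecResidueField y)).obj K ≅ (DCoh.Lpull g).obj ((resD W.ι).obj K)) := by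
    revert ‹DCoh.HasLpull (Y.fromSpecResidueField y)›
    rw [← hfac]
    intro _
    exact ⟨((lpullCompIso g W.ι).app K).symm ≪≫ (DCoh.Lpull g).mapIso (a.app K)⟩
  refine ⟨fun p hp => ?_, fun h0 hs => ?_⟩
  · haveI := ThickDesc6.isLE_lpull g (K := (resD W.ι).obj K) (b := j) inferInstance
    exact (DerivedCategory.isZero_of_isLE ((DCoh.Lpull g).obj ((resD W.ι).obj K)) j p hp).of_iso
      ((DerivedCategory.homologyFunctor _ p).mapIso e)
  · obtain ⟨t⟩ : Nonempty ↥(Spec (Y.residueField y)) := inferInstance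
    obtain ⟨v⟩ := ThickDesc6.nonempty_hd_lpull_top g ((resD W.ι).obj K) j inferInstance
    have hz : IsZero ((Scheme.Modules.pullback g).obj ((Scheme.Modules.restrictFunctor W.ι).obj (DCoh.HD K j))) :=
      h0.of_iso ((Scheme.Modules.pullback g).mapIso (HDResIso W.ι K j).symm ≪≫ v.symm ≪≫
        (DerivedCategory.homologyFunctor _ j).mapIso e.symm)
    have hmem : t ∈ CohB1.support ((Scheme.Modules.pullback g).obj
        ((Scheme.Modules.restrictFunctor W.ι).obj (DCoh.HD K j))) := by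
      rw [QCoh.support_pullback g ((Scheme.Modules.restrictFunctor W.ι).obj (DCoh.HD K j))
        (Cohom.isCoh_restrict _ (hK j) W.ι)]
      refine (TensorPerf20.mem_support_restrict W.ι (DCoh.HD K j) (g t)).2 ?_
      rw [ptLift_apply]
      exact hs
    exact hmem (AddCommGrpCat.subsingleton_of_isZero
      ((Scheme.Modules.toPresheaf _ ⋙ TopCat.Presheaf.stalkFunctor AddCommGrpCat.{u} t).map_isZero hz))

/-- Hypercohomology of the derived fibre is the cohomology of the derived fibre of the direct image. -/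
theorem isZero_fibre_rGamma_iff (q : Z ⟶ Y) [QuasiCompact q] [QuasiSeparated q] [Flat q] [DCoh.HasRpush q] (y : Y)
    [DCoh.HasLpull (Y.fromSpecResidueField y)] [DCoh.HasLpull (pullback.fst q (Y.fromSpecResidueField y))]
    [DCoh.HasRΓ (pullback q (Y.fromSpecResidueField y))] (M : DCoh.D Z) (hM : DCoh.IsQCohD M) (i : ℤ) :
    IsZero ((DerivedCategory.homologyFunctor AddCommGrpCat.{u} i).obj
        ((DCoh.RΓ (pullback q (Y.fromSpecResidueField y))).obj
          ((DCoh.Lpull (pullback.fst q (Y.fromSpecResidueField y))).obj M))) ↔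
      IsZero (DCoh.HD ((DCoh.Lpull (Y.fromSpecResidueField y)).obj ((DCoh.Rpush q).obj M)) i) := by
  let g := Y.fromSpecResidueField y
  let f' := pullback.snd q g
  let g' := pullback.fst q g
  haveI : DCoh.HasRpush g := KInj.hasRightDerivedFunctor _
  haveI : DCoh.HasRpush g' := KInj.hasRightDerivedFunctor _
  haveI : DCoh.HasRpush f' := KInj.hasRightDerivedFunctor _
  obtain ⟨adjg⟩ := nonempty_lpullAdj g
  obtain ⟨adjg'⟩ := nonempty_lpullAdj g'
  obtain ⟨e, he⟩ := Groth.Agent.S11109.result q g f' g' (IsPullback.of_hasPullback q g)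
    (BaseChange22.tor_of_flat (Or.inl inferInstance)) adjg adjg'
  haveI := he M hM
  let c := asIso (DCoh.baseChangeApp adjg adjg' e M)
  haveI : DCoh.HasRΓ (Spec (Y.residueField y)) := KInj.hasRightDerivedFunctor _
  obtain ⟨r⟩ := nonempty_rGamma_rpush f' ((DCoh.Lpull g').obj M)
  have hq : DCoh.IsQCohD ((DCoh.Lpull g).obj ((DCoh.Rpush q).obj M)) :=
    TorBC25.isQCohD_lpull g (fun l => isQCoh_of_iso ((DerivedCategory.homologyFunctor _ l).mapIso
      ((rpushIsoRres q).app M).symm) (isQCohD_Rres q M hM l))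
  exact ((Iso.isZero_iff ((DerivedCategory.homologyFunctor _ i).mapIso
      ((DCoh.RΓ (Spec (Y.residueField y))).mapIso c ≪≫ r))).symm.trans (isZero_rGamma_iff_hom _ i)).trans
    (KSix19.ProjPush.isZero_HD_iff_hom hq i).symm

/-- Proper direct images of perfect objects are coherent and locally bounded above. -/
theorem exists_local_bound [IsLocallyNoetherian Y] (q : Z ⟶ Y) [IsProper q] [DCoh.HasRpush q] {M : DCoh.D Z}
    (hM : DCoh.IsPerfect M) :
    DCoh.IsCohD ((DCoh.Rpush q).obj M) ∧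
      ∀ y : Y, ∃ (V : Y.Opens) (h : ℤ), y ∈ V ∧ ((resD V.ι).obj ((DCoh.Rpush q).obj M)).IsLE h := by
  have key : ∀ y : Y, ∃ (V : Y.Opens) (h : ℤ), y ∈ V ∧ DCoh.IsCohD ((resD V.ι).obj ((DCoh.Rpush q).obj M)) ∧
      ((resD V.ι).obj ((DCoh.Rpush q).obj M)).IsLE h := fun y => by
    obtain ⟨V, hV, hy, -⟩ := exists_isAffineOpen_mem_and_subset (x := y) (U := ⊤) trivial
    haveI : IsAffine (V : Scheme.{u}) := hV
    haveI : IsNoetherian (V : Scheme.{u}) := {}
    haveI : IsProper (q ∣_ V) := inferInstance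
    haveI : DCoh.HasRpush (q ∣_ V) := KInj.hasRightDerivedFunctor _
    obtain ⟨hc, -, h, -, hh⟩ := exists_bounds_rpush (q ∣_ V) (isPerfect_resD hM (q ⁻¹ᵁ V).ι)
    let e : (DCoh.Rpush (q ∣_ V)).obj ((resD (q ⁻¹ᵁ V).ι).obj M) ≅ (resD V.ι).obj ((DCoh.Rpush q).obj M) :=
      (rpushIsoRres (q ∣_ V)).app _ ≪≫ ((resDRRBaseChange q V).app M).symm ≪≫
        (resD V.ι).mapIso ((rpushIsoRres q).app M).symm
    exact ⟨V, h, hy, fun l => QCoh.isCoh_of_iso ((DerivedCategory.homologyFunctor _ l).mapIso e) (hc l),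
      @CategoryTheory.Triangulated.TStructure.isLE_of_iso _ _ _ _ _ _ _ DerivedCategory.TStructure.t _ _ e h hh⟩
  refine ⟨fun l => Euler.isCoh_of_restrict fun y => ?_, fun y => ?_⟩
  · obtain ⟨V, h, hy, hc, -⟩ := key y
    exact ⟨V, hy, QCoh.isCoh_of_iso (HDResIso V.ι _ l) (hc l)⟩
  · obtain ⟨V, h, hy, -, hh⟩ := key y
    exact ⟨V, h, hy, hh⟩

/-- The kernel twisted by a pulled back perfect object is perfect. -/
theorem isPerfect_kernel {X : Scheme.{u}} (p : Z ⟶ X) [DCoh.HasLpull p] (P : CochainComplex Z.Modules ℤ)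
    [DCoh.HasLTensorCx P] (hP : DCoh.IsPerfect (DCoh.toD Z P)) {F : DCoh.D X} (hF : DCoh.IsPerfect F) :
    DCoh.IsPerfect ((DCoh.LTensorCx P).obj ((DCoh.Lpull p).obj F)) := by
  obtain ⟨P', hP', ⟨eP⟩⟩ := exists_kflat_rep (DCoh.toD Z P)
  haveI := hasLTensorCx P'
  obtain ⟨c⟩ := nonempty_ltensorCx_congr eP.symm ((DCoh.Lpull p).obj F)
  exact isPerfect_of_iso (isPerfect_ltensor P' hP' (isPerfect_of_iso hP eP.symm) (isPerfect_lpull _ hF)) c.symm

end GrothLib.FMK22
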