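import Groth.Agent.Lib.FMK22.EHBound
import Groth.Agent.Lib.FMK22.Duality
import Groth.Agent.Lib.FMK22.SuppVanish
import Groth.Agent.Lib.TensorPerf20.Main
import Groth.Agent.Lib.FMK22.SerreDual
import Groth.Agent.Lib.DualRing.Biduality
import Groth.Agent.Lib.DualRing.SchemeLocus
import Groth.Agent.Lib.ShriekBridge22.FieldDual
import Groth.Agent.Lib.ShriekBridge22.Dualizing

/-! # Vanishing of the dual of a GV object in low degrees -/

set_option autoImplicit false
set_option maxHeartbeats 1000000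
set_option linter.style.haveILetI false
set_option backward.isDefEq.respectTransparency false
universe u

open CategoryTheory CategoryTheory.Limits AlgebraicGeometry
attribute [local instance] HasDerivedCategory.standard

noncomputable section

namespace GrothLib.FMK22

open GrothLib.OX GrothLib.DualRing

variable {Y : Scheme.{u}}

/-- Supports of cohomology on an affine chart. -/
theorem mem_support_chart {A : Type u} [CommRing A] [PreservesFiniteLimits (tilde.functor (CommRingCat.of A))]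
    (j : Spec (CommRingCat.of A) ⟶ Y) [IsOpenImmersion j] {L : DCoh.D Y} {X : Dual.D A}
    (e : (resD j).obj L ≅ (DCoh.tildeD (CommRingCat.of A)).obj X) (l : ℤ) (q : PrimeSpectrum A) :
    j q ∈ CohB1.support (DCoh.HD L l) ↔ q ∈ Module.support A (Dual.HD A X l) := by
  let t : (Scheme.Modules.restrictFunctor j).obj (DCoh.HD L l) ≅
      (tilde.functor (CommRingCat.of A)).obj ((DerivedCategory.homologyFunctor (ModuleCat.{u} A) l).obj X) :=
    (HDResIso j L l).symm ≪≫ (DerivedCategory.homologyFunctor _ l).mapIso e ≪≫ HDTildeIso (R := CommRingCat.of A) X l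
  rw [← nontrivial_tilde_stalk_iff (R := CommRingCat.of A) _ q, ← TensorPerf20.mem_support_restrict j]
  exact ⟨fun h => not_subsingleton_iff_nontrivial.1 (mem_support_of_iso t h),
    fun h => mem_support_of_iso t.symm (not_subsingleton_iff_nontrivial.2 h)⟩

/-- The local rings at the points of an affine chart. -/
theorem ringKrullDim_stalk_chart {A : Type u} [CommRing A]
    (j : Spec (CommRingCat.of A) ⟶ Y) [IsOpenImmersion j] (q : PrimeSpectrum A) :
    ringKrullDim (Y.presheaf.stalk (j q)) = ringKrullDim (Localization.AtPrime q.asIdeal) :=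
  ringKrullDim_eq_of_ringEquiv ((asIso (j.stalkMap q)).commRingCatIsoToRingEquiv.trans
    (StructureSheaf.stalkIso A q).symm.toRingEquiv)

/-- **The dual of a GV object has no cohomology below `-k'`.** -/
theorem isZero_HD_dual_lt {k : Type u} [Field k] (b : Y ⟶ Spec (CommRingCat.of k)) [IsProper b]
    (hcm : ∀ y : ↥Y, LocCoh.IsCohenMacaulayLocalRing ↑(Y.presheaf.stalk y)) (g : ℕ)
    (hg : topologicalKrullDim ↥Y = (g : WithBot ℕ∞))
    (hYeq : ∀ Z ∈ irreducibleComponents ↥Y, topologicalKrullDim ↥Z = (g : WithBot ℕ∞))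
    [DCoh.HasRpush b] (hb : DCoh.RpushPreservesQCoh b)
    {bdx : DCoh.DQCoh (Spec (CommRingCat.of k)) ⥤ DCoh.DQCoh Y} (adj : DCoh.RpushQ b hb ⊣ bdx)
    (O : DCoh.DQCoh (Spec (CommRingCat.of k)))
    (hO : Nonempty (O.obj ≅ DCoh.inD (Spec (CommRingCat.of k)) (Coh.structureModule (Spec (CommRingCat.of k)))))
    (K : CochainComplex Y.Modules ℤ) (hK : DCoh.IsKFlat K) (hKp : DCoh.IsPerfect (DCoh.toD Y K))
    (hKc : DCoh.IsCohD (DCoh.toD Y K))
    [DCoh.HasLTensorCx K] [DCoh.HasRSheafHom K] (k' : ℕ)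
    (hGV : ∀ (i : ℕ) (y : ↥Y), y ∈ CohB1.support (DCoh.HD (DCoh.toD Y K) (i : ℤ)) →
      ((i - k' : ℕ) : WithBot ℕ∞) ≤ ringKrullDim ↑(Y.presheaf.stalk y))
    (i : ℤ) (hi : i < -(k' : ℤ)) :
    IsZero (DCoh.HD ((DCoh.RSheafHom K).obj (DCoh.inD Y (DCoh.HD (bdx.obj O).obj (-(g : ℤ))))) i) := by
  haveI : IsNoetherian Y := RightAdj22.isNoetherian_of_proper b
  haveI : ∀ R : CommRingCat.{u}, PreservesFiniteLimits (tilde.functor R) := preservesFiniteLimits_tildeGen
  haveI : IsNoetherian (Spec (CommRingCat.of k)) := inferInstance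
  let ω := DCoh.inD Y (DCoh.HD (bdx.obj O).obj (-(g : ℤ)))
  obtain ⟨s⟩ := nonempty_dualizing_single b hcm g hYeq hb adj O hO
  have hO' : Dual2.IsDualizingSch (Spec (CommRingCat.of k)) O.obj := by
    refine isDualizingSch_of_dualCharts fun x => ?_
    obtain ⟨e⟩ := ShriekBridge22.nonempty_resD_unit (𝟙 (Spec (CommRingCat.of k))) hO
    exact ⟨k, inferInstance, 𝟙 _, inferInstance, ⟨x, rfl⟩, _, ShriekBridge22.isDualizing_field k, ⟨e⟩⟩
  have hD : Dual2.IsDualizingSch Y (bdx.obj O).obj := ShriekBridge22.isDualizingSch_adjoint b hb adj O hO'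
  obtain ⟨D, -, _, _, -, -, ⟨iD⟩⟩ := RightAdj20.exists_dual_pair K hK hKp
  obtain ⟨t₁⟩ := nonempty_tensor_dual_iso K D hK hKp iD ω
  obtain ⟨t₂⟩ := nonempty_tensor_dual_iso K D hK hKp iD ((shiftFunctor (DCoh.D Y) (g : ℤ)).obj ω)
  obtain ⟨sh⟩ := nonempty_ltensorCx_obj_shift D ω (g : ℤ)
  let eR : (DCoh.RSheafHom K).obj (bdx.obj O).obj ≅
      (shiftFunctor (DCoh.D Y) (g : ℤ)).obj ((DCoh.RSheafHom K).obj ω) :=
    (DCoh.RSheafHom K).mapIso s ≪≫ t₂.symm ≪≫ sh ≪≫ (shiftFunctor (DCoh.D Y) (g : ℤ)).mapIso t₁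
  let eH : DCoh.HD ((DCoh.RSheafHom K).obj (bdx.obj O).obj) (i - g) ≅ DCoh.HD ((DCoh.RSheafHom K).obj ω) i :=
    (DerivedCategory.homologyFunctor _ (i - g)).mapIso eR ≪≫
      ((DerivedCategory.homologyFunctor Y.Modules 0).shiftIso (g : ℤ) (i - g) i (by omega)).app _
  obtain ⟨lo, hlo⟩ := KSix19.ProjPush.exists_isGE_of_isPerfect hKp
  obtain ⟨hi', hhi⟩ := exists_isLE_of_isPerfect hKp
  refine isZero_of_subsingleton_stalks _ fun y => ?_
  by_contra hy
  have hy' : y ∈ CohB1.support (DCoh.HD ((DCoh.RSheafHom K).obj (bdx.obj O).obj) (i - g)) :=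
    mem_support_of_iso eH.symm hy
  obtain ⟨A, _, _, j, _, ⟨p, rfl⟩, ωA, r, Lc, hωA, hfin, -, ⟨aK⟩, ⟨eL⟩, ⟨eD⟩⟩ := exists_dual_chart hD K hKc y
  have hsupp := (mem_support_chart j eD (i - g) p).1 hy'
  have hne : len p.asIdeal (EH ωA (DRing.toD Lc) (i - g)) ≠ 0 := by
    rw [← len_congr (p := p.asIdeal) (r.nonempty_HD_dual Lc (i - g)).some, ← nontrivial_localized_iff p.asIdeal]
    exact Module.mem_support_iff.1 hsupp
  obtain ⟨δ, hδ⟩ : ∃ δ : ℕ, ringKrullDim (Localization.AtPrime p.asIdeal) = δ := by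
    have hle := ringKrullDim_stalk_le (j p)
    rw [hg, ringKrullDim_stalk_chart j p] at hle
    obtain ⟨x, hx⟩ := WithBot.ne_bot_iff_exists.1 (ringKrullDim_ne_bot (R := Localization.AtPrime p.asIdeal))
    obtain ⟨δ, rfl⟩ := ENat.ne_top_iff_exists.1 (show x ≠ ⊤ from fun h => by
      rw [← hx, h] at hle
      exact ENat.natCast_ne_top g (top_le_iff.1 (WithBot.coe_le_coe.1 hle)))
    exact ⟨δ, hx.symm⟩
  refine hne (len_EH_eq_zero_of_codim hωA p δ hδ (-(g : ℤ)) (fun l hl => ?_) (DRing.toD Lc) hfin lo hi'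
    (fun l hl => ?_) k' (fun l q hq => ?_) (i - g) (by omega))
  · by_contra hne
    haveI : ω.IsGE 0 := inferInstanceAs (((DerivedCategory.singleFunctor Y.Modules 0).obj _).IsGE 0)
    haveI : ω.IsLE 0 := inferInstanceAs (((DerivedCategory.singleFunctor Y.Modules 0).obj _).IsLE 0)
    have hz : IsZero (DCoh.HD (bdx.obj O).obj l) := by
      refine IsZero.of_iso ?_ ((DerivedCategory.homologyFunctor _ l).mapIso s ≪≫
        ((DerivedCategory.homologyFunctor Y.Modules 0).shiftIso (g : ℤ) l (g + l) rfl).app ω)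
      rcases lt_or_gt_of_ne (show (g : ℤ) + l ≠ 0 by omega) with h | h
      · exact DerivedCategory.isZero_of_isGE ω 0 _ h
      · exact DerivedCategory.isZero_of_isLE ω 0 _ h
    exact (mem_support_chart j aK l p).2 hl (AddCommGrpCat.subsingleton_of_isZero
      ((Scheme.Modules.toPresheaf _ ⋙ TopCat.Presheaf.stalkFunctor AddCommGrpCat.{u} (X := Y.toTopCat) (j p)).map_isZero hz))
  · have hz : IsZero (DCoh.HD (DCoh.toD Y K) l) := by
      rcases hl with hl | hl
      · exact @DerivedCategory.isZero_of_isGE _ _ _ _ _ lo l hl hlo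
      · exact @DerivedCategory.isZero_of_isLE _ _ _ _ _ hi' l hl hhi
    by_contra hns
    haveI := not_subsingleton_iff_nontrivial.1 hns
    obtain ⟨q, hq⟩ := Module.nonempty_support_of_nontrivial (R := A) (M := Dual.HD A (DRing.toD Lc) l)
    exact (mem_support_chart j eL l q).2 hq (AddCommGrpCat.subsingleton_of_isZero
      ((Scheme.Modules.toPresheaf _ ⋙ TopCat.Presheaf.stalkFunctor AddCommGrpCat.{u} (X := Y.toTopCat) (j q)).map_isZero hz))
  · have h := hGV l (j q) ((mem_support_chart j eL (l : ℤ) q).2 hq)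
    rw [ringKrullDim_stalk_chart j q, IsLocalization.AtPrime.ringKrullDim_eq_height q.asIdeal] at h
    exact WithBot.coe_le_coe.1 h

end GrothLib.FMK22
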