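import Groth.Agent.Lib.FMK22.RGamma
import Groth.Agent.Lib.KSix19.ProjPush.Serre
import Groth.Agent.Lib.KSix19.ProjPush.GammaDetect
import Groth.Agent.Lib.KSix19.RpushAmp.Main
import Groth.Agent.Lib.SerreVanish.Ample
import Groth.Agent.Lib.Ample.Generation
import Groth.Agent.Lib.FinSupp15.Twist
import Groth.Agent.Lib.RefK12.Basic
import Groth.Agent.Lib.OX.CohClass

/-! # Hypercohomology of twists by high powers of an ample module -/

set_option autoImplicit false
set_option maxHeartbeats 1000000
set_option linter.style.haveILetI false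
universe u

open CategoryTheory CategoryTheory.Limits CategoryTheory.Pretriangulated AlgebraicGeometry Opposite
attribute [local instance] HasDerivedCategory.standard

noncomputable section

namespace GrothLib.FMK22

open GrothLib.OX GrothLib.KSix19

variable {X : Scheme.{u}}

/-- Hypercohomology vanishes iff there are no maps from the shifted structure sheaf. -/
theorem isZero_rGamma_iff_hom [DCoh.HasRΓ X] (E : DCoh.D X) (i : ℤ) :
    IsZero ((DerivedCategory.homologyFunctor AddCommGrpCat.{u} i).obj ((DCoh.RΓ X).obj E)) ↔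
      ∀ φ : (DerivedCategory.singleFunctor X.Modules i).obj (Coh.structureModule X) ⟶ E, φ = 0 := by
  let t := (DerivedCategory.homologyFunctor AddCommGrpCat.{u} i).mapIso
    ((KInj.totalRightDerivedIso (DCoh.gammaKh X)).app E)
  constructor
  · intro h φ
    exact ProjPush.hom_eq_zero_of_isZero_gamma E i (h.of_iso t.symm) φ
  · intro h
    refine IsZero.of_iso ?_ t
    let C : CochainComplex X.Modules ℤ := ((KInj.res X.Modules).obj E).as
    let S := (HomologicalComplex.single X.Modules (ComplexShape.up ℤ) i).obj ((genF X).obj ⊤)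
    refine IsZero.of_iso ((HomologicalComplex.exactAt_iff_isZero_homology _ _).1
      (OX.exactAt_gamma_of_homotopic C i fun ψ => ?_))
      ((DerivedCategory.homologyFunctor AddCommGrpCat.{u} i).mapIso
          ((DerivedCategory.quotientCompQhIso _).app _) ≪≫
        (DerivedCategory.homologyFunctorFactors AddCommGrpCat.{u} i).app _)
    let e : DerivedCategory.Qh.obj ((HomotopyCategory.quotient _ _).obj S) ≅
        (DerivedCategory.singleFunctor X.Modules i).obj (Coh.structureModule X) :=
      (DerivedCategory.quotientCompQhIso _).app _ ≪≫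
        ((DerivedCategory.singleFunctorIsoCompQ X.Modules i).app _).symm ≪≫
        (DerivedCategory.singleFunctor X.Modules i).mapIso (genTopIso X)
    let ε : DerivedCategory.Qh.obj ((KInj.res X.Modules).obj E) ≅ E :=
      asIso ((KInj.resAdj X.Modules).counit.app E)
    have h0 : DerivedCategory.Qh.map (X := (HomotopyCategory.quotient _ _).obj S)
        (Y := (KInj.res X.Modules).obj E) ((HomotopyCategory.quotient _ _).map ψ) = 0 := by
      rw [← cancel_epi e.inv, ← cancel_mono ε.hom, comp_zero, zero_comp]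
      exact h _
    have h1 : ((HomotopyCategory.quotient X.Modules (ComplexShape.up ℤ)).map ψ :
        (HomotopyCategory.quotient _ _).obj S ⟶ (KInj.res X.Modules).obj E) = 0 :=
      (SiteDer.bijective_Qh_res _ E).1 (h0.trans (DerivedCategory.Qh.map_zero _ _).symm)
    exact ⟨HomotopyCategory.homotopyOfEq ψ 0
      (h1.trans ((HomotopyCategory.quotient X.Modules (ComplexShape.up ℤ)).map_zero _ _).symm)⟩

/-- On a scheme over a ring, hypercohomology vanishes iff the direct image to the ring has no cohomology. -/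
theorem isZero_rGamma_iff_Rres [DCoh.HasRΓ X] {A : CommRingCat.{u}} (π : X ⟶ Spec A) [QuasiCompact π]
    [QuasiSeparated π] {E : DCoh.D X} (hE : DCoh.IsQCohD E) (i : ℤ) :
    IsZero ((DerivedCategory.homologyFunctor AddCommGrpCat.{u} i).obj ((DCoh.RΓ X).obj E)) ↔
      IsZero (DCoh.HD ((SiteDer.Rres (rmor π)).obj E) i) := by
  rw [isZero_rGamma_iff_hom, ProjPush.hom_structure_eq_zero_iff π,
    ProjPush.isZero_HD_iff_hom (isQCohD_Rres π E hE)]

section Acyclic

variable {A B : Type*} [Category A] [Abelian A] [HasDerivedCategory A] [Category B] [Abelian B]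
  [HasDerivedCategory B] (F : DerivedCategory A ⥤ DerivedCategory B) [F.CommShift ℤ] [F.IsTriangulated]

/-- A functor sending every cohomology object to one degree reads off the cohomology degreewise. -/
theorem isZero_iff_of_acyclic (m : ℕ) : ∀ (E : DerivedCategory A) (a : ℤ) [E.IsGE a] [E.IsLE (a + m)],
    (∀ b k : ℤ, k ≠ b → IsZero ((DerivedCategory.homologyFunctor B k).obj
      (F.obj ((DerivedCategory.singleFunctor A b).obj ((DerivedCategory.homologyFunctor A b).obj E))))) →
    ∀ i : ℤ, (IsZero ((DerivedCategory.homologyFunctor B i).obj (F.obj E)) ↔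
      IsZero ((DerivedCategory.homologyFunctor B i).obj
        (F.obj ((DerivedCategory.singleFunctor A i).obj ((DerivedCategory.homologyFunctor A i).obj E))))) := by
  have hzero : ∀ (E : DerivedCategory A) (i : ℤ), IsZero ((DerivedCategory.homologyFunctor A i).obj E) →
      IsZero ((DerivedCategory.homologyFunctor B i).obj
        (F.obj ((DerivedCategory.singleFunctor A i).obj ((DerivedCategory.homologyFunctor A i).obj E)))) := fun E i h =>
    Functor.map_isZero _ (F.map_isZero ((DerivedCategory.singleFunctor A i).map_isZero h))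
  induction m with
  | zero =>
    intro E a _ hLE hac i
    haveI : E.IsLE a := by simpa using hLE
    obtain ⟨e⟩ := DerTrunc.nonempty_iso_single E a
    let c := (DerivedCategory.homologyFunctor B i).mapIso (F.mapIso e)
    by_cases hi : i = a
    · subst hi; exact ⟨fun h => h.of_iso c.symm, fun h => h.of_iso c⟩
    · refine ⟨fun _ => hzero E i ?_, fun _ => (hac a i hi).of_iso c⟩
      rcases lt_or_gt_of_ne hi with h | h
      · exact DerivedCategory.isZero_of_isGE E a i h
      · exact DerivedCategory.isZero_of_isLE E a i h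
  | succ m ih =>
    intro E a hGE hLE hac i
    obtain ⟨b, hb⟩ : ∃ b, b = a + (m + 1 : ℕ) := ⟨_, rfl⟩
    rw [← hb] at hLE
    let t := DerivedCategory.TStructure.t (C := A)
    let E₁ := (t.truncLT b).obj E
    let E₂ := (t.truncGE b).obj E
    haveI : E₁.IsLE (a + m) := t.isLE_truncLT_obj E b (a + m) (by omega)
    haveI : E₁.IsGE a := inferInstanceAs (t.IsGE ((t.truncLT b).obj E) a)
    haveI : E₂.IsGE b := inferInstanceAs (t.IsGE ((t.truncGE b).obj E) b)
    haveI : E₂.IsLE b := inferInstanceAs (t.IsLE ((t.truncGE b).obj E) b)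
    let G := fun (d : ℤ) (M : A) =>
      (DerivedCategory.homologyFunctor B d).obj (F.obj ((DerivedCategory.singleFunctor A d).obj M))
    have hi1 : ∀ k, k < b → Nonempty ((DerivedCategory.homologyFunctor A k).obj E₁ ≅
        (DerivedCategory.homologyFunctor A k).obj E) := fun k hk =>
      haveI := DerTrunc.isIso_homology_truncLTι E b k hk
      ⟨asIso ((DerivedCategory.homologyFunctor A k).map ((t.truncLTι b).app E))⟩
    have hz1 : ∀ k, b ≤ k → IsZero ((DerivedCategory.homologyFunctor A k).obj E₁) := fun k hk =>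
      DerTrunc.isZero_homology_truncLT E b k hk
    have hac1 : ∀ d k : ℤ, k ≠ d → IsZero ((DerivedCategory.homologyFunctor B k).obj
        (F.obj ((DerivedCategory.singleFunctor A d).obj ((DerivedCategory.homologyFunctor A d).obj E₁)))) := fun d k hdk => by
      by_cases hd : d < b
      · obtain ⟨e⟩ := hi1 d hd
        exact (hac d k hdk).of_iso ((DerivedCategory.homologyFunctor B k).mapIso
          (F.mapIso ((DerivedCategory.singleFunctor A d).mapIso e)))
      · exact Functor.map_isZero _ (F.map_isZero ((DerivedCategory.singleFunctor A d).map_isZero (hz1 d (by omega))))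
    obtain ⟨e₂⟩ := DerTrunc.nonempty_iso_single E₂ b
    haveI := DerTrunc.isIso_homology_truncGEπ E b b le_rfl
    let e₂' : F.obj E₂ ≅ F.obj ((DerivedCategory.singleFunctor A b).obj ((DerivedCategory.homologyFunctor A b).obj E)) :=
      F.mapIso (e₂ ≪≫ (DerivedCategory.singleFunctor A b).mapIso
        (asIso ((DerivedCategory.homologyFunctor A b).map ((t.truncGEπ b).app E))).symm)
    have hF2 : ∀ k, k ≠ b → IsZero ((DerivedCategory.homologyFunctor B k).obj (F.obj E₂)) := fun k hk =>
      (hac b k hk).of_iso ((DerivedCategory.homologyFunctor B k).mapIso e₂')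
    have hF1 : ∀ k, b ≤ k → IsZero ((DerivedCategory.homologyFunctor B k).obj (F.obj E₁)) := fun k hk =>
      (ih E₁ a hac1 k).2 (hzero E₁ k (hz1 k hk))
    have hT := F.map_distinguished _ (t.triangleLTGE_distinguished b E)
    rcases lt_trichotomy i b with h | h | h
    · haveI := DerTrunc.isIso_homology_mor₁ hT i (hF2 (i - 1) (by omega)) (hF2 i (by omega))
      let c := asIso ((DerivedCategory.homologyFunctor B i).map
        (F.mapTriangle.obj ((t.triangleLTGE b).obj E)).mor₁)
      obtain ⟨e⟩ := hi1 i h
      let w := (DerivedCategory.homologyFunctor B i).mapIso (F.mapIso ((DerivedCategory.singleFunctor A i).mapIso e))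
      exact (Iso.isZero_iff c).symm.trans ((ih E₁ a hac1 i).trans (Iso.isZero_iff w))
    · subst h
      haveI := DerTrunc.isIso_homology_mor₂ hT i (hF1 i le_rfl) (hF1 (i + 1) (by omega))
      let c := asIso ((DerivedCategory.homologyFunctor B i).map
        (F.mapTriangle.obj ((t.triangleLTGE i).obj E)).mor₂)
      exact (Iso.isZero_iff c).trans (Iso.isZero_iff ((DerivedCategory.homologyFunctor B i).mapIso e₂'))
    · refine ⟨fun _ => hzero E i (DerivedCategory.isZero_of_isLE E b i h), fun _ => ?_⟩
      exact (DerivedCategory.HomologySequence.exact₂ _ hT i).isZero_of_both_isZero (hF1 i h.le)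
        (hF2 i (by omega))

end Acyclic

/-- A globally generated module without sections is zero. -/
theorem isZero_of_hom_structure (F : X.Modules) (h : Curv2.IsGloballyGenerated F)
    (h0 : ∀ φ : Coh.structureModule X ⟶ F, φ = 0) : IsZero F := by
  obtain ⟨ι, p, hp⟩ := h
  have : p = 0 := by
    refine (SheafOfModules.freeHomEquiv F).injective (funext fun j => ?_)
    simp only [SheafOfModules.freeHomEquiv_apply, SheafOfModules.freeHomEquiv]
    simp [show SheafOfModules.ιFree j ≫ p = 0 from h0 _]
  exact @IsZero.of_epi_eq_zero _ _ _ _ _ p hp this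

variable (A : CommRingCat.{u}) [IsNoetherianRing A] (π : X ⟶ Spec A) [IsProper π]

include A π in
/-- **Hypercohomology of high twists**: eventually it detects exactly the cohomology sheaves. -/
theorem exists_forall_isZero_twist_iff [DCoh.HasRΓ X] {L : X.Modules} (hL : CohB1.IsAmple L) (E : DCoh.D X)
    (hE : DCoh.IsCohD E) (a b : ℤ) [E.IsGE a] [E.IsLE b] :
    ∃ n₀ : ℕ, ∀ n, n₀ ≤ n → ∀ [PreservesFiniteLimits (Euler.tF (CohB1.tensorPow L n))]
      [PreservesFiniteColimits (Euler.tF (CohB1.tensorPow L n))] (i : ℤ),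
      (IsZero ((DerivedCategory.homologyFunctor AddCommGrpCat.{u} i).obj
          ((DCoh.RΓ X).obj ((Euler.tF (CohB1.tensorPow L n)).mapDerivedCategory.obj E))) ↔
        IsZero (DCoh.HD E i)) := by
  letI : X.Over (Spec A) := ⟨π⟩
  haveI : IsProper (X ↘ Spec (CommRingCat.of A)) := ‹IsProper π›
  haveI : IsLocallyNoetherian X := LocallyOfFiniteType.isLocallyNoetherian π
  haveI : CompactSpace X := hL.2.1
  haveI := RpushSupp20.hasInjectiveResolutions X
  obtain ⟨c, ⟨e⟩⟩ := Ample.exists_cocycle hL.1
  have hamp := ((c.isAmple_iff e).1 hL).2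
  have key : ∀ j : ℤ, ∃ n₀ : ℕ, ∀ n, n₀ ≤ n →
      (∀ q, 1 ≤ q → Subsingleton (Coh.HH X (CohB1.tensorMod (DCoh.HD E j) (CohB1.tensorPow L n)) q)) ∧
        Curv2.IsGloballyGenerated (CohB1.tensorMod (DCoh.HD E j) (CohB1.tensorPow L n)) := fun j => by
    obtain ⟨n₁, h₁⟩ := SerreVanish.exists_forall_subsingleton (A := A) hL (hE j)
    haveI : (DCoh.HD E j).IsQuasicoherent := (hE j).1
    obtain ⟨n₂, h₂⟩ := c.eventually_isGloballyGenerated (DCoh.HD E j) hamp fun p => by
      obtain ⟨O, hO, hp, -⟩ := exists_isAffineOpen_mem_and_subset (x := p) (U := ⊤) trivial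
      exact ⟨O, hp, fun W hW _ => QCoh.moduleFinite_of_isFiniteType _ (hE j).2 hW⟩
    refine ⟨n₁ + n₂, fun n hn => ⟨h₁ n (by omega), ?_⟩⟩
    obtain ⟨d⟩ := c.nonempty_tensorPow_iso e n
    obtain ⟨q⟩ := c.nonempty_tensor_modTwist (DCoh.HD E j) n
    exact Ample.isGloballyGenerated_of_iso ((((DCoh.tensorBi (X := X)).obj _).mapIso d ≪≫ q).symm) (h₂ n (by omega))
  choose N hN using key
  refine ⟨(Finset.Icc a b).sup N, fun n hn _ _ i => ?_⟩
  let L' := CohB1.tensorPow L n
  have hL' : PicF.IsInvertible L' := Ample.isInvertible_tensorPow hL.1 n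
  let T := Euler.tF L'
  let E' := T.mapDerivedCategory.obj E
  let h : ∀ j, DCoh.HD E' j ≅ T.obj (DCoh.HD E j) := fun j =>
    (DerTrunc.nonempty_homology_mapDerivedCategory T E j).some
  have hzero : ∀ j, j < a ∨ b < j → IsZero (DCoh.HD E j) := fun j hj =>
    hj.elim (fun h => DerivedCategory.isZero_of_isGE E a j h) (fun h => DerivedCategory.isZero_of_isLE E b j h)
  have hc : ∀ j, Coh.IsCoh (DCoh.HD E' j) := fun j =>
    QCoh.isCoh_of_iso (h j).symm (RefK12.isCoh_tensor (hE j) hL')
  have hv : ∀ j q, 1 ≤ q → Subsingleton (Coh.HH X (DCoh.HD E' j) q) := fun j q hq => by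
    by_cases hj : j ∈ Finset.Icc a b
    · haveI : Subsingleton (Coh.HH X (T.obj (DCoh.HD E j)) q) := ((hN j) n (le_trans (Finset.le_sup hj) hn)).1 q hq
      exact (Euler.hhEquiv (A := A) (h j) q).toEquiv.subsingleton
    · exact Cohom.subsingleton_HH_of_isZero ((T.map_isZero (hzero j (by simp at hj; omega))).of_iso (h j)) q
  haveI : E'.IsGE a := DerTrunc.isGE_mapDerivedCategory T E a
  haveI : E'.IsLE (a + ((b - a).toNat : ℕ)) := (DerivedCategory.isLE_iff _ _).2 fun j hj =>
    (T.map_isZero (hzero j (Or.inr (by omega)))).of_iso (h j)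
  have hq : DCoh.IsQCohD E' := fun j => (hc j).1
  haveI : (SiteDer.Rres (rmor π)).IsTriangulated := SiteDer.isTriangulated_res_map (rmor π).push
  have hacy : ∀ p k : ℤ, k ≠ p → IsZero (DCoh.HD ((SiteDer.Rres (rmor π)).obj
      ((DerivedCategory.singleFunctor X.Modules p).obj (DCoh.HD E' p))) k) := fun p k hk => by
    rcases lt_or_gt_of_ne hk with hlt | hgt
    · let M : DCoh.D X := (DerivedCategory.singleFunctor X.Modules p).obj (DCoh.HD E' p)
      have hM : M.IsGE p := inferInstanceAs (((DerivedCategory.singleFunctor X.Modules p).obj (DCoh.HD E' p)).IsGE p)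
      have hge : ((SiteDer.Rres (rmor π)).obj M).IsGE p := @SiteDer.isGE_Rres _ _ _ _ _ _ _ _ (rmor π) M p hM
      exact @DerivedCategory.isZero_of_isGE _ _ _ _ _ p k hlt hge
    · refine SiteDer.isZero_homology_Rres_single (rmor π) (N := 0) _ (fun q hq' => ?_) k p (by omega)
      haveI : (DCoh.HD E' p).IsQuasicoherent := (hc p).1
      refine RelVanish.isZero_Rpush_of_cover π (DCoh.HD E' p) q (fun _ : Unit => ⊤)
        (fun _ => isAffineOpen_top _) (fun _ => ⟨(), trivial⟩) fun _ => ?_
      haveI := hv p q (by omega)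
      exact (Cohom.HEquivTop (Coh.toAb (DCoh.HD E' p)) q).symm.toEquiv.subsingleton
  have hGE' : E'.IsGE a := inferInstance
  have hLE' : E'.IsLE (a + ((b - a).toNat : ℕ)) := inferInstance
  have h0 : IsZero (DCoh.HD ((SiteDer.Rres (rmor π)).obj E') i) ↔ IsZero (DCoh.HD ((SiteDer.Rres (rmor π)).obj
      ((DerivedCategory.singleFunctor X.Modules i).obj (DCoh.HD E' i))) i) :=
    @isZero_iff_of_acyclic _ _ _ _ _ _ _ _ (SiteDer.Rres (rmor π)) _ _ (b - a).toNat E' a hGE' hLE' hacy i
  have hs : DCoh.IsQCohD ((DerivedCategory.singleFunctor X.Modules i).obj (DCoh.HD E' i)) :=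
    fun k => by
      by_cases hk : k = i
      · subst hk
        exact isQCoh_of_iso ((DerivedCategory.singleFunctorCompHomologyFunctorIso X.Modules k).app _).symm (hc k).1
      · rcases lt_or_gt_of_ne hk with hlt | hgt
        · exact isQCoh_of_isZero (DerivedCategory.isZero_of_isGE _ i k hlt)
        · exact isQCoh_of_isZero (DerivedCategory.isZero_of_isLE _ i k hgt)
  rw [isZero_rGamma_iff_Rres π hq i]
  refine h0.trans ?_
  rw [← isZero_rGamma_iff_Rres π hs i, isZero_rGamma_iff_hom]
  constructor
  · intro hh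
    by_cases hi : i ∈ Finset.Icc a b
    · have hgg := Ample.isGloballyGenerated_of_iso (h i).symm ((hN i) n (le_trans (Finset.le_sup hi) hn)).2
      have hz := isZero_of_hom_structure _ hgg fun φ =>
        (DerivedCategory.singleFunctor X.Modules i).map_injective ((hh _).trans (Functor.map_zero _ _ _).symm)
      haveI := ProjPush.isEquivalence_TT hL'
      have hz' : IsZero ((ProjPush.TT L').obj (DCoh.HD E i)) := (hz.of_iso (h i).symm).of_iso
        (((OX.tensorBraiding (X := X)).app L').app (DCoh.HD E i)).symm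
      exact (IsZero.iff_id_eq_zero _).2 ((ProjPush.TT L').map_injective (hz'.eq_of_src _ _))
    · exact hzero i (by simp at hi; omega)
  · intro hz φ
    exact ((DerivedCategory.singleFunctor X.Modules i).map_isZero ((T.map_isZero hz).of_iso (h i))).eq_of_tgt _ _

end GrothLib.FMK22
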