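import Groth.Agent.Lib.FMK22.Fibre
import Groth.Agent.Lib.FMK22.Hyper
import Groth.Agent.Lib.FMK22.SuppVanish
import Groth.Agent.Lib.OX.HomAmplitude
import Groth.Agent.Lib.Dual22.TensorShift
import Groth.Agent.Lib.AlgSp.DecentTop
import Groth.Agent.Lib.KSix19.GradedPush

/-! # Hypercohomological vanishing from the dimensions of supports -/

set_option autoImplicit false
set_option maxHeartbeats 1000000
set_option linter.style.haveILetI false
universe u

open CategoryTheory CategoryTheory.Limits AlgebraicGeometry HomologicalComplex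
attribute [local instance] HasDerivedCategory.standard

noncomputable section

namespace GrothLib.FMK22

open GrothLib.OX

variable {X : Scheme.{u}}

/-- The height of a point in the specialisation order is at most the dimension of the scheme. -/
theorem height_le_dim (g : ℕ) (hg : topologicalKrullDim ↥X ≤ (g : WithBot ℕ∞)) (x : X) :
    Order.height x ≤ (g : ℕ∞) := by
  have h : (Order.height x : WithBot ℕ∞) ≤ Order.krullDim ↥X := Order.height_le_krullDim x
  refine WithBot.coe_le_coe.1 (h.trans (le_trans (le_of_eq ?_) hg))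
  exact (GrothLib.AlgSp.TopDim.topologicalKrullDim_eq_krullDim (X := ↥X)).symm

/-- Height plus codimension is at most the dimension. -/
theorem height_add_le_of_le_codim (g : ℕ) (hg : topologicalKrullDim ↥X ≤ (g : WithBot ℕ∞)) (x : X) (i : ℕ)
    (hi : (i : WithBot ℕ∞) ≤ ringKrullDim (X.presheaf.stalk x)) : Order.height x + (i : ℕ∞) ≤ (g : ℕ∞) := by
  rw [ringKrullDim_stalk_eq_coheight] at hi
  refine le_trans (add_le_add le_rfl (WithBot.coe_le_coe.1 hi)) (WithBot.coe_le_coe.1 ?_)
  haveI : Nonempty ↥X := ⟨x⟩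
  have h : ((Order.height x + Order.coheight x : ℕ∞) : WithBot ℕ∞) ≤ Order.krullDim ↥X := by
    rw [Order.krullDim_eq_iSup_height_add_coheight_of_nonempty]
    exact WithBot.coe_le_coe.2 (le_iSup (fun a : X => Order.height a + Order.coheight a) x)
  refine h.trans (le_trans (le_of_eq ?_) hg)
  exact (GrothLib.AlgSp.TopDim.topologicalKrullDim_eq_krullDim (X := ↥X)).symm

/-- Height is at most the dimension of an embedded space containing all specialisations. -/
theorem height_le_dim_embedding {Y : Type u} [TopologicalSpace Y] [QuasiSober Y] [T0Space Y] {f : Y → X}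
    (hf : Topology.IsEmbedding f) {x : X} (hx : ∀ z : X, x ⤳ z → z ∈ Set.range f) :
    (Order.height x : WithBot ℕ∞) ≤ topologicalKrullDim Y := by
  letI := specializationOrder Y
  rw [GrothLib.AlgSp.TopDim.topologicalKrullDim_eq_krullDim (X := Y)]
  obtain ⟨y₀, -⟩ := hx x specializes_rfl
  haveI : Nonempty Y := ⟨y₀⟩
  rw [Order.krullDim_eq_iSup_length]
  refine WithBot.coe_le_coe.2 (Order.height_le fun p hp => ?_)
  have hmem : ∀ i, ∃ y, f y = p i := fun i => hx _ (hp ▸ p.monotone (Fin.le_last i))
  choose y hy using hmem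
  let q : LTSeries Y := LTSeries.mk p.length y fun i j hij => by
    have h : p i < p j := p.strictMono hij
    refine lt_iff_le_not_ge.2 ⟨hf.isInducing.specializes_iff.1 (by rw [hy, hy]; exact h.le), fun h' => h.not_ge ?_⟩
    have h2 : f (y i) ⤳ f (y j) := hf.isInducing.specializes_iff.2 h'
    rw [hy, hy] at h2
    exact h2
  exact le_iSup (fun q : LTSeries Y => (q.length : ℕ∞)) q

/-- Points of a closed set have height at most its dimension. -/
theorem height_le_dim_closed {C : Set X} (hC : IsClosed C) {x : X} (hx : x ∈ C) :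
    (Order.height x : WithBot ℕ∞) ≤ topologicalKrullDim ↥C :=
  haveI : QuasiSober ↥C := hC.isClosedEmbedding_subtypeVal.quasiSober
  height_le_dim_embedding (f := (Subtype.val : ↥C → X)) Topology.IsEmbedding.subtypeVal
    fun z hz => ⟨⟨z, hz.mem_closed hC hx⟩, rfl⟩

/-- Cohomology vanishes above the dimension of the support. -/
theorem subsingleton_HH_of_height [IsNoetherian X] (g : ℕ) (hg : topologicalKrullDim ↥X ≤ (g : WithBot ℕ∞))
    (M : X.Modules) (k : ℕ) (hM : ∀ x : X, x ∈ CohB1.support M → Order.height x < (k : ℕ∞))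
    (p : ℕ) (hp : k ≤ p) : Subsingleton (Coh.HH X M p) := by
  let rk : X → ℕ := fun x => (Order.height x).toNat
  have hne : ∀ x : X, Order.height x ≠ ⊤ := fun x => ne_top_of_le_ne_top (ENat.coe_ne_top g) (height_le_dim g hg x)
  haveI : TopologicalSpace.NoetherianSpace (X.toTopCat : Type u) := inferInstanceAs (TopologicalSpace.NoetherianSpace ↥X)
  haveI : QuasiSober (X.toTopCat : Type u) := inferInstanceAs (QuasiSober ↥X)
  have hrk : ∀ η x : ↥X, η ⤳ x → η ≠ x → rk x < rk η := fun η x hηx hne' => by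
    have hlt : (x : X) < (η : X) :=
      lt_of_le_not_ge hηx fun h => hne' (Specializes.antisymm hηx h).eq
    have h1 := Order.height_strictMono hlt ((height_le_dim g hg x).trans_lt (ENat.coe_lt_top g))
    rw [← ENat.natCast_toNat (hne x), ← ENat.natCast_toNat (hne η)] at h1
    exact_mod_cast h1
  have hz : ∀ x : ↥X, k ≤ rk x → IsZero ((Godement25.st' (X := X.toTopCat) x).obj (Coh.toAb M)) := fun x hx => by
    haveI : Subsingleton (M.presheaf.stalk x) := by
      by_contra hx'
      have h := hM x hx'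
      rw [← ENat.natCast_toNat (hne x)] at h
      have : (Order.height (x : X)).toNat < k := by exact_mod_cast h
      exact absurd hx (by show ¬ k ≤ (Order.height (x : X)).toNat; omega)
    exact AddCommGrpCat.isZero_of_subsingleton (M.presheaf.stalk x)
  exact GVanish.subsingleton_H_of_support (X := X.toTopCat) rk hrk k (Coh.toAb M) hz p hp

/-- Hypercohomology vanishes above `g` when degree `l` is supported in dimension at most `g - l`. -/
theorem isZero_rGamma_of_height [IsNoetherian X] [DCoh.HasRΓ X] (g : ℕ) (hg : topologicalKrullDim ↥X ≤ (g : WithBot ℕ∞))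
    (M : DCoh.D X) (a b : ℤ) [M.IsGE a] [M.IsLE b]
    (hM : ∀ (l : ℕ) (x : X), x ∈ CohB1.support (DCoh.HD M (l : ℤ)) → Order.height x + (l : ℕ∞) ≤ (g : ℕ∞))
    (i : ℤ) (hi : (g : ℤ) < i) :
    IsZero ((DerivedCategory.homologyFunctor AddCommGrpCat.{u} i).obj ((DCoh.RΓ X).obj M)) := by
  refine (isZero_rGamma_iff_hom M i).2 fun φ => ?_
  haveI : M.IsLE (a + ((b - a).toNat : ℕ)) := DerivedCategory.TStructure.t.isLE_of_le M b _ (by omega)
  refine hom_eq_zero_of_cohomology _ (b - a).toNat M a (fun j ψ => ?_) φ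
  refine hom_single_eq_zero _ i j (fun p hp => ?_) ψ
  refine subsingleton_HH_of_height g hg _ p (fun x hx => ?_) p le_rfl
  obtain ⟨h, hh⟩ := ENat.ne_top_iff_exists.1 (ne_top_of_le_ne_top (ENat.coe_ne_top g) (height_le_dim g hg x))
  rw [← hh]
  by_cases hj : 0 ≤ j
  · obtain ⟨l, rfl⟩ := Int.eq_ofNat_of_zero_le hj
    have h2 := hM l x hx
    rw [← hh] at h2
    have h3 : h + l ≤ g := by exact_mod_cast h2
    exact_mod_cast (show h < p by omega)
  · have h2 := height_le_dim g hg x
    rw [← hh] at h2
    have h3 : h ≤ g := by exact_mod_cast h2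
    exact_mod_cast (show h < p by omega)

/-- Tensoring with an object in degrees `≤ 0` does not move supports up. -/
theorem exists_mem_support_of_ltensor [IsNoetherian X] (G : CochainComplex X.Modules ℤ) [DCoh.HasLTensorCx G]
    (hG : ∀ i : ℤ, 0 < i → IsZero (G.homology i)) (K : DCoh.D X) (hK : DCoh.IsCohD K) (n : ℤ) [K.IsLE n]
    (l : ℤ) {x : X} (hx : x ∈ CohB1.support (DCoh.HD ((DCoh.LTensorCx G).obj K) l)) :
    ∃ j : ℤ, l ≤ j ∧ x ∈ CohB1.support (DCoh.HD K j) := by
  by_contra h
  push Not at h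
  haveI : ((resD (⊤ : X.Opens).ι).obj K).IsLE n := KSix19.isLE_resD _ ‹K.IsLE n›
  obtain ⟨W, hxW, hW⟩ := exists_nbhd_isLE K hK x ⊤ trivial n (l - 1) fun j hj => h j (by omega)
  haveI := hW
  haveI := hasLTensorCx ((resCx W.ι).obj G)
  obtain ⟨r⟩ := Dual22.nonempty_resD_ltensorCx W.ι G K
  have hz : ∀ i : ℤ, 0 < i → IsZero (((resCx W.ι).obj G).homology i) := fun i hi =>
    ((Scheme.Modules.restrictFunctor W.ι).map_isZero ((hG i hi).of_iso (hdIso G i))).of_iso
      ((hdIso _ i).symm ≪≫ (DerivedCategory.homologyFunctor _ i).mapIso ((resDFac W.ι).app G).symm ≪≫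
        HDResIso W.ι (DerivedCategory.Q.obj G) i)
  have h1 := isLE_ltensorCx ((resCx W.ι).obj G) hz ((resD W.ι).obj K) (l - 1)
  haveI : ((resD W.ι).obj ((DCoh.LTensorCx G).obj K)).IsLE (l - 1) := by
    rw [DerivedCategory.isLE_iff]
    intro i hi
    haveI := h1
    exact (DerivedCategory.isZero_of_isLE ((DCoh.LTensorCx ((resCx W.ι).obj G)).obj ((resD W.ι).obj K)) (l - 1 + 0) i
      (by omega)).of_iso ((DerivedCategory.homologyFunctor _ i).mapIso r)
  exact not_mem_support_of_isLE _ W hxW (l - 1) l (by omega) hx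

end GrothLib.FMK22
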