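import Groth.Agent.S16375
import Groth.Agent.Lib.RightAdj22.Proj
import Groth.Agent.Lib.FMK22.Fibre

/-! # `RΓ(X, Ψ_P(N) ⊗ E) = RΓ(Y, Φ_P(E) ⊗ N)` for quasi-coherent `N` -/

set_option autoImplicit false
set_option maxHeartbeats 1000000
set_option linter.style.haveILetI false
universe u

open CategoryTheory CategoryTheory.Limits AlgebraicGeometry
attribute [local instance] HasDerivedCategory.standard

noncomputable section

namespace GrothLib.FMK22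

open GrothLib.OX

theorem nonempty_rGamma_psi_qcoh {k : Type u} [Field k]
    {X Y : Scheme.{u}} (a : X ⟶ Spec (CommRingCat.of k)) (b : Y ⟶ Spec (CommRingCat.of k)) [IsProper a] [IsProper b]
    (P : CochainComplex (pullback a b).Modules ℤ) (hP : DCoh.IsPerfect (DCoh.toD (pullback a b) P))
    [DCoh.HasLpull (pullback.fst a b)] [DCoh.HasLpull (pullback.snd a b)] [DCoh.HasLTensorCx P]
    [DCoh.HasRpush (pullback.fst a b)] [DCoh.HasRpush (pullback.snd a b)]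
    [DCoh.HasRΓ X] [DCoh.HasRΓ Y]
    (E : CochainComplex X.Modules ℤ) (hE : DCoh.IsPerfect (DCoh.toD X E)) [DCoh.HasLTensorCx E]
    (G : CochainComplex Y.Modules ℤ) (hG : DCoh.IsKFlat G) (hGq : DCoh.IsQCohD (DCoh.toD Y G))
    [DCoh.HasLTensorCx G] :
    Nonempty ((DCoh.RΓ X).obj ((DCoh.LTensorCx E).obj
        ((DCoh.Lpull (pullback.snd a b) ⋙ DCoh.LTensorCx P ⋙ DCoh.Rpush (pullback.fst a b)).obj (DCoh.toD Y G))) ≅
      (DCoh.RΓ Y).obj ((DCoh.LTensorCx G).obj ((FMK.phi a b P).obj (DCoh.toD X E)))) := by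
  obtain ⟨K, hK, ⟨eK⟩⟩ := GrothLib.OX.exists_kflat_rep (DCoh.toD X E)
  let p := pullback.fst a b
  let q := pullback.snd a b
  let T := fun (A B : CochainComplex (pullback a b).Modules ℤ) => ((DCoh.tensorCx (X := pullback a b)).obj A).obj B
  let K' := (GrothLib.OX.pullCxF p).obj K
  let G' := (GrothLib.OX.pullCxF q).obj G
  have hK' : DCoh.IsKFlat K' := GrothLib.OX.isKFlat_pullback p hK
  have hG' : DCoh.IsKFlat G' := GrothLib.OX.isKFlat_pullback q hG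
  haveI := hasLTensorCx K
  haveI := hasLTensorCx K'
  haveI := hasLTensorCx G'
  haveI : DCoh.HasRΓ (pullback a b) := GrothLib.KInj.hasRightDerivedFunctor _
  obtain ⟨lK⟩ := GrothLib.OX.lpull_value p K hK
  obtain ⟨lG⟩ := GrothLib.OX.lpull_value q G hG
  obtain ⟨vK⟩ := GrothLib.OX.ltensorCx_value P K' hK'
  obtain ⟨vG⟩ := GrothLib.OX.ltensorCx_value P G' hG'
  obtain ⟨wK⟩ := GrothLib.OX.ltensorCx_value_of_isKFlat K' hK' (T G' P)
  obtain ⟨wG⟩ := GrothLib.OX.ltensorCx_value_of_isKFlat G' hG' (T K' P)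
  let A := (DCoh.LTensorCx P).obj ((DCoh.Lpull q).obj (DCoh.toD Y G))
  let B := (DCoh.LTensorCx P).obj ((DCoh.Lpull p).obj (DCoh.toD X E))
  obtain ⟨sX⟩ := nonempty_ltensorCx_congr eK.symm ((DCoh.Rpush p).obj A)
  obtain ⟨pX⟩ := nonempty_proj_kflat p K hK (GrothLib.OX.isPerfect_of_iso hE eK.symm) A
  obtain ⟨τ⟩ := RightAdj22.nonempty_proj_nat q G hG hGq
  let Bq : (DCoh.IsQCohD (X := (pullback a b : Scheme.{u}))).FullSubcategory :=
    ⟨B, isQCohD_of_isPerfect (isPerfect_kernel p P hP hE)⟩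
  let pY : (DCoh.LTensorCx G).obj ((DCoh.Rpush q).obj B) ≅ (DCoh.Rpush q).obj ((DCoh.LTensorCx G').obj B) :=
    (DCoh.LTensorCx G).mapIso ((rpushIsoRres q).app B) ≪≫ τ.app Bq ≪≫ ((rpushIsoRres q).app _).symm
  obtain ⟨gX⟩ := nonempty_rGamma_rpush p ((DCoh.LTensorCx K').obj A)
  obtain ⟨gY⟩ := nonempty_rGamma_rpush q ((DCoh.LTensorCx G').obj B)
  let c : T (T G' P) K' ≅ T (T K' P) G' :=
    (GrothLib.OX.tensorCxSymm _ _).symm ≪≫
      ((DCoh.tensorCx (X := pullback a b)).obj K').mapIso (GrothLib.OX.tensorCxSymm G' P).symm ≪≫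
      (GrothLib.OX.tensorCxAssoc K' P G').symm
  exact ⟨(DCoh.RΓ X).mapIso (sX ≪≫ pX) ≪≫ gX ≪≫
    (DCoh.RΓ (pullback a b)).mapIso
      ((DCoh.LTensorCx K').mapIso ((DCoh.LTensorCx P).mapIso lG ≪≫ vG) ≪≫ wK ≪≫
        DerivedCategory.Q.mapIso c ≪≫ wG.symm ≪≫
        (DCoh.LTensorCx G').mapIso (vK.symm ≪≫ (DCoh.LTensorCx P).mapIso (lK.symm ≪≫ (DCoh.Lpull p).mapIso eK))) ≪≫
    gY.symm ≪≫ (DCoh.RΓ Y).mapIso pY.symm⟩

end GrothLib.FMK22
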