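import Groth.Agent.Lib.FMK22.Duality
import Groth.Agent.Lib.TorBC25.Class

/-! # Fourier–Mukai transforms commute with shifts -/

set_option autoImplicit false
set_option maxHeartbeats 1000000
set_option linter.style.haveILetI false
universe u

open CategoryTheory CategoryTheory.Limits AlgebraicGeometry
open DerivedCategory (Q)
attribute [local instance] HasDerivedCategory.standard

noncomputable section

namespace GrothLib.FMK22

open GrothLib.OX

variable {X Y S : Scheme.{u}}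

/-- Derived inverse image commutes with shifts. -/
theorem nonempty_lpull_shift (f : X ⟶ Y) [DCoh.HasLpull f] (M : DCoh.D Y) (n : ℤ) :
    Nonempty ((DCoh.Lpull f).obj ((shiftFunctor (DCoh.D Y) n).obj M) ≅
      (shiftFunctor (DCoh.D X) n).obj ((DCoh.Lpull f).obj M)) := by
  obtain ⟨W, hW, ⟨eW⟩⟩ := exists_kflat_rep M
  obtain ⟨v⟩ := lpull_value f W hW
  obtain ⟨v'⟩ := lpull_value f (W⟦n⟧) (Dual22.isKFlat_shift hW n)
  exact ⟨(DCoh.Lpull f).mapIso (((Q (C := Y.Modules)).commShiftIso n).app W ≪≫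
      (shiftFunctor (DCoh.D Y) n).mapIso eW).symm ≪≫ v' ≪≫
    Q.mapIso (((pullCxF f).commShiftIso n).app W) ≪≫ ((Q (C := X.Modules)).commShiftIso n).app _ ≪≫
    (shiftFunctor (DCoh.D X) n).mapIso (v.symm ≪≫ (DCoh.Lpull f).mapIso eW)⟩

/-- Derived direct image commutes with shifts. -/
theorem nonempty_rpush_shift (f : X ⟶ Y) [DCoh.HasRpush f] (M : DCoh.D X) (n : ℤ) :
    Nonempty ((DCoh.Rpush f).obj ((shiftFunctor (DCoh.D X) n).obj M) ≅
      (shiftFunctor (DCoh.D Y) n).obj ((DCoh.Rpush f).obj M)) :=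
  ⟨(rpushIsoRres f).app _ ≪≫ ((RR f).commShiftIso n).app M ≪≫
    (shiftFunctor (DCoh.D Y) n).mapIso ((rpushIsoRres f).app M).symm⟩

/-- `Φ_P` commutes with shifts. -/
theorem nonempty_phi_shift (a : X ⟶ S) (b : Y ⟶ S) (P : CochainComplex (pullback a b).Modules ℤ)
    [DCoh.HasLpull (pullback.fst a b)] [DCoh.HasLTensorCx P] [DCoh.HasRpush (pullback.snd a b)] (M : DCoh.D X) (n : ℤ) :
    Nonempty ((FMK.phi a b P).obj ((shiftFunctor (DCoh.D X) n).obj M) ≅
      (shiftFunctor (DCoh.D Y) n).obj ((FMK.phi a b P).obj M)) := by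
  obtain ⟨i⟩ := nonempty_lpull_shift (pullback.fst a b) M n
  obtain ⟨j⟩ := nonempty_ltensorCx_obj_shift P ((DCoh.Lpull (pullback.fst a b)).obj M) n
  obtain ⟨r⟩ := nonempty_rpush_shift (pullback.snd a b) ((DCoh.LTensorCx P).obj ((DCoh.Lpull (pullback.fst a b)).obj M)) n
  exact ⟨(DCoh.Rpush (pullback.snd a b)).mapIso ((DCoh.LTensorCx P).mapIso i ≪≫ j) ≪≫ r⟩

end GrothLib.FMK22
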