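import Groth.Agent.Lib.FMK22.ThickTest
import Groth.Agent.Lib.OX.AffineReflect
import Groth.Agent.Lib.OX.RRComp
import Groth.Agent.Lib.TorBC25.Class
import Groth.Agent.Lib.BCPerf20.Proper
import Groth.Agent.Lib.OX.HomDevissage
import Groth.Agent.Lib.FMBC15.Twist

/-! # Tensoring with a closed subscheme and pushing to where it is affine -/

set_option autoImplicit false
set_option maxHeartbeats 1000000
set_option linter.style.haveILetI false
set_option backward.isDefEq.respectTransparency false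
universe u

open CategoryTheory CategoryTheory.Limits AlgebraicGeometry HomologicalComplex Pretriangulated
open DerivedCategory (Q Qh)
attribute [local instance] HasDerivedCategory.standard

noncomputable section

namespace GrothLib.FMK22

open GrothLib.OX GrothLib.ShriekBridge22 GrothLib.TorBC25

variable {Y Z S : Scheme.{u}}

/-- Tensoring degreewise with a module is tensoring with it placed in degree zero, naturally. -/
def singleNatIso (N : Y.Modules) :
    tensorModCx N ≅ tensR ((single Y.Modules (ComplexShape.up ℤ) 0).obj N) :=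
  NatIso.ofComponents (fun L => singleIso L N) fun {L L'} φ => by
    let S := (single Y.Modules (ComplexShape.up ℤ) 0).obj N
    refine HomologicalComplex.hom_ext _ _ fun n => ?_
    change ((DCoh.tensorBi (X := Y)).map (φ.f n)).app N ≫
        ((DCoh.tensorBi (X := Y)).obj (L'.X n)).map (singleObjXSelf (ComplexShape.up ℤ) 0 N).inv ≫
          ιMapBifunctor L' S (DCoh.tensorBi (X := Y)) (ComplexShape.up ℤ) n 0 n (add_zero n) =
      (((DCoh.tensorBi (X := Y)).obj (L.X n)).map (singleObjXSelf (ComplexShape.up ℤ) 0 N).inv ≫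
          ιMapBifunctor L S (DCoh.tensorBi (X := Y)) (ComplexShape.up ℤ) n 0 n (add_zero n)) ≫
        (mapBifunctorMap φ (𝟙 S) (DCoh.tensorBi (X := Y)) (ComplexShape.up ℤ)).f n
    rw [Category.assoc, ι_mapBifunctorMap, ← Category.assoc, ← ((DCoh.tensorBi (X := Y)).map (φ.f n)).naturality,
      Category.assoc, HomologicalComplex.id_f, CategoryTheory.Functor.map_id]
    simp [S]

/-- The two derived tensor products with a module agree as functors. -/
theorem nonempty_LTensorMod_natIso (N : Y.Modules) [DCoh.HasLTensorMod N]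
    [DCoh.HasLTensorCx ((single Y.Modules (ComplexShape.up ℤ) 0).obj N)] :
    Nonempty (DCoh.LTensorMod N ≅ DCoh.LTensorCx ((single Y.Modules (ComplexShape.up ℤ) 0).obj N)) := by
  let E := (single Y.Modules (ComplexShape.up ℤ) 0).obj N
  let F := DCoh.tensorRightMod N
  refine nonempty_iso_of_kflat' _ _ ?_
  have c₁ : (kflat Y).ι ⋙ Q ⋙ DCoh.LTensorCx E ≅ (kflat Y).ι ⋙ DCoh.tensorCxQ E :=
    NatIso.ofComponents (fun P =>
      have := (cxResolvable_tensor E).isIso_app_of_isLeftDerivedFunctor (DCoh.LTensorCx E)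
        ((DCoh.tensorCxQ E).totalLeftDerivedCounit Q
          (HomologicalComplex.quasiIso Y.Modules (ComplexShape.up ℤ))) P.property
      asIso (((DCoh.tensorCxQ E).totalLeftDerivedCounit Q
          (HomologicalComplex.quasiIso Y.Modules (ComplexShape.up ℤ))).app P.obj))
      (fun g => ((DCoh.tensorCxQ E).totalLeftDerivedCounit Q
          (HomologicalComplex.quasiIso Y.Modules (ComplexShape.up ℤ))).naturality g.hom)
  have c₄ : (kflat Y).ι ⋙ HomotopyCategory.quotient _ _ ⋙ Qh ⋙ DCoh.LTensorMod N ≅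
      (kflat Y).ι ⋙ HomotopyCategory.quotient _ _ ⋙ (F.mapHomotopyCategory (ComplexShape.up ℤ) ⋙ Qh) :=
    NatIso.ofComponents (fun P =>
      have := (leftResolvable_of_acyclic F (acyclic_tensorRightMod N)).isIso_app_of_isLeftDerivedFunctor
        (DCoh.LTensorMod N)
        ((F.mapHomotopyCategory (ComplexShape.up ℤ) ⋙ Qh).totalLeftDerivedCounit Qh
          (HomotopyCategory.quasiIso Y.Modules (ComplexShape.up ℤ)))
        (Q := (HomotopyCategory.quotient _ _).obj P.obj) P.property
      asIso (((F.mapHomotopyCategory (ComplexShape.up ℤ) ⋙ Qh).totalLeftDerivedCounit Qh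
          (HomotopyCategory.quasiIso Y.Modules (ComplexShape.up ℤ))).app ((HomotopyCategory.quotient _ _).obj P.obj)))
      (fun g => ((F.mapHomotopyCategory (ComplexShape.up ℤ) ⋙ Qh).totalLeftDerivedCounit Qh
          (HomotopyCategory.quasiIso Y.Modules (ComplexShape.up ℤ))).naturality
        ((HomotopyCategory.quotient _ _).map g.hom))
  have c₂ : (kflat Y).ι ⋙ Q ⋙ DCoh.LTensorMod N ≅
      (kflat Y).ι ⋙ F.mapHomologicalComplex (ComplexShape.up ℤ) ⋙ Q :=
    Functor.isoWhiskerLeft (kflat Y).ι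
        (Functor.isoWhiskerRight (DerivedCategory.quotientCompQhIso Y.Modules).symm (DCoh.LTensorMod N)) ≪≫ c₄ ≪≫
      Functor.isoWhiskerLeft (kflat Y).ι
        (Functor.isoWhiskerRight (F.mapHomotopyCategoryFactors (ComplexShape.up ℤ)) Qh) ≪≫
      Functor.isoWhiskerLeft ((kflat Y).ι ⋙ F.mapHomologicalComplex (ComplexShape.up ℤ))
        (DerivedCategory.quotientCompQhIso Y.Modules)
  exact c₂ ≪≫ Functor.isoWhiskerLeft (kflat Y).ι
    (Functor.isoWhiskerRight (NatIso.mapHomologicalComplex (tensorRightModIso N) (ComplexShape.up ℤ) ≪≫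
      singleNatIso N) Q) ≪≫ c₁.symm

/-- Tensoring with the structure sheaf of a closed subscheme is pulling back and pushing forward. -/
theorem nonempty_LTensorMod_closed (g : Z ⟶ Y) [IsClosedImmersion g] [DCoh.HasLpull g] (N : Y.Modules)
    [DCoh.HasLTensorMod N] (eN : N ≅ (Scheme.Modules.pushforward g).obj (Coh.structureModule Z)) :
    Nonempty (DCoh.LTensorMod N ≅ DCoh.Lpull g ⋙ RR g) := by
  haveI := OX.hasLTensorCx ((single Y.Modules (ComplexShape.up ℤ) 0).obj N)
  haveI := OX.hasLTensorCx ((pushCxF g).obj (unitCx Z))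
  haveI := FlatBCRpush.preservesFiniteLimits_pushforward g
  haveI := preservesFiniteColimits_pushforward g
  obtain ⟨a⟩ := nonempty_LTensorMod_natIso N
  obtain ⟨b⟩ := nonempty_ltensorCx_congr_of_iso
    (E := (single Y.Modules (ComplexShape.up ℤ) 0).obj N) (E' := (pushCxF g).obj (unitCx Z))
    (Q.mapIso ((single Y.Modules (ComplexShape.up ℤ) 0).mapIso eN ≪≫
      ((singleMapHomologicalComplex (Scheme.Modules.pushforward g) (ComplexShape.up ℤ) 0).app
        (Coh.structureModule Z)).symm))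
  obtain ⟨c⟩ := nonempty_LTensorCx_push_unit g
  obtain ⟨p⟩ := nonempty_RR_pushD g
  exact ⟨a ≪≫ b ≪≫ c ≪≫ Functor.isoWhiskerLeft (DCoh.Lpull g) p.symm⟩

/-- Along an affine morphism vanishing of one cohomology sheaf is detected after pushing forward. -/
theorem isZero_HD_of_isZero_HD_RR (f : Z ⟶ S) [IsAffineHom f] {E : DCoh.D Z} (hE : DCoh.IsQCohD E) (j : ℤ)
    (h : IsZero (DCoh.HD ((RR f).obj E) j)) : IsZero (DCoh.HD E j) := by
  refine isZero_of_affine_cover (hE j) (fun V : S.affineOpens => f ⁻¹ᵁ V.1) (fun V => V.2.preimage f)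
    (fun x => ?_) fun V t => ?_
  · obtain ⟨U, hU, hx, -⟩ := exists_isAffineOpen_mem_and_subset (x := f x) (U := ⊤) trivial
    exact ⟨⟨U, hU⟩, hx⟩
  · obtain ⟨φ, hφ⟩ := (theta_bijective (V.2.preimage f) hE j).2 ((genSec (DCoh.HD E j) (f ⁻¹ᵁ V.1)).symm t)
    have h0 : φ = 0 := by
      let e := SiteDer.pushHomEquiv (rmor f) V.1 j E
      have hz : e.symm φ = 0 := (theta_bijective V.2 (isQCohD_Rres f E hE) j).1 (h.eq_of_tgt _ _)
      refine (e.apply_symm_apply φ).symm.trans ((congrArg e hz).trans ?_)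
      exact SiteDer.pushHomEquiv_zero (rmor f) V.1 j E
    simp only [h0, SiteDer.theta_zero] at hφ
    rw [← (genSec (DCoh.HD E j) (f ⁻¹ᵁ V.1)).apply_symm_apply t, ← hφ]
    exact SiteDer.secMod_zero _ _

/-- Perfectness of the third object and the cohomology sequence: the test through `Rq_* Lg^*`. -/
theorem isZero_HD_lpull_cone (g : Z ⟶ Y) [IsClosedImmersion g] [DCoh.HasLpull g] (q : Y ⟶ S)
    [IsAffineHom (g ≫ q)] [DCoh.HasRpush q] (N : Y.Modules) [DCoh.HasLTensorMod N]
    (eN : N ≅ (Scheme.Modules.pushforward g).obj (Coh.structureModule Z))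
    {T : Triangle (DCoh.D Y)} (hT : T ∈ distTriang _) (hC : DCoh.IsQCohD T.obj₃) (i : ℤ)
    (h₁ : Epi ((DerivedCategory.homologyFunctor _ i).map
      ((DCoh.Rpush q).map ((DCoh.LTensorMod N).map T.mor₁))))
    (h₂ : Mono ((DerivedCategory.homologyFunctor _ (i + 1)).map
      ((DCoh.Rpush q).map ((DCoh.LTensorMod N).map T.mor₁)))) :
    IsZero (DCoh.HD ((DCoh.Lpull g).obj T.obj₃) i) := by
  haveI : DCoh.HasRpush g := KInj.hasRightDerivedFunctor _
  obtain ⟨adj⟩ := nonempty_lpullAdj g
  let adj' : DCoh.Lpull g ⊣ RR g := adj.ofNatIsoRight (rpushIsoRres g)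
  letI := lpullCommShift g adj'
  haveI := isTriangulated_lpull g adj'
  obtain ⟨a⟩ := nonempty_LTensorMod_closed g N eN
  let ε : DCoh.LTensorMod N ⋙ DCoh.Rpush q ≅ DCoh.Lpull g ⋙ RR (g ≫ q) :=
    Functor.isoWhiskerRight a _ ≪≫ Functor.associator _ _ _ ≪≫
      Functor.isoWhiskerLeft (DCoh.Lpull g) (Functor.isoWhiskerLeft _ (rpushIsoRres q) ≪≫ RRCompIso g q)
  let G := DCoh.Lpull g ⋙ RR (g ≫ q)
  have hT' := G.map_distinguished T hT
  have e₁ : Epi ((DerivedCategory.homologyFunctor _ i).map (G.map T.mor₁)) := by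
    haveI := h₁
    rw [← NatIso.naturality_1 ε T.mor₁, Functor.map_comp, Functor.map_comp]
    exact inferInstanceAs (Epi (_ ≫ (DerivedCategory.homologyFunctor S.Modules i).map
      ((DCoh.Rpush q).map ((DCoh.LTensorMod N).map T.mor₁)) ≫ _))
  have e₂ : Mono ((DerivedCategory.homologyFunctor _ (i + 1)).map (G.map T.mor₁)) := by
    haveI := h₂
    rw [← NatIso.naturality_1 ε T.mor₁, Functor.map_comp, Functor.map_comp]
    exact inferInstanceAs (Mono (_ ≫ (DerivedCategory.homologyFunctor S.Modules (i + 1)).map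
      ((DCoh.Rpush q).map ((DCoh.LTensorMod N).map T.mor₁)) ≫ _))
  refine isZero_HD_of_isZero_HD_RR (g ≫ q) (SuppTens22.isQCohD_lpull g hC) i ?_
  refine (DerivedCategory.HomologySequence.exact₃ _ hT' i (i + 1) rfl).isZero_of_both_zeros ?_ ?_
  · exact (DerivedCategory.HomologySequence.epi_homologyMap_mor₁_iff _ hT' i).1 e₁
  · exact (DerivedCategory.HomologySequence.mono_homologyMap_mor₁_iff _ hT' i (i + 1) rfl).1 e₂

/-- Vanishing of one degree after tensoring and pushing forward. -/
theorem isZero_HD_lpull_of_push (g : Z ⟶ Y) [IsClosedImmersion g] [DCoh.HasLpull g] (q : Y ⟶ S)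
    [IsAffineHom (g ≫ q)] [DCoh.HasRpush q] (N : Y.Modules) [DCoh.HasLTensorMod N]
    (eN : N ≅ (Scheme.Modules.pushforward g).obj (Coh.structureModule Z))
    {K : DCoh.D Y} (hK : DCoh.IsQCohD K) (i : ℤ)
    (h : IsZero (DCoh.HD ((DCoh.Rpush q).obj ((DCoh.LTensorMod N).obj K)) i)) :
    IsZero (DCoh.HD ((DCoh.Lpull g).obj K) i) := by
  obtain ⟨a⟩ := nonempty_LTensorMod_closed g N eN
  refine isZero_HD_of_isZero_HD_RR (g ≫ q) (SuppTens22.isQCohD_lpull g hK) i (h.of_iso ?_)
  exact (DerivedCategory.homologyFunctor _ i).mapIso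
    ((rpushIsoRres q).app _ ≪≫ (RR q).mapIso (a.app K) ≪≫ (RRCompIso g q).app _).symm

end GrothLib.FMK22
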