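import Groth.Agent.Lib.FMK22.GVSupport
import Groth.Agent.Lib.FMK22.PushTest
import Groth.Agent.Lib.FMK22.HyperQCoh
import Groth.Agent.Lib.FMK22.PhiShift
import Groth.Agent.Lib.FMInv15.Main
import Groth.Agent.Lib.FMBC15.Main
import Groth.Agent.Lib.FMTrans15.Main
import Groth.Agent.Lib.Poincare.DualIsog
import Groth.Agent.Lib.Cube.SeesawPic
import Groth.Agent.Lib.BlowK17.RegPerf
import Groth.Agent.Lib.RightAdj22.Finite
import Groth.Agent.Lib.WeilExt.Extend
import Groth.Agent.Lib.KSix19.RelNoeth.Perf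
import Groth.Agent.Lib.Hilb20.Stable

/-! # Tensoring a GV object with an IT0 sheaf on an abelian variety -/

set_option autoImplicit false
set_option maxHeartbeats 2000000
set_option linter.style.haveILetI false
set_option backward.isDefEq.respectTransparency false
universe u

open CategoryTheory CategoryTheory.Limits AlgebraicGeometry
open MonoidalCategory CartesianMonoidalCategory
open GrothLib.Cube
open scoped MonObj
attribute [local instance] HasDerivedCategory.standard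

noncomputable section

namespace GrothLib.FMK22

open GrothLib.OX

variable {k : Type u} [Field k] [IsAlgClosed k] {A At : Over (Spec (CommRingCat.of k))}

/-- Schemes smooth over a field are regular. -/
theorem regular_over_field {X : Scheme.{u}} (f : X ⟶ Spec (CommRingCat.of k)) [Smooth f] (x : X) :
    IsRegularLocalRing (X.presheaf.stalk x) :=
  WeilExt.isRegularLocalRing_stalk_of_smooth f (fun s => WeilExt.isRegularLocalRing_stalk_spec k s) x

/-- The derived twist by a module placed in degree zero. -/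
theorem nonempty_twist_single {X : Scheme.{u}} (N : X.Modules) [DCoh.HasLTensorMod N] {E : DCoh.D X} :
    ∃ (_ : DCoh.HasLTensorCx ((HomologicalComplex.single X.Modules (ComplexShape.up ℤ) 0).obj N)),
      Nonempty ((DCoh.LTensorMod N).obj E ≅
        (DCoh.LTensorCx ((HomologicalComplex.single X.Modules (ComplexShape.up ℤ) 0).obj N)).obj E) := by
  haveI := hasLTensorCx ((HomologicalComplex.single X.Modules (ComplexShape.up ℤ) 0).obj N)
  obtain ⟨e⟩ := nonempty_LTensorMod_natIso N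
  exact ⟨inferInstance, ⟨e.app E⟩⟩

variable [GrpObj A] [IsProper A.hom] [Smooth A.hom] [GeometricallyConnected A.hom] [GrpObj At] [IsProper At.hom]
  [Smooth At.hom] [GeometricallyConnected At.hom]

/-- The transform of a perfect object is perfect. -/
theorem isPerfect_transform (P : (A ⊗ At).left.Modules) (hP : PicF.IsInvertible P)
    [DCoh.HasLpull (fst A At).left] [DCoh.HasLTensorMod P] [DCoh.HasRpush (snd A At).left]
    {M : DCoh.D A.left} (hM : DCoh.IsPerfect M) :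
    DCoh.IsPerfect ((DCoh.Lpull (fst A At).left ⋙ DCoh.LTensorMod P ⋙ DCoh.Rpush (snd A At).left).obj M) := by
  haveI : IsNoetherian At.left := RightAdj22.isNoetherian_of_proper At.hom
  let q : (A ⊗ At).left ⟶ At.left := (snd A At).left
  haveI : Flat q := by show Flat (pullback.snd A.hom At.hom); infer_instance
  haveI : IsProper q := by show IsProper (pullback.snd A.hom At.hom); infer_instance
  haveI : LocallyOfFinitePresentation q := by
    show LocallyOfFinitePresentation (pullback.snd A.hom At.hom); infer_instance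
  haveI : CompactSpace (A ⊗ At).left := QuasiCompact.compactSpace_of_compactSpace q
  haveI : IsLocallyNoetherian (A ⊗ At).left := LocallyOfFiniteType.isLocallyNoetherian q
  obtain ⟨hS, ⟨e⟩⟩ := nonempty_twist_single P (E := (DCoh.Lpull (fst A At).left).obj M)
  haveI := hS
  have h1 : DCoh.IsPerfect ((DCoh.LTensorMod P).obj ((DCoh.Lpull (fst A At).left).obj M)) :=
    isPerfect_of_iso (isPerfect_kernel (fst A At).left _
      (isPerfect_single_of_finLocFree (LocFreeHom.isFinLocFree_of_isInvertible hP)) hM) e.symm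
  obtain ⟨l, hl⟩ := KSix19.ProjPush.exists_isGE_of_isPerfect h1
  exact @KSix19.RelNoeth.isPerfect_Rpush _ _ _ q _ (ShriekPerf22.isPerfectMor_of_flat q) _ _ l hl h1

/-- The cohomology of the transform vanishes at a closed point whose twisted hypercohomology vanishes. -/
theorem notMem_support_transform (P : (A ⊗ At).left.Modules) (hP : PicF.IsInvertible P)
    [DCoh.HasLpull (fst A At).left] [DCoh.HasLTensorMod P] [DCoh.HasRpush (snd A At).left] [DCoh.HasRΓ A.left]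
    [∀ x : 𝟙_ (Over (Spec (CommRingCat.of k))) ⟶ At,
      DCoh.HasLTensorMod ((Scheme.Modules.pullback (lift (𝟙 A) (toUnit A ≫ x)).left).obj P)]
    {M : DCoh.D A.left} (hM : DCoh.IsPerfect M) (i : ℤ) (y : At.left) (hy : IsClosed ({y} : Set At.left))
    (h : ∀ x : 𝟙_ (Over (Spec (CommRingCat.of k))) ⟶ At, (∃ p, x.left p = y) →
      IsZero ((DerivedCategory.homologyFunctor AddCommGrpCat.{u} i).obj ((DCoh.RΓ A.left).obj
        ((DCoh.LTensorMod ((Scheme.Modules.pullback (lift (𝟙 A) (toUnit A ≫ x)).left).obj P)).obj M)))) :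
    y ∉ CohB1.support (DCoh.HD
      ((DCoh.Lpull (fst A At).left ⋙ DCoh.LTensorMod P ⋙ DCoh.Rpush (snd A At).left).obj M) i) := by
  haveI : IsNoetherian At.left := RightAdj22.isNoetherian_of_proper At.hom
  obtain ⟨x, hxy, hfac⟩ := Cube.exists_point_factor y hy
  let Φ := DCoh.Lpull (fst A At).left ⋙ DCoh.LTensorMod P ⋙ DCoh.Rpush (snd A At).left
  let Px := (Scheme.Modules.pullback (lift (𝟙 A) (toUnit A ≫ x)).left).obj P
  have hPx : PicF.IsInvertible Px := ((hasCls_clsMod (X := (A ⊗ At).left) hP).pullback _).1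
  haveI := hasLpull x.left
  haveI : DCoh.HasRpush A.hom := KInj.hasRightDerivedFunctor _
  obtain ⟨f⟩ := FMBC15.nonempty_fibre hP x
  let M' : (DCoh.IsQCohD (X := A.left)).FullSubcategory := ⟨M, isQCohD_of_isPerfect hM⟩
  have hq : DCoh.IsQCohD ((DCoh.LTensorMod Px).obj M) := by
    obtain ⟨_, _, _⟩ := FMTrans15.exact_tF' hPx
    obtain ⟨t⟩ := FMTrans15.nonempty_ltensor_iso Px
    exact fun l => isQCoh_of_iso ((DerivedCategory.homologyFunctor _ l).mapIso (t.app M)).symm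
      (FMBC15.isQCohD_twist hPx (isQCohD_of_isPerfect hM) l)
  have hz : IsZero (DCoh.HD ((DCoh.Lpull x.left).obj (Φ.obj M)) i) :=
    ((isZero_rGamma_iff_Rres A.hom hq i).1 (h x ⟨_, hxy⟩)).of_iso ((DerivedCategory.homologyFunctor _ i).mapIso
      ((f.app M').symm ≪≫ (rpushIsoRres A.hom).app _))
  let u := At.left.fromSpecResidueField y ≫ At.hom
  haveI : Flat u := AlgSp.flat_to_field u
  haveI := hasLpull u
  haveI := hasLpull (u ≫ x.left)
  haveI := hasLpull (At.left.fromSpecResidueField y)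
  obtain ⟨_, _, _⟩ := FMTrans15.exact_pullback u
  obtain ⟨l⟩ := DualRing.nonempty_lpull_flat u
  let Z := (DCoh.Lpull x.left).obj (Φ.obj M)
  let eZ := DerivedCategory.Q.objObjPreimageIso Z
  have hu : IsZero (DCoh.HD ((DCoh.Lpull u).obj Z) i) :=
    ((Scheme.Modules.pullback u).map_isZero (hz.of_iso
        ((hdIso _ i).symm ≪≫ (DerivedCategory.homologyFunctor _ i).mapIso eZ))).of_iso
      ((DerivedCategory.homologyFunctor _ i).mapIso
          (l.app Z ≪≫ (Scheme.Modules.pullback u).mapDerivedCategory.mapIso eZ.symm) ≪≫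
        DerCat19.homologyMapDerivedIso (Scheme.Modules.pullback u) (DerivedCategory.Q.objPreimage Z) i)
  refine notMem_support_of_fibre (Φ.obj M) (isPerfect_transform P hP hM) y i (hu.of_iso ?_)
  exact (DerivedCategory.homologyFunctor _ i).mapIso
    ((FMBC15.lpullCongr (show At.left.fromSpecResidueField y = u ≫ x.left from by
        rw [Category.assoc]; exact hfac.symm)).app _ ≪≫ ((lpullCompIso u x.left).app _).symm)

/-- **Tensoring with an IT0 sheaf.** -/
theorem isZero_rGamma_tensor_it0 {φ : ∀ T : Over (Spec (CommRingCat.of k)), PicF.Cl (PicF.XT A.hom T) → (T ⟶ At)}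
    (hφ : AbDual.IsDualAV Scheme.fppfPrecoverage A At φ)
    (P : (A ⊗ At).left.Modules) (hP : PicF.IsInvertible P) (hξ : AbDual.IsPoincareCl A At φ (PicF.cl P))
    [DCoh.HasLpull (fst A At).left] [DCoh.HasLTensorMod P] [DCoh.HasRpush (snd A At).left]
    (E : A.left.Modules) (hE : Coh.IsCoh E)
    (hE0 : ∀ (α : 𝟙_ (Over (Spec (CommRingCat.of k))) ⟶ At) (i : ℕ), 1 ≤ i → Subsingleton (Coh.HH A.left
      (CohB1.tensorMod E ((Scheme.Modules.pullback (lift (𝟙 A) (toUnit A ≫ α)).left).obj P)) i))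
    (F : DCoh.D A.left) (hF : DCoh.IsPerfect F)
    [DCoh.HasLTensorMod E] [∀ α : 𝟙_ (Over (Spec (CommRingCat.of k))) ⟶ At,
      DCoh.HasLTensorMod ((Scheme.Modules.pullback (lift (𝟙 A) (toUnit A ≫ α)).left).obj P)]
    [DCoh.HasRΓ A.left] (g : ℕ) (hg : topologicalKrullDim At.left = g)
    (hsupp : ∀ (i : ℕ) (y : At.left), y ∈ CohB1.support (DCoh.HD
        ((DCoh.Lpull (fst A At).left ⋙ DCoh.LTensorMod P ⋙ DCoh.Rpush (snd A At).left).obj F) (i : ℤ)) →
      Order.height y + (i : ℕ∞) ≤ (g : ℕ∞))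
    (α : 𝟙_ (Over (Spec (CommRingCat.of k))) ⟶ At) (i : ℕ) (hi : 1 ≤ i) :
    IsZero ((DerivedCategory.homologyFunctor AddCommGrpCat.{u} (i : ℤ)).obj ((DCoh.RΓ A.left).obj
      ((DCoh.LTensorMod ((Scheme.Modules.pullback (lift (𝟙 A) (toUnit A ≫ α)).left).obj P)).obj
        ((DCoh.LTensorMod E).obj F)))) := by
  haveI : IsNoetherian A.left := RightAdj22.isNoetherian_of_proper A.hom
  haveI : IsNoetherian At.left := RightAdj22.isNoetherian_of_proper At.hom
  haveI : JacobsonSpace At.left := LocallyOfFiniteType.jacobsonSpace At.hom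
  haveI := Dual.geometricallyIntegral_of_abScheme A
  haveI := Dual.geometricallyIntegral_of_abScheme At
  haveI : IsCommMonObj A := isCommMonObj_abVar
  haveI : IsCommMonObj At := isCommMonObj_abVar
  obtain ⟨g', hg'⟩ := AbTors.exists_dim A
  obtain rfl : g = g' := by
    have := DualIsog.dim_dual hφ hg'
    rw [hg] at this
    exact_mod_cast this
  let Φ := DCoh.Lpull (fst A At).left ⋙ DCoh.LTensorMod P ⋙ DCoh.Rpush (snd A At).left
  let Pα := (Scheme.Modules.pullback (lift (𝟙 A) (toUnit A ≫ α)).left).obj P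
  have hPα : PicF.IsInvertible Pα := ((hasCls_clsMod (X := (A ⊗ At).left) hP).pullback _).1
  have hEp : DCoh.IsPerfect (DCoh.inD A.left E) := by
    haveI : (DCoh.inD A.left E).IsGE 0 := inferInstanceAs (((DerivedCategory.singleFunctor A.left.Modules 0).obj E).IsGE 0)
    haveI : (DCoh.inD A.left E).IsLE 0 := inferInstanceAs (((DerivedCategory.singleFunctor A.left.Modules 0).obj E).IsLE 0)
    refine BlowK17.isPerfect_of_regular17 (regular_over_field A.hom) (fun l => ?_) (a := 0) (b := 0)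
    exact RightAdj22.isCohD_inD hE l
  -- the transform of `E` is in degrees `≤ 0`
  have hΦEp : DCoh.IsPerfect (Φ.obj (DCoh.inD A.left E)) := isPerfect_transform P hP hEp
  have hΦE : (Φ.obj (DCoh.inD A.left E)).IsLE 0 := by
    rw [DerivedCategory.isLE_iff]
    intro l hl
    refine Hilb20.isZero_of_support_eq_empty (Set.not_nonempty_iff_eq_empty.1 fun hne => ?_)
    obtain ⟨y, hy, hyc⟩ := nonempty_inter_closedPoints hne
      (QCoh.isClosed_support_of_isCoh (isCohD_of_perfect hΦEp l)).isLocallyClosed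
    refine notMem_support_transform P hP hEp l y hyc (fun x _ => ?_) hy
    let Px := (Scheme.Modules.pullback (lift (𝟙 A) (toUnit A ≫ x)).left).obj P
    have hPx : PicF.IsInvertible Px := ((hasCls_clsMod (X := (A ⊗ At).left) hP).pullback _).1
    obtain ⟨_, _, _⟩ := FMTrans15.exact_tF' hPx
    obtain ⟨t⟩ := FMTrans15.nonempty_ltensor_iso Px
    refine IsZero.of_iso ((isZero_rGamma_iff_hom _ l).2 fun φ => hom_single_eq_zero _ l 0 (fun p hp => ?_) φ)
      ((DerivedCategory.homologyFunctor _ l).mapIso ((DCoh.RΓ A.left).mapIso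
        (t.app _ ≪≫ ((Euler.tF Px).mapDerivedCategorySingleFunctor 0).app E)))
    exact hE0 x p (by omega)
  -- Mukai inversion
  let P' := (Scheme.Modules.pullback (Bidual.swap At A).left).obj P
  have hP'c : HasCls P' (pull (Bidual.swap At A).left (clsMod hP)) := (hasCls_clsMod hP).pullback _
  haveI := hasLpull (fst At A).left
  haveI := hasLTensorMod P'
  haveI : DCoh.HasRpush (snd At A).left := KInj.hasRightDerivedFunctor _
  haveI := hasLpull ((𝟙 A)⁻¹).left
  haveI := hasLpull ((𝟙 At)⁻¹).left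
  haveI : DCoh.HasLpull (pullback.fst A.hom At.hom) := ‹DCoh.HasLpull (fst A At).left›
  haveI : DCoh.HasRpush (pullback.snd A.hom At.hom) := ‹DCoh.HasRpush (snd A At).left›
  haveI : DCoh.HasLpull (pullback.fst At.hom A.hom) := ‹DCoh.HasLpull (fst At A).left›
  haveI : DCoh.HasRpush (pullback.snd At.hom A.hom) := ‹DCoh.HasRpush (snd At A).left›
  let Ψ := DCoh.Lpull (fst At A).left ⋙ DCoh.LTensorMod P' ⋙ DCoh.Rpush (snd At A).left
  obtain ⟨inv₁⟩ := FMInv15.nonempty_inversion (g := g) hφ hg' hP hξ hP'c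
  obtain ⟨inv₂⟩ := FMInv15.nonempty_inversion_dual (g := g) hφ hg' hP hξ hP'c
  haveI := hasLpull (FMTrans15.tr α).left
  obtain ⟨tt⟩ := FMTrans15.nonempty_twist_translate hφ hP hξ α
  let E' := (DCoh.LTensorMod Pα).obj (DCoh.inD A.left E)
  have hE'p : DCoh.IsPerfect E' := by
    obtain ⟨hS, ⟨e⟩⟩ := nonempty_twist_single Pα (E := DCoh.inD A.left E)
    haveI := hS
    have hPp := isPerfect_single_of_finLocFree (LocFreeHom.isFinLocFree_of_isInvertible hPα)
    obtain ⟨S', hS', ⟨eS⟩⟩ := exists_kflat_rep (DCoh.toD A.left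
      ((HomologicalComplex.single A.left.Modules (ComplexShape.up ℤ) 0).obj Pα))
    haveI := hasLTensorCx S'
    obtain ⟨c⟩ := nonempty_ltensorCx_congr eS.symm (DCoh.inD A.left E)
    exact isPerfect_of_iso (isPerfect_ltensor S' hS' (isPerfect_of_iso hPp eS.symm) hEp) (c.symm ≪≫ e.symm)
  let G := (DCoh.Lpull ((𝟙 At)⁻¹).left).obj (Φ.obj E')
  have hGp : DCoh.IsPerfect G := isPerfect_lpull _ (isPerfect_transform P hP hE'p)
  have hGle : ∀ l : ℤ, 0 < l → IsZero (DCoh.HD G l) := fun l hl => by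
    have h0 := DerivedCategory.isZero_of_isLE _ 0 l hl (hX := hΦE)
    have key : ∀ {X Y : Scheme.{u}} (v : X ⟶ Y) [Flat v] [DCoh.HasLpull v] (Z : DCoh.D Y),
        IsZero (DCoh.HD Z l) → IsZero (DCoh.HD ((DCoh.Lpull v).obj Z) l) := fun v _ _ Z hZ => by
      obtain ⟨_, _, _⟩ := FMTrans15.exact_pullback v
      obtain ⟨l'⟩ := DualRing.nonempty_lpull_flat v
      let eZ := DerivedCategory.Q.objObjPreimageIso Z
      exact ((Scheme.Modules.pullback v).map_isZero (hZ.of_iso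
          ((hdIso _ l).symm ≪≫ (DerivedCategory.homologyFunctor _ l).mapIso eZ))).of_iso
        ((DerivedCategory.homologyFunctor _ l).mapIso
            (l'.app Z ≪≫ (Scheme.Modules.pullback v).mapDerivedCategory.mapIso eZ.symm) ≪≫
          DerCat19.homologyMapDerivedIso (Scheme.Modules.pullback v) (DerivedCategory.Q.objPreimage Z) l)
    have hi1 : ((𝟙 At)⁻¹).left ≫ ((𝟙 At)⁻¹).left = 𝟙 At.left := by
      rw [← Over.comp_left, GrpObj.comp_inv, Category.comp_id, inv_inv, Over.id_left]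
    haveI : IsIso ((𝟙 At)⁻¹).left := ⟨_, hi1, hi1⟩
    haveI : IsIso (FMTrans15.tr α).left := ⟨(FMTrans15.tr α⁻¹).left,
      FMTrans15.left_inv (FMTrans15.tr_comp α), FMTrans15.left_inv (FMTrans15.tr_comp' α)⟩
    exact key _ _ ((key (FMTrans15.tr α).left _ h0).of_iso
      ((DerivedCategory.homologyFunctor _ l).mapIso (tt.app _)))
  obtain ⟨G₀, hG₀, ⟨eG⟩⟩ := exists_kflat_rep G
  obtain ⟨Fc, hFc, ⟨eF⟩⟩ := exists_kflat_rep F
  haveI := hasLTensorCx G₀
  haveI := hasLTensorCx Fc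
  haveI : DCoh.HasRΓ At.left := KInj.hasRightDerivedFunctor _
  -- `Ψ G = E'[-g]`
  let M₁ : (DCoh.IsQCohD (X := A.left)).FullSubcategory := ⟨E', isQCohD_of_isPerfect hE'p⟩
  let M₂ : (DCoh.IsQCohD (X := At.left)).FullSubcategory := ⟨Φ.obj E', isQCohD_of_isPerfect (isPerfect_transform P hP hE'p)⟩
  let iA := DCoh.Lpull ((𝟙 A)⁻¹).left
  have hιι : Nonempty (iA.obj (iA.obj E') ≅ E') := by
    have hi1 : ((𝟙 A)⁻¹).left ≫ ((𝟙 A)⁻¹).left = 𝟙 A.left := by
      rw [← Over.comp_left, GrpObj.comp_inv, Category.comp_id, inv_inv, Over.id_left]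
    haveI := hasLpull (((𝟙 A)⁻¹).left ≫ ((𝟙 A)⁻¹).left)
    haveI := hasLpull (𝟙 A.left)
    obtain ⟨j⟩ := FMBC15.nonempty_lpull_id A.left
    exact ⟨(lpullCompIso _ _).app E' ≪≫ (FMBC15.lpullCongr hi1).app E' ≪≫ j.app E'⟩
  have hshiftΦ : ∀ (M : DCoh.D A.left) (n : ℤ), Nonempty (Φ.obj (M⟦n⟧) ≅ (Φ.obj M)⟦n⟧) := fun M n => by
    let S₁ := (HomologicalComplex.single (pullback A.hom At.hom).Modules (ComplexShape.up ℤ) 0).obj P
    haveI := hasLTensorCx S₁
    haveI : DCoh.HasLTensorCx ((HomologicalComplex.single (A ⊗ At).left.Modules (ComplexShape.up ℤ) 0).obj P) :=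
      ‹DCoh.HasLTensorCx S₁›
    obtain ⟨e⟩ := nonempty_LTensorMod_natIso P
    obtain ⟨s⟩ := nonempty_phi_shift A.hom At.hom
      S₁ M n
    let r : Φ ≅ FMK.phi A.hom At.hom S₁ :=
      Functor.isoWhiskerLeft _ (Functor.isoWhiskerRight e _)
    exact ⟨r.app _ ≪≫ s ≪≫ (shiftFunctor _ n).mapIso (r.symm.app M)⟩
  have hshiftΨ : ∀ (M : DCoh.D At.left) (n : ℤ), Nonempty (Ψ.obj (M⟦n⟧) ≅ (Ψ.obj M)⟦n⟧) := fun M n => by
    let S₁ := (HomologicalComplex.single (pullback At.hom A.hom).Modules (ComplexShape.up ℤ) 0).obj P'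
    haveI := hasLTensorCx S₁
    haveI : DCoh.HasLTensorCx ((HomologicalComplex.single (At ⊗ A).left.Modules (ComplexShape.up ℤ) 0).obj P') :=
      ‹DCoh.HasLTensorCx S₁›
    obtain ⟨e⟩ := nonempty_LTensorMod_natIso P'
    obtain ⟨s⟩ := nonempty_phi_shift At.hom A.hom
      S₁ M n
    let r : Ψ ≅ FMK.phi At.hom A.hom S₁ :=
      Functor.isoWhiskerLeft _ (Functor.isoWhiskerRight e _)
    exact ⟨r.app _ ≪≫ s ≪≫ (shiftFunctor _ n).mapIso (r.symm.app M)⟩
  obtain ⟨ii⟩ := hιι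
  let M₁' : (DCoh.IsQCohD (X := A.left)).FullSubcategory :=
    ⟨iA.obj E', SuppTens22.isQCohD_lpull _ (isQCohD_of_isPerfect hE'p)⟩
  -- `Ψ (ι (Φ E')) [-g] = Ψ Φ Ψ Φ E' = E' [-2g]`
  obtain ⟨s₁⟩ := hshiftΨ G (-(g : ℤ))
  obtain ⟨s₂⟩ := hshiftΦ (iA.obj E') (-(g : ℤ))
  obtain ⟨s₃⟩ := hshiftΨ (Φ.obj (iA.obj E')) (-(g : ℤ))
  let ΨG : Ψ.obj G ≅ E'⟦-(g : ℤ)⟧ := (shiftFunctor (DCoh.D A.left) (-(g : ℤ))).preimageIso
    (s₁.symm ≪≫ Ψ.mapIso ((inv₂.app M₂).symm ≪≫ Φ.mapIso (inv₁.app M₁) ≪≫ s₂) ≪≫ s₃ ≪≫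
      (shiftFunctor (DCoh.D A.left) (-(g : ℤ))).mapIso
        (inv₁.app M₁' ≪≫ (shiftFunctor (DCoh.D A.left) (-(g : ℤ))).mapIso ii))
  -- Parseval
  haveI := hasLpull (pullback.snd A.hom At.hom)
  haveI : DCoh.HasRpush (pullback.fst A.hom At.hom) := KInj.hasRightDerivedFunctor _
  let S := (HomologicalComplex.single (pullback A.hom At.hom).Modules (ComplexShape.up ℤ) 0).obj P
  haveI := hasLTensorCx S
  haveI : DCoh.HasLTensorCx ((HomologicalComplex.single (A ⊗ At).left.Modules (ComplexShape.up ℤ) 0).obj P) :=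
    ‹DCoh.HasLTensorCx S›
  obtain ⟨par⟩ := nonempty_rGamma_psi_qcoh A.hom At.hom S
    (isPerfect_single_of_finLocFree (LocFreeHom.isFinLocFree_of_isInvertible hP))
    Fc (isPerfect_of_iso hF eF.symm) G₀ hG₀ (isQCohD_of_isPerfect (isPerfect_of_iso hGp eG.symm))
  obtain ⟨eP⟩ := nonempty_LTensorMod_natIso P
  let K := Φ.obj F
  let eK : (FMK.phi A.hom At.hom S).obj (DCoh.toD A.left Fc) ≅ K :=
    (FMK.phi A.hom At.hom S).mapIso eF ≪≫ (Functor.isoWhiskerLeft _ (Functor.isoWhiskerRight eP.symm _)).app F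
  have hKp : DCoh.IsPerfect K := isPerfect_transform P hP hF
  have hMp : DCoh.IsPerfect ((DCoh.LTensorCx G₀).obj K) := isPerfect_ltensor G₀ hG₀ (isPerfect_of_iso hGp eG.symm) hKp
  obtain ⟨a, ha⟩ := KSix19.ProjPush.exists_isGE_of_isPerfect hMp
  obtain ⟨b, hb⟩ := exists_isLE_of_isPerfect hMp
  obtain ⟨n, hn⟩ := exists_isLE_of_isPerfect hKp
  have hvan := isZero_rGamma_of_height g hg.le ((DCoh.LTensorCx G₀).obj K) a b (fun l x hx => by
    obtain ⟨j, hj, hxj⟩ := exists_mem_support_of_ltensor G₀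
      (fun l' hl' => (hGle l' hl').of_iso ((hdIso G₀ l').symm ≪≫ (DerivedCategory.homologyFunctor _ l').mapIso eG))
      K (isCohD_of_perfect hKp) n (l : ℤ) hx
    obtain ⟨j', rfl⟩ := Int.eq_ofNat_of_zero_le (le_trans (Int.natCast_nonneg l) hj)
    exact le_trans (add_le_add le_rfl (by exact_mod_cast hj)) (hsupp j' x hxj)) ((g : ℤ) + i) (by omega)
  -- the swap
  let σ := (Bidual.swap At A).left
  haveI := hasLpull σ
  haveI := hasLpull (Bidual.swap A At).left
  haveI := hasLpull (σ ≫ (Bidual.swap A At).left)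
  haveI := hasLpull ((Bidual.swap A At).left ≫ σ)
  haveI := hasLpull (𝟙 (A ⊗ At).left)
  haveI := hasLpull (𝟙 (At ⊗ A).left)
  haveI : DCoh.HasLpull (snd A At).left := hasLpull _
  haveI := hasLpull (σ ≫ (snd A At).left)
  haveI : DCoh.HasRpush σ := KInj.hasRightDerivedFunctor _
  haveI : DCoh.HasRpush (σ ≫ (fst A At).left) := KInj.hasRightDerivedFunctor _
  haveI : DCoh.HasRpush (fst A At).left := KInj.hasRightDerivedFunctor _
  have h₁ : σ ≫ (Bidual.swap A At).left = 𝟙 _ := FMTrans15.left_inv (by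
    refine CartesianMonoidalCategory.hom_ext _ _ ?_ ?_ <;> simp [Bidual.swap])
  have h₂ : (Bidual.swap A At).left ≫ σ = 𝟙 _ := FMTrans15.left_inv (by
    refine CartesianMonoidalCategory.hom_ext _ _ ?_ ?_ <;> simp [Bidual.swap])
  obtain ⟨i₁⟩ := FMBC15.nonempty_lpull_id (At ⊗ A).left
  obtain ⟨i₂⟩ := FMBC15.nonempty_lpull_id (A ⊗ At).left
  haveI : (DCoh.Lpull σ).IsEquivalence := FMInv15.isEquivalence_of_comp _ (DCoh.Lpull (Bidual.swap A At).left)
    (Functor.isEquivalence_of_iso (lpullCompIso (Bidual.swap A At).left σ ≪≫ FMBC15.lpullCongr h₂ ≪≫ i₂).symm)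
    (Functor.isEquivalence_of_iso (lpullCompIso σ (Bidual.swap A At).left ≪≫ FMBC15.lpullCongr h₁ ≪≫ i₁).symm)
  obtain ⟨adσ⟩ := nonempty_lpullAdj σ
  have hs₁ : σ ≫ (snd A At).left = (fst At A).left := by
    show (Bidual.swap At A ≫ snd A At).left = _
    exact congrArg (fun f : (At ⊗ A) ⟶ At => f.left) (lift_snd _ _)
  have hs₂ : σ ≫ (fst A At).left = (snd At A).left := by
    show (Bidual.swap At A ≫ fst A At).left = _
    exact congrArg (fun f : (At ⊗ A) ⟶ A => f.left) (lift_fst _ _)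
  obtain ⟨ker⟩ := FMBC15.nonempty_lpull_kernel σ (snd A At).left hP (Iso.refl P')
  obtain ⟨rc⟩ := FMBC15.nonempty_rpush_comp σ (fst A At).left
  let W₁ := (DCoh.LTensorMod P).obj ((DCoh.Lpull (snd A At).left).obj G)
  have hrp : ∀ {U V : Scheme.{u}} (f g : U ⟶ V) (_ : f = g) [DCoh.HasRpush f] [DCoh.HasRpush g] (Z : DCoh.D U),
      Nonempty ((DCoh.Rpush f).obj Z ≅ (DCoh.Rpush g).obj Z) := by
    rintro U V f g rfl _ _ Z; exact ⟨Iso.refl _⟩
  obtain ⟨eR⟩ := hrp _ _ hs₂ ((DCoh.LTensorMod P').obj ((DCoh.Lpull (fst At A).left).obj G))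
  let eΨ : (DCoh.Rpush (fst A At).left).obj W₁ ≅ Ψ.obj G :=
    (DCoh.Rpush (fst A At).left).mapIso (asIso (adσ.unit.app W₁)) ≪≫ rc.app ((DCoh.Lpull σ).obj W₁) ≪≫
      (DCoh.Rpush (σ ≫ (fst A At).left)).mapIso (ker.app G ≪≫
        (DCoh.LTensorMod P').mapIso ((FMBC15.lpullCongr hs₁).app G)) ≪≫ eR
  let eG' : (DCoh.Lpull (pullback.snd A.hom At.hom) ⋙ DCoh.LTensorCx S ⋙ DCoh.Rpush (pullback.fst A.hom At.hom)).obj
      (DCoh.toD At.left G₀) ≅ E'⟦-(g : ℤ)⟧ :=
    (DCoh.Lpull (pullback.snd A.hom At.hom) ⋙ DCoh.LTensorCx S ⋙ DCoh.Rpush (pullback.fst A.hom At.hom)).mapIso eG ≪≫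
      (Functor.isoWhiskerLeft _ (Functor.isoWhiskerRight eP.symm _)).app G ≪≫ eΨ ≪≫ ΨG
  obtain ⟨sF⟩ := nonempty_ltensorCx_obj_shift Fc E' (-(g : ℤ))
  let X' := (DCoh.LTensorCx Fc).obj E'
  have hshift : IsZero ((DerivedCategory.homologyFunctor AddCommGrpCat.{u} ((g : ℤ) + i)).obj
      ((DCoh.RΓ A.left).obj (X'⟦-(g : ℤ)⟧))) :=
    hvan.of_iso ((DerivedCategory.homologyFunctor _ _).mapIso
      ((DCoh.RΓ A.left).mapIso (sF.symm ≪≫ (DCoh.LTensorCx Fc).mapIso eG'.symm) ≪≫ par ≪≫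
        (DCoh.RΓ At.left).mapIso ((DCoh.LTensorCx G₀).mapIso eK)))
  have hX' : IsZero ((DerivedCategory.homologyFunctor AddCommGrpCat.{u} (i : ℤ)).obj ((DCoh.RΓ A.left).obj X')) := by
    refine (isZero_rGamma_iff_hom X' i).2 fun ψ => ?_
    apply (shiftFunctor (DCoh.D A.left) (-(g : ℤ))).map_injective
    rw [Functor.map_zero, ← cancel_epi ((((DerivedCategory.singleFunctors A.left.Modules).shiftIso
      (-(g : ℤ)) ((g : ℤ) + i) i (by omega))).app (Coh.structureModule A.left)).inv, comp_zero]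
    exact (isZero_rGamma_iff_hom _ _).1 hshift _
  -- rearranging the tensor products
  suffices hre : Nonempty ((DCoh.LTensorMod Pα).obj ((DCoh.LTensorMod E).obj F) ≅ X') from by
    obtain ⟨e⟩ := hre
    exact hX'.of_iso ((DerivedCategory.homologyFunctor _ _).mapIso ((DCoh.RΓ A.left).mapIso e))
  let SE := (HomologicalComplex.single A.left.Modules (ComplexShape.up ℤ) 0).obj E
  haveI := hasLTensorCx SE
  obtain ⟨nE⟩ := nonempty_LTensorMod_natIso E
  obtain ⟨v₁⟩ := ltensorCx_value SE Fc hFc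
  obtain ⟨v₂⟩ := ltensorCx_value_of_isKFlat Fc hFc SE
  let e₁ : (DCoh.LTensorMod E).obj F ≅ (DCoh.LTensorCx Fc).obj (DCoh.inD A.left E) :=
    nE.app F ≪≫ (DCoh.LTensorCx SE).mapIso eF.symm ≪≫ v₁ ≪≫ DerivedCategory.Q.mapIso (tensorCxSymm _ _) ≪≫ v₂.symm ≪≫
      (DCoh.LTensorCx Fc).mapIso ((DerivedCategory.singleFunctorIsoCompQ A.left.Modules 0).app E).symm
  let SP := (HomologicalComplex.single A.left.Modules (ComplexShape.up ℤ) 0).obj Pα
  haveI := hasLTensorCx SP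
  obtain ⟨nP⟩ := nonempty_LTensorMod_natIso Pα
  obtain ⟨S', hS', ⟨eS⟩⟩ := exists_kflat_rep (DCoh.toD A.left SP)
  haveI := hasLTensorCx S'
  obtain ⟨cS⟩ := OX.nonempty_ltensorCx_congr_of_iso (E := SP) (E' := S') eS.symm
  let eN := nP ≪≫ cS
  obtain ⟨Wk, hWk, ⟨eW⟩⟩ := exists_kflat_rep (DCoh.inD A.left E)
  obtain ⟨w₁⟩ := ltensorCx_value Fc Wk hWk
  obtain ⟨w₂⟩ := ltensorCx_value S' _ (isKFlat_tensor hWk hFc)
  obtain ⟨w₃⟩ := ltensorCx_value S' Wk hWk
  obtain ⟨w₄⟩ := ltensorCx_value Fc _ (isKFlat_tensor hWk hS')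
  let T := DCoh.tensorCx (X := A.left)
  let c : (T.obj ((T.obj Wk).obj Fc)).obj S' ≅ (T.obj ((T.obj Wk).obj S')).obj Fc :=
    tensorCxAssoc Wk Fc S' ≪≫ (T.obj Wk).mapIso (tensorCxSymm S' Fc) ≪≫ (tensorCxAssoc Wk S' Fc).symm
  exact ⟨(DCoh.LTensorMod Pα).mapIso e₁ ≪≫ eN.app _ ≪≫
    (DCoh.LTensorCx S').mapIso ((DCoh.LTensorCx Fc).mapIso eW.symm ≪≫ w₁) ≪≫ w₂ ≪≫
    DerivedCategory.Q.mapIso c ≪≫ w₄.symm ≪≫
    (DCoh.LTensorCx Fc).mapIso (w₃.symm ≪≫ (DCoh.LTensorCx S').mapIso eW ≪≫ (eN.app _).symm)⟩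

end GrothLib.FMK22
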