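import Groth.Agent.Lib.FMK22.GVDual
import Groth.Agent.Lib.FMK22.Amplitude
import Groth.Agent.Lib.FMK22.SerreDual
import Groth.Agent.S3622

/-! # Duals of GV objects on Gorenstein schemes, and descent of vanishing on derived fibres -/

set_option autoImplicit false
set_option maxHeartbeats 1000000
set_option linter.style.haveILetI false
set_option backward.isDefEq.respectTransparency false
universe u

open CategoryTheory CategoryTheory.Limits AlgebraicGeometry HomologicalComplex
open DerivedCategory (Q)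
attribute [local instance] HasDerivedCategory.standard

noncomputable section

namespace GrothLib.FMK22

open GrothLib.OX GrothLib.DualRing

variable {Y : Scheme.{u}}

/-- The structure sheaf of a Gorenstein scheme proper over a field is dualizing. -/
theorem isDualizingSch_structure {k : Type u} [Field k] (b : Y ⟶ Spec (CommRingCat.of k)) [IsProper b]
    (hgor : ∀ y : ↥Y, LocCoh.IsGorensteinLocalRing ↑(Y.presheaf.stalk y)) :
    Dual2.IsDualizingSch Y (DCoh.inD Y (Coh.structureModule Y)) := by
  haveI : IsNoetherian Y := RightAdj22.isNoetherian_of_proper b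
  haveI : IsNoetherian (Spec (CommRingCat.of k)) := inferInstance
  haveI : ∀ R : CommRingCat.{u}, PreservesFiniteLimits (tilde.functor R) := preservesFiniteLimits_tildeGen
  let S := Spec (CommRingCat.of k)
  let O : DCoh.DQCoh S := ⟨DCoh.inD S (Coh.structureModule S), isQCohD_of_isPerfect (isPerfect_unit S)⟩
  have hO : Dual2.IsDualizingSch S O.obj := by
    refine isDualizingSch_of_dualCharts fun x => ?_
    obtain ⟨e⟩ := ShriekBridge22.nonempty_resD_unit (𝟙 S) (⟨Iso.refl _⟩ : Nonempty (O.obj ≅ _))
    exact ⟨k, inferInstance, 𝟙 _, inferInstance, ⟨x, rfl⟩, _, ShriekBridge22.isDualizing_field k, ⟨e⟩⟩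
  obtain ⟨c, hc⟩ := ShriekBridge22.exists_isGE_of_isDualizingSch O.property hO
  haveI : LocallyOfFiniteType (𝟙 Y ≫ b) := by rw [Category.id_comp]; infer_instance
  exact (Groth.Agent.S3622.result Y ⟨inferInstance, hgor⟩).1
    ⟨_, ShriekBridge22.isDualizingSch_shB (𝟙 Y) b (⟨O, c, hc⟩ : RightAdj22.BQ S) hO⟩

/-- On a Gorenstein scheme the dual of a GV object has no cohomology below `-k'`. -/
theorem isZero_HD_dual_lt_gorenstein [IsNoetherian Y]
    (hD : Dual2.IsDualizingSch Y (DCoh.inD Y (Coh.structureModule Y)))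
    (K : CochainComplex Y.Modules ℤ) (hKp : DCoh.IsPerfect (DCoh.toD Y K))
    (hKc : DCoh.IsCohD (DCoh.toD Y K))
    [DCoh.HasLTensorCx K] [DCoh.HasRSheafHom K] (k' : ℕ)
    (hGV : ∀ (i : ℕ) (y : ↥Y), y ∈ CohB1.support (DCoh.HD (DCoh.toD Y K) (i : ℤ)) →
      ((i - k' : ℕ) : WithBot ℕ∞) ≤ ringKrullDim ↑(Y.presheaf.stalk y))
    (i : ℤ) (hi : i < -(k' : ℤ)) :
    IsZero (DCoh.HD ((DCoh.RSheafHom K).obj (DCoh.inD Y (Coh.structureModule Y))) i) := by
  haveI : ∀ R : CommRingCat.{u}, PreservesFiniteLimits (tilde.functor R) := preservesFiniteLimits_tildeGen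
  obtain ⟨lo, hlo⟩ := KSix19.ProjPush.exists_isGE_of_isPerfect hKp
  obtain ⟨hi', hhi⟩ := exists_isLE_of_isPerfect hKp
  refine isZero_of_subsingleton_stalks _ fun y => ?_
  by_contra hy
  obtain ⟨A, _, _, j, _, ⟨p, rfl⟩, ωA, r, Lc, hωA, hfin, -, ⟨aK⟩, ⟨eL⟩, ⟨eD⟩⟩ := exists_dual_chart hD K hKc y
  have hsupp := (mem_support_chart j eD i p).1 hy
  have hne : len p.asIdeal (EH ωA (DRing.toD Lc) i) ≠ 0 := by
    rw [← len_congr (p := p.asIdeal) (r.nonempty_HD_dual Lc i).some, ← nontrivial_localized_iff p.asIdeal]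
    exact Module.mem_support_iff.1 hsupp
  obtain ⟨δ, hδ⟩ : ∃ δ : ℕ, ringKrullDim (Localization.AtPrime p.asIdeal) = δ := by
    haveI : IsNoetherianRing (Localization.AtPrime p.asIdeal) := inferInstance
    obtain ⟨x, hx⟩ := WithBot.ne_bot_iff_exists.1 (ringKrullDim_ne_bot (R := Localization.AtPrime p.asIdeal))
    obtain ⟨δ, rfl⟩ := ENat.ne_top_iff_exists.1 (show x ≠ ⊤ from fun h => by
      have h3 : ringKrullDim (Localization.AtPrime p.asIdeal) < ⊤ := _root_.ringKrullDim_lt_top
      rw [← hx, h] at h3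
      exact lt_irrefl _ h3)
    exact ⟨δ, hx.symm⟩
  refine hne (len_EH_eq_zero_of_codim hωA p δ hδ 0 (fun l hl => ?_) (DRing.toD Lc) hfin lo hi'
    (fun l hl => ?_) k' (fun l q hq => ?_) i (by omega))
  · by_contra hne
    have hs := (mem_support_chart j aK l p).2 hl
    refine hs (AddCommGrpCat.subsingleton_of_isZero
      ((Scheme.Modules.toPresheaf _ ⋙ TopCat.Presheaf.stalkFunctor AddCommGrpCat.{u} (X := Y.toTopCat) (j p)).map_isZero ?_))
    haveI : (DCoh.inD Y (Coh.structureModule Y)).IsGE 0 :=
      inferInstanceAs (((DerivedCategory.singleFunctor Y.Modules 0).obj _).IsGE 0)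
    haveI : (DCoh.inD Y (Coh.structureModule Y)).IsLE 0 :=
      inferInstanceAs (((DerivedCategory.singleFunctor Y.Modules 0).obj _).IsLE 0)
    rcases lt_or_gt_of_ne hne with h | h
    · exact DerivedCategory.isZero_of_isGE _ 0 l h
    · exact DerivedCategory.isZero_of_isLE _ 0 l h
  · have hz : IsZero (DCoh.HD (DCoh.toD Y K) l) := by
      rcases hl with hl | hl
      · exact @DerivedCategory.isZero_of_isGE _ _ _ _ _ lo l hl hlo
      · exact @DerivedCategory.isZero_of_isLE _ _ _ _ _ hi' l hl hhi
    by_contra hns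
    haveI := not_subsingleton_iff_nontrivial.1 hns
    obtain ⟨q, hq⟩ := Module.nonempty_support_of_nontrivial (R := A) (M := Dual.HD A (DRing.toD Lc) l)
    exact (mem_support_chart j eL l q).2 hq (AddCommGrpCat.subsingleton_of_isZero
      ((Scheme.Modules.toPresheaf _ ⋙ TopCat.Presheaf.stalkFunctor AddCommGrpCat.{u} (X := Y.toTopCat) (j q)).map_isZero hz))
  · have h := hGV l (j q) ((mem_support_chart j eL (l : ℤ) q).2 hq)
    rw [ringKrullDim_stalk_chart j q, IsLocalization.AtPrime.ringKrullDim_eq_height q.asIdeal] at h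
    exact WithBot.coe_le_coe.1 h

/-- **Descent.** Below a vanishing range of cohomology, one vanishing degree of the derived fibre forces all
lower degrees to vanish. -/
theorem isZero_fibre_of_lt (K : DCoh.D Y) (hK : DCoh.IsPerfect K) (y : Y) [DCoh.HasLpull (Y.fromSpecResidueField y)]
    (n : ℤ) (hsupp : ∀ l, l < n → y ∉ CohB1.support (DCoh.HD K l))
    (hn : IsZero (DCoh.HD ((DCoh.Lpull (Y.fromSpecResidueField y)).obj K) n)) (l : ℤ) (hl : l < n) :
    IsZero (DCoh.HD ((DCoh.Lpull (Y.fromSpecResidueField y)).obj K) l) := by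
  have hfac : ∀ (U : Scheme.{u}) (j : U ⟶ Y) [IsOpenImmersion j] (hr : y ∈ Set.range j) [DCoh.HasLpull (ptLift j y hr)]
      (P : CochainComplex U.Modules ℤ) (a b : ℤ), FreeTerms P → DCoh.VanishesOutside P a b →
      (Q.obj P ≅ (resD j).obj K) → Nonempty ((DCoh.Lpull (Y.fromSpecResidueField y)).obj K ≅
        Q.obj ((pullCxF (ptLift j y hr)).obj P)) := by
    intro U j _ hr _ P a b hf hb i
    haveI := OX.hasLpull j
    haveI := OX.hasLpull (ptLift j y hr ≫ j)
    obtain ⟨c⟩ := SuppTens22.nonempty_lpull_openImmersion j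
    obtain ⟨v⟩ := lpull_value (ptLift j y hr) P (isKFlat_of_strictlyPerfect (strictlyPerfect_of_free hf hb))
    revert ‹DCoh.HasLpull (Y.fromSpecResidueField y)›
    rw [← ptLift_fac j y hr]
    intros
    exact ⟨((lpullCompIso (ptLift j y hr) j).app K).symm ≪≫
      (DCoh.Lpull (ptLift j y hr)).mapIso (c.app K ≪≫ i.symm) ≪≫ v⟩
  obtain ⟨U, j, _, hr, P, b, hf, hb, ⟨i⟩⟩ := exists_free_ge K hK y n 0 hsupp
    fun U j _ u hu P a b hf hb ⟨i⟩ hex => by
    have hr : y ∈ Set.range j := ⟨u, hu⟩
    haveI := OX.hasLpull (ptLift j y hr)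
    obtain ⟨t⟩ : Nonempty ↥(Spec (Y.residueField y)) := inferInstance
    obtain rfl : u = ptLift j y hr t := j.injective (by rw [hu]; exact (ptLift_apply j y hr t).symm)
    obtain ⟨e⟩ := hfac U j hr P a b hf hb i
    let g := ptLift j y hr
    have hT := isField_stalk_spec (Y.residueField y) (Field.toIsField _) t
    let φ := (g.stalkMap t).hom
    let F := ModuleCat.extendScalars φ
    haveI : PreservesFiniteColimits F := inferInstance
    have hq : ((pullCxF g).obj P).ExactAt n := by
      rw [exactAt_iff_isZero_homology]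
      exact hn.of_iso (((DerivedCategory.homologyFunctorFactors _ n).app _).symm ≪≫
        (DerivedCategory.homologyFunctor _ n).mapIso e.symm)
    rw [((pullCxF g).obj P).exactAt_iff' (n - 1) n (n + 1) (by simp) (by simp)] at hq
    have h1 : ((P.sc' (n - 1) n (n + 1)).map (fib g t)).Exact := hq.map (stalk t)
    let S := (stCx (g t) P).sc' (n - 1) n (n + 1)
    have h2 : (S.map F).Exact :=
      (ShortComplex.exact_iff_of_iso ((P.sc' (n - 1) n (n + 1)).mapNatIso (pullStalkIso g t))).1 h1
    let d := cokernel.desc S.f S.g S.zero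
    have hm : Mono (F.map d) := by
      have h3 := (ShortComplex.exact_iff_mono_cokernel_desc _).1 h2
      rw [show F.map d = (PreservesCokernel.iso F S.f).hom ≫
          cokernel.desc (S.map F).f (S.map F).g (S.map F).zero from ?_]
      · haveI := h3
        exact mono_comp _ _
      · rw [← cancel_epi (F.map (cokernel.π S.f))]
        have hp : F.map (cokernel.π S.f) ≫ (PreservesCokernel.iso F S.f).hom = cokernel.π (F.map S.f) := by
          simp
        refine Eq.trans ?_ ((Category.assoc _ _ _).symm.trans ((congrArg (· ≫ _) hp).trans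
          (cokernel.π_desc _ _ _))).symm
        rw [← Functor.map_comp, cokernel.π_desc]
        rfl
    haveI := (projective_stCx (g t) hf (n + 1)).2
    haveI : Module.Finite (U.presheaf.stalk (g t)) S.X₂ := (projective_stCx (g t) hf n).2
    obtain ⟨m, ⟨eB⟩⟩ := hf (n + 1)
    obtain ⟨hfree, hfin⟩ := finite_stalk eB (g t)
    haveI : Module.Finite (U.presheaf.stalk (g t)) S.X₃ := hfin
    haveI : Module.Free (U.presheaf.stalk (g t)) S.X₃ := hfree
    haveI : Module.Finite (U.presheaf.stalk (g t)) (cokernel S.f : ModuleCat _) :=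
      Module.Finite.of_surjective (cokernel.π S.f).hom ((ModuleCat.epi_iff_surjective _).1 inferInstance)
    haveI := isLocalHom_stalkMap g t
    obtain ⟨l, hl⟩ := ModFibre.split_of_extendScalars_injective φ hT d ((ModuleCat.mono_iff_injective _).1 hm)
    haveI : Projective (cokernel S.f : ModuleCat _) :=
      (IsProjective.iff_projective _).1 (Module.Projective.of_split d.hom l hl)
    let c : cokernel S.f ≅ (stCx (g t) P).opcycles n :=
      IsColimit.coconePointUniqueUpToIso (cokernelIsCokernel S.f)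
        ((stCx (g t) P).opcyclesIsCokernel (n - 1) n (by simp))
    haveI : Projective ((stCx (g t) P).opcycles n) := Projective.of_iso c inferInstance
    exact projective_iff_hasProjectiveDimensionLT_one.1 inferInstance
  haveI := OX.hasLpull (ptLift j y hr)
  obtain ⟨e⟩ := hfac U j hr P _ b hf hb i
  exact (ExactAt.isZero_homology (ExactAt.of_isZero ((Scheme.Modules.pullback (ptLift j y hr)).map_isZero
    (hb l (by omega))))).of_iso ((DerivedCategory.homologyFunctor _ l).mapIso e ≪≫
      (DerivedCategory.homologyFunctorFactors _ l).app _)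

end GrothLib.FMK22
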