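import Groth.Agent.Lib.FMK22.GVTensor
import Groth.Agent.Lib.HodgeIndex.IdealMul
import Groth.Agent.Lib.HodgeIndex.IdealLe
import Groth.Agent.Lib.CBExt28.Transfer
import Groth.Agent.Lib.OX.LocalTensor
import Groth.Agent.Lib.OX.TorOne
import Groth.Agent.Lib.QCoh.SupportExact

/-! # Derived and ordinary tensor products of two ideals -/

set_option autoImplicit false
set_option maxHeartbeats 1000000
set_option linter.style.haveILetI false
set_option backward.isDefEq.respectTransparency false
universe u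

open CategoryTheory CategoryTheory.Limits AlgebraicGeometry HomologicalComplex Pretriangulated
attribute [local instance] HasDerivedCategory.standard

noncomputable section

namespace GrothLib.FMK22

open GrothLib.OX
open GrothLib.QCoh (stalkLin)
open GrothLib.OmegaBC (sval)

variable {X : Scheme.{u}}

/-- In an exact sequence, where the first term has no stalk the second map is injective. -/
theorem injective_stalk_of_exact {S : ShortComplex X.Modules} (hS : S.Exact) {x : X}
    (h : x ∉ CohB1.support S.X₁) : Function.Injective (stalkLin S.g x) := by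
  haveI := QCoh.stalk_subsingleton_of_notMem h
  have he := ((OX.exact_iff S).1 hS x)
  rw [ShortComplex.moduleCat_exact_iff] at he
  refine (injective_iff_map_eq_zero (stalkLin S.g x)).2 fun e he' => ?_
  obtain ⟨a, ha⟩ := he e he'
  rw [← ha, Subsingleton.elim (α := S.X₁.presheaf.stalk x) a 0]
  exact map_zero _

/-- A vanishing class of the shifted structure sheaf gives vanishing cohomology. -/
theorem subsingleton_HH_of_hom (M : X.Modules) (p : ℕ)
    (h : ∀ φ : (DerivedCategory.singleFunctor X.Modules (p : ℤ)).obj (Coh.structureModule X) ⟶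
      (DerivedCategory.singleFunctor X.Modules 0).obj M, φ = 0) : Subsingleton (Coh.HH X M p) := by
  obtain ⟨e⟩ := nonempty_ext_genTop_equiv M p
  let g := (DerivedCategory.singleFunctor X.Modules (p : ℤ)).mapIso (genTopIso X)
  let s₁ : ((DerivedCategory.singleFunctor X.Modules (p : ℤ)).obj ((genF X).obj ⊤))⟦(p : ℤ)⟧ ≅
      (DerivedCategory.singleFunctor X.Modules 0).obj ((genF X).obj ⊤) :=
    ((SingleFunctors.shiftIso (DerivedCategory.singleFunctors X.Modules) (p : ℤ) 0 (p : ℤ) (by omega))).app _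
  have h0 : ∀ ψ : (DerivedCategory.singleFunctor X.Modules 0).obj ((genF X).obj ⊤) ⟶
      ((DerivedCategory.singleFunctor X.Modules 0).obj M)⟦(p : ℤ)⟧, ψ = 0 := fun ψ => by
    obtain ⟨φ, hφ⟩ := (shiftFunctor (DCoh.D X) (p : ℤ)).map_surjective (s₁.hom ≫ ψ)
    have : φ = 0 := by
      rw [← cancel_epi g.inv, comp_zero]
      exact h _
    rw [this, Functor.map_zero] at hφ
    rw [← cancel_epi s₁.hom, comp_zero]
    exact hφ.symm
  have : Subsingleton (Abelian.Ext.{u} ((genF X).obj ⊤) M p) := ⟨fun a b =>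
    (Abelian.Ext.homEquiv (C := X.Modules) (X := (genF X).obj ⊤) (Y := M) (n := p)).injective
      ((h0 _).trans (h0 _).symm)⟩
  exact e.symm.subsingleton

/-- Cohomology of a quotient of `H^0` of an object in degrees `≤ 0`, up to sheaves supported on curves. -/
theorem subsingleton_HH_of_hyper [IsNoetherian X] [DCoh.HasRΓ X] (g : ℕ)
    (hg : topologicalKrullDim ↥X ≤ (g : WithBot ℕ∞)) (C : Set X) (hC : ∀ x ∈ C, Order.height x ≤ 1)
    (K : DCoh.D X) (a : ℤ) [K.IsGE a] [K.IsLE 0] (hneg : ∀ q : ℤ, q < 0 → CohB1.support (DCoh.HD K q) ⊆ C)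
    {W : X.Modules} (π : DCoh.HD K 0 ⟶ W) [Epi π] (hker : CohB1.support (kernel π) ⊆ C) (i : ℕ) (hi : 1 ≤ i)
    (h : IsZero ((DerivedCategory.homologyFunctor AddCommGrpCat.{u} (i : ℤ)).obj ((DCoh.RΓ X).obj K))) :
    Subsingleton (Coh.HH X W i) := by
  have hsm : ∀ (M : X.Modules), CohB1.support M ⊆ C → ∀ p : ℕ, 2 ≤ p → Subsingleton (Coh.HH X M p) :=
    fun M hM p hp => subsingleton_HH_of_height g hg M 2
      (fun x hx => (hC x (hM hx)).trans_lt (by norm_num)) p hp
  refine subsingleton_HH_of_hom W i fun φ => ?_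
  -- lift along `π`
  have hS : (ShortComplex.mk (kernel.ι π) π (kernel.condition π)).ShortExact :=
    { exact := ShortComplex.exact_of_f_is_kernel _ (kernelIsKernel π) }
  have h1 : φ ≫ hS.singleTriangle.mor₃ = 0 := by
    let s := ((DerivedCategory.singleFunctors X.Modules).shiftIso (1 : ℤ) (-1) 0 (by omega)).app (kernel π)
    rw [← cancel_mono s.hom, zero_comp]
    exact hom_single_eq_zero _ _ _ (fun p hp => hsm _ hker p (by omega)) _
  obtain ⟨ψ, hψ⟩ := Triangle.coyoneda_exact₃ _ hS.singleTriangle_distinguished φ h1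
  suffices ψ = 0 by rw [hψ, this]; exact zero_comp
  -- lift to `K`
  let t := DerivedCategory.TStructure.t (C := X.Modules)
  haveI : ((t.truncGE 0).obj K).IsGE 0 := inferInstanceAs (t.IsGE ((t.truncGE 0).obj K) 0)
  haveI : ((t.truncGE 0).obj K).IsLE 0 := inferInstanceAs (t.IsLE ((t.truncGE 0).obj K) 0)
  obtain ⟨e₂⟩ := DerTrunc.nonempty_iso_single ((t.truncGE 0).obj K) 0
  haveI := DerTrunc.isIso_homology_truncGEπ K 0 0 le_rfl
  let c := (DerivedCategory.singleFunctor X.Modules 0).mapIso
    (asIso ((DerivedCategory.homologyFunctor X.Modules 0).map ((t.truncGEπ 0).app K)))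
  let e := e₂ ≪≫ c.symm
  haveI : ((t.truncLT 0).obj K).IsGE a := inferInstanceAs (t.IsGE ((t.truncLT 0).obj K) a)
  haveI : ((t.truncLT 0).obj K).IsLE (-1) := t.isLE_truncLT_obj K 0 (-1) (by omega)
  have h2 : (ψ ≫ e.inv) ≫ ((t.triangleLTGE 0).obj K).mor₃ = 0 := by
    let Y := (t.truncLT 0).obj K
    haveI hY1 : (Y⟦(1 : ℤ)⟧).IsGE (a - 1) := t.isGE_shift Y a 1 (a - 1) (by omega)
    haveI hY2 : (Y⟦(1 : ℤ)⟧).IsLE (-2) := t.isLE_shift Y (-1) 1 (-2) (by omega)
    haveI : (Y⟦(1 : ℤ)⟧).IsLE (a - 1 + ((-1 - a).toNat : ℕ)) :=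
      t.isLE_of_le (Y⟦(1 : ℤ)⟧) (-2) _ (by omega)
    refine hom_eq_zero_of_cohomology _ (-1 - a).toNat (Y⟦(1 : ℤ)⟧) (a - 1) (fun j χ => ?_) _
    refine hom_single_eq_zero _ _ _ (fun p hp => ?_) χ
    by_cases hj : j ≤ -2
    · refine hsm _ ?_ p (by omega)
      let sj := ((DerivedCategory.homologyFunctor X.Modules 0).shiftIso 1 j (j + 1) (by omega)).app Y
      haveI := DerTrunc.isIso_homology_truncLTι K 0 (j + 1) (by omega)
      let dj := asIso ((DerivedCategory.homologyFunctor X.Modules (j + 1)).map ((t.truncLTι 0).app K))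
      exact (QCoh.support_eq_of_iso (sj ≪≫ dj)).subset.trans (hneg (j + 1) (by omega))
    · haveI := subsingleton_HH_of_height g hg (DCoh.HD (Y⟦(1 : ℤ)⟧) j) 0 (fun x hx => absurd hx (by
        have hz : IsZero (DCoh.HD (Y⟦(1 : ℤ)⟧) j) :=
          DerivedCategory.isZero_of_isLE (Y⟦(1 : ℤ)⟧) (-2) j (by omega)
        intro hx'
        haveI := AddCommGrpCat.subsingleton_of_isZero
          (((Scheme.Modules.toPresheaf X ⋙ TopCat.Presheaf.stalkFunctor Ab.{u} x)).map_isZero hz)
        exact hx' this)) p (Nat.zero_le p)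
      exact this
  obtain ⟨χ, hχ⟩ := Triangle.coyoneda_exact₃ _ (t.triangleLTGE_distinguished 0 K) (ψ ≫ e.inv) h2
  rw [← cancel_mono e.inv, zero_comp, hχ, (isZero_rGamma_iff_hom K _).1 h χ]
  exact zero_comp

/-- The derived tensor product of two ideals against the ordinary one. -/
theorem exists_tensor_ideal_comparison [IsNoetherian X] (I J : X.IdealSheafData)
    [DCoh.HasLTensorMod (ClSub.idealMod J)] :
    (∀ q : ℤ, 0 < q → IsZero (DCoh.HD ((DCoh.LTensorMod (ClSub.idealMod J)).obj (DCoh.inD X (ClSub.idealMod I))) q)) ∧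
    (∀ q : ℤ, q < 0 → CohB1.support
      (DCoh.HD ((DCoh.LTensorMod (ClSub.idealMod J)).obj (DCoh.inD X (ClSub.idealMod I))) q) ⊆ (J.support : Set X)) ∧
    ∃ π : DCoh.HD ((DCoh.LTensorMod (ClSub.idealMod J)).obj (DCoh.inD X (ClSub.idealMod I))) 0 ⟶
        CohB1.tensorMod (ClSub.idealMod I) (ClSub.idealMod J),
      Epi π ∧ ∀ x : X, x ∉ (J.support : Set X) → Function.Injective (stalkLin π x) := by
  let MI := ClSub.idealMod I
  let MJ := ClSub.idealMod J
  let SI := (single X.Modules (ComplexShape.up ℤ) 0).obj MI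
  let SJ := (single X.Modules (ComplexShape.up ℤ) 0).obj MJ
  haveI := hasLTensorCx SJ
  haveI : (DCoh.inD X MI).IsLE 0 := inferInstanceAs (((DerivedCategory.singleFunctor X.Modules 0).obj MI).IsLE 0)
  refine ⟨fun q hq => ?_, ?_⟩
  · obtain ⟨n⟩ := nonempty_LTensorMod_natIso MJ
    haveI := isLE_ltensorCx SJ (c := 0) (fun i hi => ((exactAt_iff_isZero_homology _ _).1
      (HomologicalComplex.exactAt_single_obj _ _ _ _ (by omega)))) (DCoh.inD X MI) 0
    exact (DerivedCategory.isZero_of_isLE ((DCoh.LTensorCx SJ).obj (DCoh.inD X MI)) (0 + 0) q (by omega)).of_iso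
      ((DerivedCategory.homologyFunctor _ q).mapIso (n.app _))
  obtain ⟨P, r, hP, -, hr, -⟩ := exists_kflat_resolution SI
  let eP : DerivedCategory.Q.obj P ≅ DCoh.inD X MI :=
    asIso (DerivedCategory.Q.map r) ≪≫ ((DerivedCategory.singleFunctorIsoCompQ X.Modules 0).app MI).symm
  let T := Euler.tF MJ
  let Tc := T.mapHomologicalComplex (ComplexShape.up ℤ)
  have hH : ∀ q : ℤ, Nonempty (DCoh.HD ((DCoh.LTensorMod MJ).obj (DCoh.inD X MI)) q ≅
      DCoh.HD (DerivedCategory.Q.obj (Tc.obj P)) q) := fun q => by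
    obtain ⟨w⟩ := hd_ltensor MJ P hP eP q
    exact ⟨w ≪≫ (hdIso _ q).symm⟩
  let Kc := CochainComplex.mappingCone (Tc.map r)
  -- the cone lives on the support of `J`
  let U : X.Opens := ⟨(J.support : Set X)ᶜ, J.support.isClosed.isOpen_compl⟩
  have hU : IsZero ((resD U.ι).obj (DerivedCategory.Q.obj Kc)) := by
    haveI : Mono (ClSub.idealModι J) := inferInstanceAs (Mono (kernel.ι (ClSub.toSubscheme J)))
    let R := Scheme.Modules.restrictFunctor U.ι
    haveI : Epi (R.map (ClSub.idealModι J)) := by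
      haveI : PreservesColimit (parallelPair (ClSub.idealModι J) 0) R := inferInstance
      refine Preadditive.epi_of_isZero_cokernel _ ((isZero_restrict_of_support U.ι (fun y hy => ?_)).of_iso
        (PreservesCokernel.iso R (ClSub.idealModι J)).symm)
      exact QCoh.notMem_support_cokernel_of_surjective _
        (HodgeIndex.stalk_bijective_idealModι J (x := U.ι y) (show U.ι y ∉ (J.support : Set X) from y.2)).2 hy
    haveI : IsIso (R.map (ClSub.idealModι J)) := isIso_of_mono_of_epi _
    let eJ : R.obj MJ ≅ Coh.structureModule U.toScheme :=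
      asIso (R.map (ClSub.idealModι J)) ≪≫ Scheme.Modules.restrictUnitIso U.ι
    have hkJ : DCoh.IsKFlat ((resCx U.ι).obj SJ) :=
      isKFlat_of_iso ((singleMapHomologicalComplex R (ComplexShape.up ℤ) 0).app MJ ≪≫
          (single _ (ComplexShape.up ℤ) 0).mapIso eJ).symm
        (isKFlat_single _ (flat_structureModule _) 0)
    have hc : (CochainComplex.mappingCone r).Acyclic := (HomologicalComplex.acyclic_iff _ ).2 fun n => by
      rw [exactAt_iff_isZero_homology]
      have hz : IsZero (DerivedCategory.Q.obj (CochainComplex.mappingCone r)) :=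
        (Triangle.isZero₃_iff_isIso₁ _ (DerivedCategory.mappingCone_triangle_distinguished r)).2
          (inferInstanceAs (IsIso (DerivedCategory.Q.map r)))
      exact ((DerivedCategory.homologyFunctor _ n).map_isZero hz).of_iso (hdIso _ n).symm
    let c₁ : Kc ≅ ((DCoh.tensorCx (X := X)).obj (CochainComplex.mappingCone r)).obj SJ :=
      (CochainComplex.mappingCone.mapHomologicalComplexIso r T).symm ≪≫
        (singleNatIso MJ).app (CochainComplex.mappingCone r)
    have hk : ((resCx U.ι).obj Kc).Acyclic :=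
      DerCat.acyclic_of_iso ((resCx U.ι).mapIso c₁ ≪≫ resTensorCxIso U.ι _ _).symm
        ((isKFlat_iff _).1 hkJ _ (acyclic_resCx U.ι hc))
    refine IsZero.of_iso ?_ ((resDFac U.ι).app Kc)
    exact DerTrunc.isZero_of_forall _ fun n =>
      ((exactAt_iff_isZero_homology _ _).1 (hk n)).of_iso (hdIso _ n)
  have hKs : ∀ q, CohB1.support (DCoh.HD (DerivedCategory.Q.obj Kc) q) ⊆ (J.support : Set X) := fun q x hx => by
    by_contra hxJ
    exact (isZero_resD_iff_support U.ι _).1 hU q hx ⟨⟨x, hxJ⟩, rfl⟩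
  have hD := DerivedCategory.mappingCone_triangle_distinguished (Tc.map r)
  have hS0 : ∀ q : ℤ, q ≠ 0 → IsZero (DCoh.HD (DerivedCategory.Q.obj (Tc.obj SI)) q) := fun q hq =>
    ((exactAt_iff_isZero_homology _ _).1 (HomologicalComplex.exactAt_single_obj _ _ (T.obj MI) _ hq)).of_iso
      (hdIso _ q ≪≫ (homologyFunctor X.Modules (ComplexShape.up ℤ) q).mapIso
        ((singleMapHomologicalComplex T (ComplexShape.up ℤ) 0).app MI))
  refine ⟨fun q hq => ?_, ?_⟩
  · obtain ⟨w⟩ := hH q
    rw [QCoh.support_eq_of_iso w]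
    haveI : Epi (DerivedCategory.HomologySequence.δ
      (DerivedCategory.Q.mapTriangle.obj (CochainComplex.mappingCone.triangle (Tc.map r))) (q - 1) q (by omega)) :=
      (DerivedCategory.HomologySequence.exact₁ _ hD (q - 1) q (by omega)).epi_f
        ((hS0 q hq.ne).eq_of_tgt _ _)
    exact (QCoh.support_subset_of_epi
      (DerivedCategory.HomologySequence.δ
      (DerivedCategory.Q.mapTriangle.obj (CochainComplex.mappingCone.triangle (Tc.map r))) (q - 1) q _)).trans (hKs (q - 1))
  obtain ⟨w⟩ := hH 0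
  let m := (DerivedCategory.homologyFunctor X.Modules 0).map (DerivedCategory.Q.map (Tc.map r))
  let e₀ : DCoh.HD (DerivedCategory.Q.obj (Tc.obj SI)) 0 ≅ CohB1.tensorMod MI MJ :=
    hdIso _ 0 ≪≫ (homologyFunctor X.Modules (ComplexShape.up ℤ) 0).mapIso
      ((singleMapHomologicalComplex T (ComplexShape.up ℤ) 0).app MI) ≪≫
    (homologyFunctorSingleIso X.Modules (ComplexShape.up ℤ) 0).app (T.obj MI)
  haveI : PreservesColimitsOfSize.{0, 0} ((DCoh.tensorBi (X := X)).flip.obj MJ) :=
    @preservesColimitsOfSize_shrink _ _ _ _ _ (preservesColimitsOfSize_tensorBi_flip_obj MJ)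
  haveI : T.PreservesEpimorphisms := inferInstance
  haveI : Epi m :=
    haveI := epi_homologyMap_single T r
    ((MorphismProperty.epimorphisms _).arrow_mk_iso_iff
      (Arrow.isoMk (hdIso _ 0) (hdIso _ 0)
        ((DerivedCategory.homologyFunctorFactors X.Modules 0).hom.naturality (Tc.map r)).symm)).2
      (inferInstanceAs (Epi (homologyMap (Tc.map r) 0)))
  refine ⟨w.hom ≫ m ≫ e₀.hom, inferInstance, fun x hx => ?_⟩
  have hinj : Function.Injective (stalkLin m x) :=
    injective_stalk_of_exact (DerivedCategory.HomologySequence.exact₁ _ hD (-1) 0 (by omega))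
      fun h' => hx (hKs (-1) h')
  intro u v huv
  rw [HodgeIndex.stalkLin_comp_apply, HodgeIndex.stalkLin_comp_apply, HodgeIndex.stalkLin_comp_apply,
    HodgeIndex.stalkLin_comp_apply] at huv
  exact QCoh.stalkLin_injective w.hom x (hinj (QCoh.stalkLin_injective e₀.hom x huv))

/-- The product map onto the product ideal. -/
theorem exists_mul_epi (I J : X.IdealSheafData) :
    ∃ μ : CohB1.tensorMod (ClSub.idealMod I) (ClSub.idealMod J) ⟶ ClSub.idealMod (I * J),
      Epi μ ∧ ∀ x : X, x ∉ (J.support : Set X) → Function.Injective (stalkLin μ x) := by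
  haveI hm : ∀ K : X.IdealSheafData, Mono (ClSub.idealModι K) :=
    fun K => inferInstanceAs (Mono (kernel.ι (ClSub.toSubscheme K)))
  let e := Euler.tFUnitIso (ClSub.idealMod I)
  let g := ((DCoh.tensorBi (X := X)).obj (ClSub.idealMod I)).map (ClSub.idealModι J)
  let f : CohB1.tensorMod (ClSub.idealMod I) (ClSub.idealMod J) ⟶ Coh.structureModule X :=
    g ≫ e.hom ≫ ClSub.idealModι I
  let θ : ∀ x : X, (ClSub.idealMod I).presheaf.stalk x → (ClSub.idealMod I).presheaf.stalk x := fun x v =>
    stalkLin e.hom x (Ref1.tmulStalk (ClSub.idealMod I) (Coh.structureModule X) x v (HomSh.unitStalk x 1))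
  have hθ : ∀ x : X, Function.Bijective (θ x) := fun x => by
    refine Function.Bijective.comp ?_ (TensorGen.bijective_tmulStalk _ _ (Ref1.gen_unitStalk x))
    exact (ConcreteCategory.isIso_iff_bijective ((OX.stalk x).map e.hom)).1 inferInstance
  have hf : ∀ (x : X) v w, stalkLin f x (Ref1.tmulStalk _ _ x v w) =
      HomSh.unitStalk x (sval I x (θ x v) * sval J x w) := fun x v w => by
    rw [show stalkLin f x (Ref1.tmulStalk _ _ x v w) = _ from
        HodgeIndex.stalkLin_comp_apply g (e.hom ≫ ClSub.idealModι I) x _,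
      HodgeIndex.stalkLin_comp_apply,
      show stalkLin g x (Ref1.tmulStalk _ _ x v w) = _ from Goodman.stalkLin_tensor_tmul _ _ x v w,
      Goodman.stalkLin_idealModι J x w,
      show HomSh.unitStalk x (sval J x w) = sval J x w • HomSh.unitStalk x 1 by
        rw [← map_smul, smul_eq_mul, mul_one],
      map_smul, map_smul, map_smul]
    change sval J x w • stalkLin (ClSub.idealModι I) x (θ x v) = _
    rw [Goodman.stalkLin_idealModι I x (θ x v), ← map_smul, smul_eq_mul, mul_comm]
  have hrange : ∀ x, LinearMap.range (stalkLin f x) = LinearMap.range (stalkLin (ClSub.idealModι (I * J)) x) := by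
    intro x
    rw [HodgeIndex.range_idealModι, Goodman.st_mul]
    refine le_antisymm ?_ ?_
    · rintro _ ⟨p, rfl⟩
      obtain ⟨p, rfl⟩ := (Ref1.tensorStalk (ClSub.idealMod I) (ClSub.idealMod J) x).symm.surjective p
      induction p using TensorProduct.induction_on with
      | zero => rw [map_zero, map_zero]; exact zero_mem _
      | tmul v w =>
        change stalkLin f x (Ref1.tmulStalk _ _ x v w) ∈ _
        rw [hf]
        exact ⟨_, Ideal.mul_mem_mul (LinearMap.mem_range_self _ _) (LinearMap.mem_range_self _ _), rfl⟩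
      | add a b ha hb => rw [map_add, map_add]; exact add_mem ha hb
    · rw [Submodule.map_le_iff_le_comap]
      refine Ideal.mul_le.2 fun a ha b hb => ?_
      obtain ⟨v', rfl⟩ := ha
      obtain ⟨w, rfl⟩ := hb
      obtain ⟨v, rfl⟩ := (hθ x).2 v'
      exact ⟨_, hf x v w⟩
  let S : ShortComplex X.Modules := ShortComplex.mk (ClSub.idealModι (I * J))
    (cokernel.π (ClSub.idealModι (I * J))) (cokernel.condition _)
  have hS : S.Exact := ShortComplex.exact_of_g_is_cokernel _ (cokernelIsCokernel _)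
  haveI : Mono S.f := hm _
  have hz : f ≫ cokernel.π (ClSub.idealModι (I * J)) = 0 := by
    refine Scheme.Modules.hom_ext _ _ fun U => AddCommGrpCat.ext fun s => ?_
    refine QCoh.section_eq_zero_of_germ (cokernel (ClSub.idealModι (I * J))) _ fun x hx => ?_
    have e' := QCoh.stalkLin_germ (f ≫ cokernel.π (ClSub.idealModι (I * J))) hx s
    rw [HodgeIndex.stalkLin_comp_apply] at e'
    refine e'.symm.trans ?_
    obtain ⟨w, hw⟩ : stalkLin f x ((CohB1.tensorMod (ClSub.idealMod I) (ClSub.idealMod J)).presheaf.germ U x hx s) ∈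
        LinearMap.range (stalkLin (ClSub.idealModι (I * J)) x) := by
      rw [← hrange x]; exact LinearMap.mem_range_self _ _
    rw [← hw, ← HodgeIndex.stalkLin_comp_apply, cokernel.condition, Kodaira.stalkLin_zero_apply]
  let l := hS.lift f hz
  have hl : l ≫ ClSub.idealModι (I * J) = f := hS.lift_f f hz
  have hl' : ∀ x v, stalkLin (ClSub.idealModι (I * J)) x (stalkLin l x v) = stalkLin f x v := fun x v => by
    rw [← HodgeIndex.stalkLin_comp_apply, hl]
  refine ⟨l, (OX.epi_iff l).2 fun x => (ModuleCat.epi_iff_surjective _).2 fun w => ?_, fun x hx => ?_⟩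
  · obtain ⟨v, hv⟩ : stalkLin (ClSub.idealModι (I * J)) x w ∈ LinearMap.range (stalkLin f x) := by
      rw [hrange x]; exact LinearMap.mem_range_self _ _
    exact ⟨v, QCoh.stalkLin_injective (ClSub.idealModι (I * J)) x ((hl' x v).trans hv)⟩
  · obtain ⟨tJ, htJ⟩ := (HodgeIndex.stalk_bijective_idealModι J hx).2 (HomSh.unitStalk x 1)
    have h1 : sval J x tJ = 1 :=
      (HomSh.unitStalk x).injective ((Goodman.stalkLin_idealModι J x tJ).symm.trans htJ)
    have hgen : Ref1.Gen (ClSub.idealMod J) x tJ := by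
      refine ⟨fun c d hcd => ?_, fun w => ⟨sval J x w, ?_⟩⟩
      · have := congrArg (sval J x) hcd
        simpa [h1] using this
      · refine OmegaBC.sval_injective J x ?_
        simp [h1]
    intro p q hpq
    obtain ⟨v, rfl⟩ := (TensorGen.bijective_tmulStalk _ _ hgen).2 p
    obtain ⟨v', rfl⟩ := (TensorGen.bijective_tmulStalk _ _ hgen).2 q
    dsimp only at hpq ⊢
    have := congrArg (stalkLin (ClSub.idealModι (I * J)) x) hpq
    rw [hl', hl', hf, hf, h1, mul_one, mul_one] at this
    rw [(hθ x).1 (OmegaBC.sval_injective I x ((HomSh.unitStalk x).injective this))]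

end GrothLib.FMK22
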