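import Groth.Agent.Lib.AusBuch.Basic
import Mathlib.Algebra.Homology.HomologicalComplex
import Mathlib.CategoryTheory.Abelian.Projective.Dimension

/-! # Projective dimension along a complex of projectives which is exact in low degrees -/

set_option autoImplicit false
set_option linter.style.haveILetI false
set_option linter.unusedSectionVars false
universe w v u

open CategoryTheory CategoryTheory.Limits HomologicalComplex

namespace GrothLib.FMK22

section
variable {C : Type u} [Category.{v} C] [Abelian C] (K : CochainComplex C ℤ)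

/-- The short exact sequence of opcycles at an exact degree. -/
theorem shortExact_opcycles (j k : ℤ) (hk : j + 1 = k) (h : K.ExactAt j) :
    (ShortComplex.mk (K.fromOpcycles j k) (K.pOpcycles k) (by
      rw [← cancel_epi (K.pOpcycles j), comp_zero, ← Category.assoc, p_fromOpcycles, d_pOpcycles])).ShortExact := by
  have hr : (ComplexShape.up ℤ).prev k = j := by simp; omega
  have hmono : Mono (K.fromOpcycles j k) :=
    Preadditive.mono_of_isZero_kernel' _ (K.homologyIsKernel j k (by simp; omega))
      ((K.exactAt_iff_isZero_homology j).1 h)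
  refine { exact := ?_, mono_f := hmono, epi_g := inferInstance }
  let S₁ : ShortComplex C := ShortComplex.mk (K.d j k) (K.pOpcycles k) (K.d_pOpcycles j k)
  have h1 : S₁.Exact := ShortComplex.exact_of_g_is_cokernel S₁ (K.opcyclesIsCokernel j k hr)
  let φ : S₁ ⟶ ShortComplex.mk (K.fromOpcycles j k) (K.pOpcycles k) (by
      rw [← cancel_epi (K.pOpcycles j), comp_zero, ← Category.assoc, p_fromOpcycles, d_pOpcycles]) :=
    { τ₁ := K.pOpcycles j, τ₂ := 𝟙 _, τ₃ := 𝟙 _ }
  haveI : Epi φ.τ₁ := inferInstanceAs (Epi (K.pOpcycles j))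
  haveI : IsIso φ.τ₂ := inferInstanceAs (IsIso (𝟙 (K.X k)))
  haveI : Mono φ.τ₃ := inferInstanceAs (Mono (𝟙 (K.opcycles k)))
  exact (ShortComplex.exact_iff_of_epi_of_isIso_of_mono φ).1 h1

variable [HasExt.{w} C]

/-- Resolutions bound the projective dimension. -/
theorem pd_opcycles_of_bottom (a m : ℤ) (hproj : ∀ i, Projective (K.X i)) (hzero : ∀ i, i < a → IsZero (K.X i))
    (hex : ∀ i, i < m → K.ExactAt i) : ∀ t : ℕ, a + t ≤ m → HasProjectiveDimensionLT (K.opcycles (a + t)) (t + 1)
  | 0, _ => by
    haveI : IsIso (K.pOpcycles (a + (0 : ℕ))) := K.isIso_pOpcycles (a - 1) _ (by simp)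
      ((hzero _ (by omega)).eq_of_src _ _)
    haveI := hproj (a + (0 : ℕ))
    exact hasProjectiveDimensionLT_of_iso (asIso (K.pOpcycles (a + (0 : ℕ)))) 1
  | t + 1, ht => by
    have hS := shortExact_opcycles K (a + t) (a + (t + 1 : ℕ)) (by omega) (hex _ (by omega))
    exact (hS.hasProjectiveDimensionLT_X₃_iff t (hproj _)).2
      (pd_opcycles_of_bottom a m hproj hzero hex t (by omega))

/-- A bound on the projective dimension descends. -/
theorem pd_opcycles_descent (m : ℤ) (hproj : ∀ i, Projective (K.X i)) (hex : ∀ i, i < m → K.ExactAt i)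
    (e : ℕ) (he : HasProjectiveDimensionLT (K.opcycles m) (e + 1)) :
    ∀ t : ℕ, t ≤ e → HasProjectiveDimensionLT (K.opcycles (m - t)) (e - t + 1)
  | 0, _ => by simpa using he
  | t + 1, ht => by
    have hS := shortExact_opcycles K (m - (t + 1 : ℕ)) (m - t) (by omega) (hex _ (by omega))
    refine (hS.hasProjectiveDimensionLT_X₃_iff (e - (t + 1)) (hproj _)).1 ?_
    have := pd_opcycles_descent m hproj hex e he t (by omega)
    rwa [show e - (t + 1) + 2 = e - t + 1 by omega]

/-- Below the bound the opcycles are projective. -/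
theorem projective_opcycles (m : ℤ) (hproj : ∀ i, Projective (K.X i)) (hex : ∀ i, i < m → K.ExactAt i)
    (e : ℕ) (he : HasProjectiveDimensionLT (K.opcycles m) (e + 1)) :
    ∀ t : ℕ, Projective (K.opcycles (m - e - t))
  | 0 => by
    have h := pd_opcycles_descent K m hproj hex e he e le_rfl
    rw [Nat.sub_self] at h
    have : Projective (K.opcycles (m - e)) := projective_iff_hasProjectiveDimensionLT_one.2 h
    simpa using this
  | t + 1 => by
    have hS := shortExact_opcycles K (m - e - (t + 1 : ℕ)) (m - e - t) (by omega) (hex _ (by omega))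
    haveI := projective_opcycles m hproj hex e he t
    haveI := hproj (m - e - t)
    have := hS.hasProjectiveDimensionLT_X₁ (n := 1) inferInstance inferInstance
    exact projective_iff_hasProjectiveDimensionLT_one.2 this

/-- **The lowest differential is split mono.** -/
theorem isSplitMono_d (a m : ℤ) (hproj : ∀ i, Projective (K.X i)) (hzero : ∀ i, i < a → IsZero (K.X i))
    (hex : ∀ i, i < m → K.ExactAt i) (e : ℕ) (he : HasProjectiveDimensionLT (K.opcycles m) (e + 1))
    (ha : a < m - e) : IsSplitMono (K.d a (a + 1)) := by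
  have hS := shortExact_opcycles K a (a + 1) rfl (hex _ (by omega))
  haveI : Projective (K.opcycles (a + 1)) := by
    have := projective_opcycles K m hproj hex e he (m - e - (a + 1)).toNat
    rwa [show m - e - ((m - e - (a + 1)).toNat : ℤ) = a + 1 by omega] at this
  haveI := hS.epi_g
  haveI := hS.mono_f
  let σ := ShortComplex.Splitting.ofExactOfSection _ hS.exact (Projective.factorThru (𝟙 _) (K.pOpcycles (a + 1)))
    (Projective.factorThru_comp _ _) hS.mono_f
  haveI : IsIso (K.pOpcycles a) := K.isIso_pOpcycles (a - 1) a (by simp) ((hzero _ (by omega)).eq_of_src _ _)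
  refine IsSplitMono.mk' ⟨σ.r ≫ inv (K.pOpcycles a), ?_⟩
  have h : K.fromOpcycles a (a + 1) ≫ σ.r = 𝟙 (K.opcycles a) := σ.f_r
  refine (congrArg (· ≫ σ.r ≫ inv (K.pOpcycles a)) (K.p_fromOpcycles a (a + 1)).symm).trans ?_
  show (K.pOpcycles a ≫ K.fromOpcycles a (a + 1)) ≫ σ.r ≫ inv (K.pOpcycles a) = _
  rw [Category.assoc, reassoc_of% h]
  exact IsIso.hom_inv_id _

end

open IsLocalRing in
/-- A finite module of finite projective dimension has projective dimension at most `depth R - depth N`. -/
theorem pd_le_dim (R : Type u) [CommRing R] [IsLocalRing R] [IsNoetherianRing R] (δ : ℕ)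
    (hδ : ringKrullDim R ≤ δ) (N : ModuleCat.{u} R) [Module.Finite R N] (n : ℕ)
    (hn : HasProjectiveDimensionLT N (n + 1)) (c : ℕ) (hc : c ≤ δ)
    (hdepth : ∀ d : ℕ, AusBuch.IsDepth R N d → c ≤ d) :
    HasProjectiveDimensionLT N (δ - c + 1) := by
  classical
  rcases subsingleton_or_nontrivial N with hN | hN
  · haveI := (ModuleCat.isZero_of_subsingleton N).hasProjectiveDimensionLT_zero
    exact hasProjectiveDimensionLT_of_ge N 0 _ (by omega)
  have hex : ∃ e, HasProjectiveDimensionLT N (e + 1) := ⟨n, hn⟩
  let e := Nat.find hex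
  have he : HasProjectiveDimensionLT N (e + 1) := Nat.find_spec hex
  have hne : ¬ HasProjectiveDimensionLT N e := by
    intro h
    rcases Nat.eq_zero_or_pos e with h0 | h0
    · rw [h0] at h
      haveI := h
      exact not_subsingleton N (ModuleCat.subsingleton_of_isZero (isZero_of_hasProjectiveDimensionLT_zero (X := N)))
    · obtain ⟨e', he'⟩ : ∃ e', e = e' + 1 := ⟨e - 1, by omega⟩
      exact Nat.find_min hex (show e' < Nat.find hex by omega) (he' ▸ h)
  obtain ⟨d, hd, hR⟩ := AusBuch.exists_isDepth_of_pd R e N he hne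
  obtain ⟨r, hr, hr'⟩ := AusBuch.isDepth_exists R (M := R)
  have hde : d + e = r := AusBuch.IsDepth.unique R hR hr'
  have h1 : (r : WithBot ℕ∞) ≤ (δ : WithBot ℕ∞) := by
    refine le_trans ?_ hδ
    have := Depth.depth_le_supportDim R R
    rw [hr, Module.supportDim_self_eq_ringKrullDim] at this
    exact this
  have h2 : r ≤ δ := by exact_mod_cast h1
  have h3 := hdepth d hd
  haveI := he
  exact hasProjectiveDimensionLT_of_ge N (e + 1) _ (by omega)

end GrothLib.FMK22
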