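import Groth.Agent.Lib.FMK22.Hyper
import Groth.Agent.S16375
import Groth.Agent.Lib.HomBC22.Coh
import Groth.Agent.Lib.FMInv15.Inversion
import Groth.Agent.Lib.BlowK17.Perf
import Groth.Agent.Lib.LocFreeHom.IsoNear

/-! # Coherence of `Φ_P` and hypercohomology of `Ψ_P` of a line bundle -/

set_option autoImplicit false
set_option maxHeartbeats 1000000
set_option linter.style.haveILetI false
universe u

open CategoryTheory CategoryTheory.Limits AlgebraicGeometry
attribute [local instance] HasDerivedCategory.standard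

noncomputable section

namespace GrothLib.FMK22

open GrothLib.OX

/-- Proper direct images of perfect objects are coherent and bounded. -/
theorem exists_bounds_rpush {Z W : Scheme.{u}} [IsNoetherian W] (f : Z ⟶ W) [IsProper f] [DCoh.HasRpush f]
    {M : DCoh.D Z} (hM : DCoh.IsPerfect M) :
    DCoh.IsCohD ((DCoh.Rpush f).obj M) ∧
      ∃ l h : ℤ, ((DCoh.Rpush f).obj M).IsGE l ∧ ((DCoh.Rpush f).obj M).IsLE h := by
  haveI : CompactSpace Z := QuasiCompact.compactSpace_of_compactSpace f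
  haveI : IsLocallyNoetherian Z := LocallyOfFiniteType.isLocallyNoetherian f
  obtain ⟨hc, h, hh⟩ := HomBC22.isCohD_Rpush_perfect f hM
  obtain ⟨l, hl⟩ := KSix19.ProjPush.exists_isGE_of_isPerfect hM
  have hge : ((SiteDer.Rres (rmor f)).obj M).IsGE l := @SiteDer.isGE_Rres _ _ _ _ _ _ _ _ (rmor f) M l hl
  exact ⟨hc, l, h, @CategoryTheory.Triangulated.TStructure.isGE_of_iso _ _ _ _ _ _ _ DerivedCategory.TStructure.t _ _
    ((rpushIsoRres f).app M).symm l hge, hh⟩

variable (k : Type u) [Field k] {X Y : Scheme.{u}} (a : X ⟶ Spec (CommRingCat.of k))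
  (b : Y ⟶ Spec (CommRingCat.of k)) (P : CochainComplex (pullback a b).Modules ℤ)

/-- `Φ_P` of a perfect object is bounded with coherent cohomology. -/
theorem exists_phi_bounds [IsProper a] [LocallyOfFiniteType b] [QuasiCompact b]
    [DCoh.HasLpull (pullback.fst a b)] [DCoh.HasLTensorCx P] [DCoh.HasRpush (pullback.snd a b)]
    (hP : DCoh.IsPerfect (DCoh.toD (pullback a b) P)) (F : DCoh.D X) (hF : DCoh.IsPerfect F) :
    DCoh.IsCohD ((FMK.phi a b P).obj F) ∧
      ∃ l h : ℤ, ((FMK.phi a b P).obj F).IsGE l ∧ ((FMK.phi a b P).obj F).IsLE h := by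
  haveI : IsLocallyNoetherian Y := LocallyOfFiniteType.isLocallyNoetherian b
  haveI : CompactSpace Y := QuasiCompact.compactSpace_of_compactSpace b
  haveI : IsNoetherian Y := {}
  haveI : CompactSpace (pullback a b : Scheme.{u}) :=
    QuasiCompact.compactSpace_of_compactSpace (pullback.snd a b)
  haveI : IsLocallyNoetherian (pullback a b : Scheme.{u}) :=
    LocallyOfFiniteType.isLocallyNoetherian (pullback.snd a b)
  obtain ⟨P', hP', ⟨eP⟩⟩ := exists_kflat_rep (DCoh.toD (pullback a b) P)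
  haveI := hasLTensorCx P'
  obtain ⟨c⟩ := nonempty_ltensorCx_congr eP.symm ((DCoh.Lpull (pullback.fst a b)).obj F)
  have hM : DCoh.IsPerfect ((DCoh.LTensorCx P).obj ((DCoh.Lpull (pullback.fst a b)).obj F)) :=
    isPerfect_of_iso (isPerfect_ltensor P' hP' (isPerfect_of_iso hP eP.symm) (isPerfect_lpull _ hF)) c.symm
  exact exists_bounds_rpush (pullback.snd a b) hM

/-- `RΓ(X, Ψ_P(N) ⊗ F) = RΓ(Y, Φ_P(F) ⊗ N)` for an invertible module `N`. -/
theorem nonempty_rGamma_psi_inv [IsAlgClosed k]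
    [DCoh.HasLpull (pullback.fst a b)] [DCoh.HasLpull (pullback.snd a b)] [DCoh.HasLTensorCx P]
    [DCoh.HasRpush (pullback.fst a b)] [DCoh.HasRpush (pullback.snd a b)] [DCoh.HasRΓ X] [DCoh.HasRΓ Y]
    (F : CochainComplex X.Modules ℤ) (hF : DCoh.IsPerfect (DCoh.toD X F)) [DCoh.HasLTensorCx F]
    {N : Y.Modules} (hN : PicF.IsInvertible N)
    [PreservesFiniteLimits (Euler.tF N)] [PreservesFiniteColimits (Euler.tF N)] :
    Nonempty ((DCoh.RΓ X).obj ((DCoh.LTensorCx F).obj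
        ((DCoh.Lpull (pullback.snd a b) ⋙ DCoh.LTensorCx P ⋙ DCoh.Rpush (pullback.fst a b)).obj (DCoh.inD Y N))) ≅
      (DCoh.RΓ Y).obj ((Euler.tF N).mapDerivedCategory.obj ((FMK.phi a b P).obj (DCoh.toD X F)))) := by
  let N₀ := (HomologicalComplex.single Y.Modules (ComplexShape.up ℤ) 0).obj N
  haveI := hasLTensorCx N₀
  have hN0 : DCoh.IsPerfect (DCoh.toD Y N₀) :=
    isPerfect_of_iso (BlowK17.isPerfect_inD_vb (LocFreeHom.isFinLocFree_of_isInvertible hN))
      (FMInv15.singleQIso N).symm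
  obtain ⟨e⟩ := Groth.Agent.S16375.result k X Y a b P F hF N₀ hN0
  obtain ⟨s⟩ := FMInv15.nonempty_ltensorCx_single hN
  exact ⟨(DCoh.RΓ X).mapIso ((DCoh.LTensorCx F).mapIso
      ((DCoh.Lpull (pullback.snd a b) ⋙ DCoh.LTensorCx P ⋙ DCoh.Rpush (pullback.fst a b)).mapIso
        (FMInv15.singleQIso N).symm)) ≪≫ e ≪≫ (DCoh.RΓ Y).mapIso (s.app _)⟩

/-- For `n` large, vanishing of `H^i(X, Ψ_P(L^n) ⊗ F)` detects vanishing of `R^iΦ_P(F)`, uniformly in `i`. -/
theorem exists_forall_detect [IsAlgClosed k] [IsProper a] [IsProper b]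
    [DCoh.HasLpull (pullback.fst a b)] [DCoh.HasLpull (pullback.snd a b)] [DCoh.HasLTensorCx P]
    [DCoh.HasRpush (pullback.fst a b)] [DCoh.HasRpush (pullback.snd a b)] [DCoh.HasRΓ X]
    (hP : DCoh.IsPerfect (DCoh.toD (pullback a b) P))
    (L : Y.Modules) (hL : CohB1.IsAmple L)
    (F : CochainComplex X.Modules ℤ) (hF : DCoh.IsPerfect (DCoh.toD X F)) [DCoh.HasLTensorCx F] :
    ∃ n₀ : ℕ, ∀ n : ℕ, n₀ ≤ n → ∀ i : ℤ,
      (IsZero (DCoh.HD ((FMK.phi a b P).obj (DCoh.toD X F)) i) ↔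
        IsZero ((DerivedCategory.homologyFunctor AddCommGrpCat.{u} i).obj ((DCoh.RΓ X).obj
          ((DCoh.LTensorCx F).obj ((DCoh.Lpull (pullback.snd a b) ⋙ DCoh.LTensorCx P ⋙
            DCoh.Rpush (pullback.fst a b)).obj (DCoh.inD Y (CohB1.tensorPow L n))))))) := by
  haveI : DCoh.HasRΓ Y := GrothLib.KInj.hasRightDerivedFunctor _
  obtain ⟨hc, l, h, hl, hh⟩ := exists_phi_bounds k a b P hP (DCoh.toD X F) hF
  haveI := hl
  haveI := hh
  obtain ⟨n₀, hn₀⟩ := exists_forall_isZero_twist_iff (CommRingCat.of k) b hL _ hc l h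
  refine ⟨n₀, fun n hn i => ?_⟩
  have hN : PicF.IsInvertible (CohB1.tensorPow L n) := Ample.isInvertible_tensorPow hL.1 n
  obtain ⟨h₁, h₂⟩ := FinSupp15.exact_tF hN
  haveI := h₁
  haveI := h₂
  obtain ⟨w⟩ := nonempty_rGamma_psi_inv k a b P F hF hN
  exact (hn₀ n hn i).symm.trans (Iso.isZero_iff ((DerivedCategory.homologyFunctor _ i).mapIso w)).symm

end GrothLib.FMK22
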