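import Groth.Agent.Lib.FMK22.GorDual
import Groth.Agent.Lib.FMK22.PhiShift
import Groth.Agent.Lib.FMK22.SerreDual
import Groth.Agent.Lib.OX.TildePerfect
import Groth.Agent.Lib.OX.AffineApps
import Groth.Agent.Lib.ShriekBridge22.ClosedRHom
import Groth.Agent.Lib.OX.ClosedPush

/-! # Testing cohomology of perfect objects on the residue field of a point -/

set_option autoImplicit false
set_option maxHeartbeats 1000000
set_option linter.style.haveILetI false
set_option backward.isDefEq.respectTransparency false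
universe u

open CategoryTheory CategoryTheory.Limits AlgebraicGeometry HomologicalComplex
open DerivedCategory (Q)
attribute [local instance] HasDerivedCategory.standard

noncomputable section

namespace GrothLib.FMK22

open GrothLib.OX

variable {Y : Scheme.{u}}

/-- Nakayama for complexes: a degree vanishing on the derived fibre vanishes on the stalk. -/
theorem notMem_support_of_fibre (K : DCoh.D Y) (hK : DCoh.IsPerfect K) (y : Y)
    [DCoh.HasLpull (Y.fromSpecResidueField y)] (n : ℤ)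
    (hn : IsZero (DCoh.HD ((DCoh.Lpull (Y.fromSpecResidueField y)).obj K) n)) :
    y ∉ CohB1.support (DCoh.HD K n) := by
  obtain ⟨Pc, -, ⟨ePc⟩⟩ := exists_kflat_rep K
  obtain ⟨V, E, hy, hE, ⟨i₀⟩⟩ := (isPerfect_iff_rep ePc).1 hK y
  obtain ⟨W, P, hyW, ⟨a, m, hb⟩, hf, -, ⟨i₁⟩⟩ := exists_free_bounded hE hy i₀
  let i : Q.obj P ≅ (resD W.ι).obj K := i₁.symm ≪≫ ((resDFac W.ι).app Pc).symm ≪≫ (resD W.ι).mapIso ePc
  have hr : y ∈ Set.range W.ι := ⟨⟨y, hyW⟩, rfl⟩
  let g := ptLift W.ι y hr
  haveI := OX.hasLpull W.ι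
  haveI := OX.hasLpull g
  haveI := OX.hasLpull (g ≫ W.ι)
  obtain ⟨t⟩ : Nonempty ↥(Spec (Y.residueField y)) := inferInstance
  obtain ⟨c⟩ := SuppTens22.nonempty_lpull_openImmersion W.ι
  have hP : DCoh.IsStrictlyPerfect P :=
    strictlyPerfect_of_free hf (a := a) (b := a + m) fun l hl => hb l (by omega)
  obtain ⟨v⟩ := lpull_value g P (isKFlat_of_strictlyPerfect hP)
  obtain ⟨e⟩ : Nonempty ((DCoh.Lpull (Y.fromSpecResidueField y)).obj K ≅ (DCoh.Lpull g).obj ((resD W.ι).obj K)) := by
    revert ‹DCoh.HasLpull (Y.fromSpecResidueField y)›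
    rw [← ptLift_fac W.ι y hr]
    intros
    exact ⟨((lpullCompIso g W.ι).app K).symm ≪≫ (DCoh.Lpull g).mapIso (c.app K)⟩
  have hT := isField_stalk_spec (Y.residueField y) (Field.toIsField _) t
  let φ := (g.stalkMap t).hom
  let F := ModuleCat.extendScalars φ
  have hq : ((pullCxF g).obj P).ExactAt n := by
    rw [exactAt_iff_isZero_homology]
    exact hn.of_iso (((DerivedCategory.homologyFunctorFactors _ n).app _).symm ≪≫
      (DerivedCategory.homologyFunctor _ n).mapIso (v.symm ≪≫ (DCoh.Lpull g).mapIso i ≪≫ e.symm))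
  rw [((pullCxF g).obj P).exactAt_iff' (n - 1) n (n + 1) (by simp) (by simp)] at hq
  have h1 : ((P.sc' (n - 1) n (n + 1)).map (fib g t)).Exact := hq.map (stalk t)
  let S := (stCx (g t) P).sc' (n - 1) n (n + 1)
  have h2 : (S.map F).Exact :=
    (ShortComplex.exact_iff_of_iso ((P.sc' (n - 1) n (n + 1)).mapNatIso (pullStalkIso g t))).1 h1
  let d := cokernel.desc S.f S.g S.zero
  have hm : Mono (F.map d) := by
    have h3 := (ShortComplex.exact_iff_mono_cokernel_desc _).1 h2
    rw [show F.map d = (PreservesCokernel.iso F S.f).hom ≫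
        cokernel.desc (S.map F).f (S.map F).g (S.map F).zero from ?_]
    · haveI := h3
      exact mono_comp _ _
    · rw [← cancel_epi (F.map (cokernel.π S.f))]
      have hp : F.map (cokernel.π S.f) ≫ (PreservesCokernel.iso F S.f).hom = cokernel.π (F.map S.f) := by
        simp
      refine Eq.trans ?_ ((Category.assoc _ _ _).symm.trans ((congrArg (· ≫ _) hp).trans
        (cokernel.π_desc _ _ _))).symm
      rw [← Functor.map_comp, cokernel.π_desc]
      rfl
  haveI : Module.Finite ((W : Scheme.{u}).presheaf.stalk (g t)) S.X₂ := (projective_stCx (g t) hf n).2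
  obtain ⟨r, ⟨eB⟩⟩ := hf (n + 1)
  obtain ⟨hfree, hfin⟩ := finite_stalk eB (g t)
  haveI : Module.Finite ((W : Scheme.{u}).presheaf.stalk (g t)) S.X₃ := hfin
  haveI : Module.Free ((W : Scheme.{u}).presheaf.stalk (g t)) S.X₃ := hfree
  haveI : Module.Finite ((W : Scheme.{u}).presheaf.stalk (g t)) (cokernel S.f : ModuleCat _) :=
    Module.Finite.of_surjective (cokernel.π S.f).hom ((ModuleCat.epi_iff_surjective _).1 inferInstance)
  haveI := isLocalHom_stalkMap g t
  obtain ⟨l, hl⟩ := ModFibre.split_of_extendScalars_injective φ hT d ((ModuleCat.mono_iff_injective _).1 hm)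
  have hS : S.Exact := (ShortComplex.exact_iff_mono_cokernel_desc S).2 ((ModuleCat.mono_iff_injective _).2
    (Function.LeftInverse.injective (g := l) fun x => DFunLike.congr_fun hl x))
  have h0 : IsZero ((stalk (g t)).obj ((Scheme.Modules.restrictFunctor W.ι).obj (DCoh.HD K n))) := by
    refine (IsZero.of_iso ?_ ((stalk (g t)).mapIso ((HDResIso W.ι K n).symm ≪≫
      (DerivedCategory.homologyFunctor _ n).mapIso i.symm ≪≫
      (DerivedCategory.homologyFunctorFactors (W : Scheme.{u}).Modules n).app P)))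
    refine IsZero.of_iso ?_ ((P.sc n).mapHomologyIso (stalk (g t))).symm
    exact (exactAt_iff_isZero_homology (stCx (g t) P) n).1
      (((stCx (g t) P).exactAt_iff' (n - 1) n (n + 1) (by simp) (by simp)).2 hS)
  intro hs
  have hsub := ModuleCat.subsingleton_of_isZero h0
  exact (TensorPerf20.mem_support_restrict W.ι (DCoh.HD K n) (g t)).2
    (by rw [ptLift_apply]; exact hs) hsub

/-- Perfect objects have coherent cohomology. -/
theorem isCohD_of_perfect [IsLocallyNoetherian Y] {K : DCoh.D Y} (hK : DCoh.IsPerfect K) : DCoh.IsCohD K := fun i =>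
  isCoh_of_affines fun U hU => by
    haveI : IsLocallyNoetherian (Spec Γ(Y, U)) := LocallyOfFiniteType.isLocallyNoetherian hU.fromSpec
    haveI : IsNoetherianRing Γ(Y, U) := isLocallyNoetherian_Spec.1 inferInstance
    obtain ⟨M, ⟨e⟩⟩ := exists_tildeD_rep (isQCohD_of_isPerfect hK) hU.fromSpec
    exact QCoh.isCoh_of_iso ((HDResIso hU.fromSpec K i).symm ≪≫
      (DerivedCategory.homologyFunctor _ i).mapIso e.symm ≪≫ HDTildeIso M i).symm
      ((isCoh_tilde_iff _).2 (DR.finite_homology_of_isPerfect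
        ((isPerfect_tildeD_iff (A := Γ(Y, U)) M).1 (isPerfect_of_iso (isPerfect_resD hK hU.fromSpec) e.symm)) i))

/-- A degree vanishing on the derived fibre vanishes on a neighbourhood. -/
theorem exists_nbhd_of_fibre [IsNoetherian Y] (K : DCoh.D Y) (hK : DCoh.IsPerfect K) (y : Y)
    [DCoh.HasLpull (Y.fromSpecResidueField y)] (n : ℤ)
    (hn : IsZero (DCoh.HD ((DCoh.Lpull (Y.fromSpecResidueField y)).obj K) n)) :
    ∃ U : Y.Opens, y ∈ U ∧ ∀ z : Y, z ∈ U → z ∉ CohB1.support (DCoh.HD K n) := by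
  have hc : IsClosed (CohB1.support (DCoh.HD K n)) :=
    QCoh.isClosed_support_of_isCoh (isCohD_of_perfect hK n)
  exact ⟨⟨_, hc.isOpen_compl⟩, notMem_support_of_fibre K hK y n hn, fun z hz => hz⟩

/-- The fibre of the dual is tested by maps to the skyscraper. -/
theorem isZero_fibre_dual_of_hom (y : Y) [IsClosedImmersion (Y.fromSpecResidueField y)]
    [DCoh.HasLpull (Y.fromSpecResidueField y)]
    (K D : CochainComplex Y.Modules ℤ) (hK : DCoh.IsKFlat K) (hKp : DCoh.IsPerfect (DCoh.toD Y K))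
    (hD : DCoh.IsKFlat D) (hDp : DCoh.IsPerfect (DCoh.toD Y D))
    [DCoh.HasLTensorCx D] [DCoh.HasRSheafHom D]
    (iK : Q.obj K ≅ (DCoh.RSheafHom D).obj ((DerivedCategory.singleFunctor Y.Modules 0).obj (Coh.structureModule Y)))
    (i : ℤ)
    (h : ∀ φ : DCoh.toD Y K ⟶ (shiftFunctor (DCoh.D Y) i).obj
      (DCoh.inD Y ((Scheme.Modules.pushforward (Y.fromSpecResidueField y)).obj (Coh.structureModule _))), φ = 0) :
    IsZero (DCoh.HD ((DCoh.Lpull (Y.fromSpecResidueField y)).obj (DCoh.toD Y D)) i) := by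
  let g := Y.fromSpecResidueField y
  haveI : DCoh.HasRpush g := KInj.hasRightDerivedFunctor _
  let K' := (pullCxF g).obj K
  haveI := hasLTensorCx K'
  haveI := hasRSheafHom K'
  haveI := hasLTensorCx K
  haveI := hasRSheafHom K
  have hK' : DCoh.IsKFlat K' := isKFlat_pullback g hK
  have hK'p : DCoh.IsPerfect (Q.obj K') := RightAdj22.isPerfect_pull g hK hKp
  obtain ⟨D', hD', _, _, hD'p, ⟨i'⟩, ⟨iD'⟩⟩ := RightAdj20.exists_dual_pair K' hK' hK'p
  obtain ⟨dd⟩ := RightAdj20.nonempty_lpull_dual g hD hDp hK hKp iK hD' hD'p i'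
  obtain ⟨vK⟩ := lpull_value g K hK
  refine IsZero.of_iso ?_ ((DerivedCategory.homologyFunctor _ i).mapIso (dd ≪≫ iD'))
  rw [KSix19.ProjPush.isZero_HD_iff_hom
    (isQCohD_of_isPerfect (isPerfect_RSheafHom_of_perfect K' hK'p (isPerfect_unit _)))]
  intro ψ
  apply ((DCoh.RSheafHomAdj K').homEquiv _ _).symm.injective
  let O := Coh.structureModule (Spec (Y.residueField y))
  obtain ⟨s⟩ := nonempty_ltensorCx_obj_shift K' (DCoh.inD _ O) (-i)
  obtain ⟨u⟩ := Detect22.nonempty_ltensor_unit K'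
  let T : (DCoh.LTensorCx K').obj ((DerivedCategory.singleFunctor _ i).obj O) ≅
      (shiftFunctor (DCoh.D _) (-i)).obj (Q.obj K') :=
    (DCoh.LTensorCx K').mapIso (((DerivedCategory.singleFunctors _).shiftIso (-i) i 0 (by omega)).app O).symm ≪≫ s ≪≫
      (shiftFunctor _ (-i)).mapIso ((DCoh.LTensorCx K').mapIso (unitCxQIso _).symm ≪≫ u.symm)
  haveI := preservesFiniteColimits_pushforward g
  obtain ⟨p⟩ := ShriekBridge22.nonempty_RR_pushD g
  obtain ⟨sh⟩ := nonempty_rpush_shift g (DCoh.inD _ O) i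
  obtain ⟨adj⟩ := nonempty_lpullAdj g
  let w : (DCoh.Rpush g).obj ((shiftFunctor (DCoh.D _) i).obj (DCoh.inD _ O)) ≅
      (shiftFunctor (DCoh.D Y) i).obj (DCoh.inD Y ((Scheme.Modules.pushforward g).obj O)) :=
    sh ≪≫ (shiftFunctor (DCoh.D Y) i).mapIso ((rpushIsoRres g).app _ ≪≫ p.app _ ≪≫
      ((Scheme.Modules.pushforward g).mapDerivedCategorySingleFunctor 0).app O)
  have key : ∀ χ : Q.obj K' ⟶ (shiftFunctor (DCoh.D _) i).obj (DCoh.inD _ O), χ = 0 := fun χ => by
    rw [← cancel_epi vK.hom, comp_zero]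
    apply (adj.homEquiv _ _).injective
    rw [← cancel_mono w.hom]
    exact (h _).trans (h _).symm
  refine ((cancel_epi T.inv).1 ?_)
  apply (shiftFunctor (DCoh.D (Spec (Y.residueField y))) i).map_injective
  rw [← cancel_epi ((shiftFunctorCompIsoId (DCoh.D (Spec (Y.residueField y))) (-i) i (by omega)).inv.app (Q.obj K'))]
  exact (key _).trans (key _).symm

end GrothLib.FMK22
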