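import Groth.Agent.Lib.FMK22.PushTest
import Groth.Agent.Lib.AffBC.Basic
import Groth.Agent.Lib.QCoh.ClosedImmersion
import Groth.Agent.Lib.PushKR17.Acy
import Groth.Agent.Lib.OX.LocFreeTensor

/-! # Thickenings of a fibre of a product over a closed point -/

set_option autoImplicit false
set_option maxHeartbeats 1000000
set_option linter.style.haveILetI false
set_option backward.isDefEq.respectTransparency false
universe u

open CategoryTheory CategoryTheory.Limits AlgebraicGeometry IsLocalRing
attribute [local instance] HasDerivedCategory.standard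

noncomputable section

namespace GrothLib.FMK22

variable {X Y S : Scheme.{u}}

/-- The `e`-th order thickening of the fibre over a closed point, with its module. -/
theorem exists_thickening [IsNoetherian X] [IsAffine S] (a : X ⟶ S) (b : Y ⟶ S) (z : ↥(pullback a b))
    (hx : IsClosed ({pullback.fst a b z} : Set X)) (e : ℕ) :
    ∃ (F : X.Modules) (W : Scheme.{u}) (g : W ⟶ pullback a b) (t : W),
      Coh.IsCoh F ∧ CohB1.support F ⊆ {pullback.fst a b z} ∧ IsClosedImmersion g ∧
      IsAffineHom (g ≫ pullback.snd a b) ∧ g t = z ∧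
      RingHom.ker (g.stalkMap t).hom ≤ maximalIdeal _ ^ e ∧
      Nonempty ((Scheme.Modules.pullback (pullback.fst a b)).obj F ≅
        (Scheme.Modules.pushforward g).obj (Coh.structureModule W)) := by
  let p := pullback.fst a b
  let x := p z
  let R := X.presheaf.stalk x
  let A := (pullback a b).presheaf.stalk z
  let I : Ideal R := maximalIdeal R ^ (e + 1)
  let J : Ideal A := maximalIdeal A ^ (e + 1)
  have hI : I ≠ ⊤ := fun h => (maximalIdeal.isMaximal R).ne_top
    (top_le_iff.1 (h ▸ Ideal.pow_le_self (Nat.succ_ne_zero e)))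
  have hJ : J ≠ ⊤ := fun h => (maximalIdeal.isMaximal A).ne_top
    (top_le_iff.1 (h ▸ Ideal.pow_le_self (Nat.succ_ne_zero e)))
  haveI : Nontrivial (R ⧸ I) := Ideal.Quotient.nontrivial_iff.2 hI
  haveI : Nontrivial (A ⧸ J) := Ideal.Quotient.nontrivial_iff.2 hJ
  haveI : IsLocalRing (R ⧸ I) := IsLocalRing.of_surjective' _ Ideal.Quotient.mk_surjective
  haveI : IsLocalRing (A ⧸ J) := IsLocalRing.of_surjective' _ Ideal.Quotient.mk_surjective
  let πx : R ⟶ CommRingCat.of (R ⧸ I) := CommRingCat.ofHom (Ideal.Quotient.mk I)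
  let πz : A ⟶ CommRingCat.of (A ⧸ J) := CommRingCat.ofHom (Ideal.Quotient.mk J)
  let ι : Spec (CommRingCat.of (R ⧸ I)) ⟶ X := Spec.map πx ≫ X.fromSpecStalk x
  haveI : IsClosedImmersion (Spec.map πx) := IsClosedImmersion.spec_of_surjective _ Ideal.Quotient.mk_surjective
  have hpt : ∀ u, ι u = x := fun u => by
    have h : (Spec.map πx u : Spec R) = closedPoint R := by
      refine PrimeSpectrum.ext (((maximalIdeal.isMaximal R).eq_of_le (Spec.map πx u).isPrime.ne_top ?_).symm)
      refine (Spec.map πx u).isPrime.le_of_pow_le (n := e + 1) fun r hr => ?_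
      change Ideal.Quotient.mk I r ∈ u.asIdeal
      rw [Ideal.Quotient.eq_zero_iff_mem.2 hr]
      exact zero_mem _
    change X.fromSpecStalk x (Spec.map πx u) = x
    rw [h, Scheme.fromSpecStalk_closedPoint]
  have hrange : Set.range ι = {x} := by
    refine Set.eq_singleton_iff_unique_mem.2 ⟨⟨closedPoint _, hpt _⟩, ?_⟩
    rintro _ ⟨u, rfl⟩
    exact hpt u
  haveI : IsPreimmersion (Spec.map πx ≫ X.fromSpecStalk x) := inferInstance
  haveI : IsClosedImmersion ι := IsClosedImmersion.of_isPreimmersion ι (hrange ▸ hx)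
  haveI : IsAffineHom (ι ≫ a) := isAffineHom_of_isAffine _
  let g : pullback p ι ⟶ pullback a b := pullback.fst p ι
  have sq := (IsPullback.of_hasPullback p ι).flip
  haveI : IsClosedImmersion g := inferInstance
  haveI : IsAffineHom (g ≫ pullback.snd a b) :=
    MorphismProperty.of_isPullback (P := @IsAffineHom) (sq.paste_vert (IsPullback.of_hasPullback a b)) inferInstance
  -- the lift of the thickened point
  have hφ : I ≤ J.comap (p.stalkMap z).hom := by
    refine Ideal.map_le_iff_le_comap.1 ?_
    rw [Ideal.map_pow]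
    exact Ideal.pow_right_mono (show (maximalIdeal R).map (p.stalkMap z).hom ≤ maximalIdeal A from
      Ideal.map_le_iff_le_comap.2 fun r hr => map_nonunit (p.stalkMap z).hom r hr) _
  let ψ : CommRingCat.of (R ⧸ I) ⟶ CommRingCat.of (A ⧸ J) := CommRingCat.ofHom (Ideal.quotientMap J _ hφ)
  let h : Spec (CommRingCat.of (A ⧸ J)) ⟶ pullback a b := Spec.map πz ≫ (pullback a b).fromSpecStalk z
  have hfac : h ≫ p = Spec.map ψ ≫ ι := by
    change (Spec.map πz ≫ _) ≫ _ = Spec.map ψ ≫ Spec.map πx ≫ _
    rw [Category.assoc, ← Scheme.SpecMap_stalkMap_fromSpecStalk, ← Spec.map_comp_assoc, ← Spec.map_comp_assoc]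
    rfl
  let l : Spec (CommRingCat.of (A ⧸ J)) ⟶ pullback p ι := pullback.lift h (Spec.map ψ) hfac
  have hlg : l ≫ g = h := pullback.lift_fst _ _ _
  let t : ↥(pullback p ι) := l (closedPoint (CommRingCat.of (A ⧸ J)))
  haveI : IsLocalHom πz.hom := IsLocalHom.of_surjective _ Ideal.Quotient.mk_surjective
  have hz : h (closedPoint (CommRingCat.of (A ⧸ J))) = z := by
    rw [Scheme.Hom.comp_apply, Spec_closedPoint, Scheme.fromSpecStalk_closedPoint]
  have hker : RingHom.ker (g.stalkMap t).hom ≤ maximalIdeal _ ^ e := fun r hr => by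
    have h1 : (Scheme.stalkClosedPointTo (l ≫ g)).hom r = 0 := by
      rw [Scheme.stalkClosedPointTo_comp]
      change (Scheme.stalkClosedPointTo l).hom ((g.stalkMap t).hom r) = 0
      rw [RingHom.mem_ker.1 hr, map_zero]
    have key : ∀ (f : Spec (CommRingCat.of (A ⧸ J)) ⟶ pullback a b) (hf : f = h)
        (r' : (pullback a b).presheaf.stalk (f (closedPoint (CommRingCat.of (A ⧸ J))))),
        (Scheme.stalkClosedPointTo f).hom r' = 0 → r' ∈ maximalIdeal _ ^ e := by
      rintro f rfl r' hr'
      let c := (pullback a b).presheaf.stalkCongr (Inseparable.of_eq hz)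
      have hc : Scheme.stalkClosedPointTo h = c.hom ≫ πz := by
        refine TopCat.Presheaf.stalk_hom_ext _ fun U hU => ?_
        rw [Scheme.germ_stalkClosedPointTo_Spec_fromSpecStalk, TopCat.Presheaf.stalkCongr_hom,
          TopCat.Presheaf.germ_stalkSpecializes_assoc]
      rw [hc] at hr'
      let ec := c.commRingCatIsoToRingEquiv
      have hm : ec r' ∈ maximalIdeal A ^ e :=
        Ideal.pow_le_pow_right (Nat.le_succ e) (Ideal.Quotient.eq_zero_iff_mem.1 hr')
      have hmap : (maximalIdeal A ^ e).map ec.symm.toRingHom ≤ maximalIdeal _ ^ e := by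
        rw [Ideal.map_pow]
        refine Ideal.pow_right_mono (IsLocalRing.le_maximalIdeal ?_) e
        exact (Ideal.map_symm ec) ▸ Ideal.comap_ne_top ec.toRingHom (maximalIdeal.isMaximal _).ne_top
      simpa using hmap (Ideal.mem_map_of_mem ec.symm.toRingHom hm)
    exact key (l ≫ g) hlg r h1
  refine ⟨(Scheme.Modules.pushforward ι).obj (Coh.structureModule _), pullback p ι, g, t, ?_, ?_, inferInstance,
    inferInstance, ?_, hker, ?_⟩
  · exact QCoh.pushUnit_isCoh ι
  · exact (QCoh.support_pushforward_subset_range _ _).trans hrange.le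
  · change g (l _) = z
    rw [← Scheme.Hom.comp_apply, hlg, hz]
  · haveI : (Coh.structureModule (Spec (CommRingCat.of (R ⧸ I)))).IsQuasicoherent := (HomSh.isCoh_structureModule _).1
    haveI := AffBC.isIso_bcMap sq (Coh.structureModule (Spec (CommRingCat.of (R ⧸ I))))
    exact ⟨asIso (AffBC.bcMap sq _) ≪≫ (Scheme.Modules.pushforward g).mapIso (OX.pullUnitIso _)⟩

end GrothLib.FMK22
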