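import Groth.Agent.Lib.FMK22.PointTest
import Groth.Agent.Lib.ThickDesc6.Pull

/-! # Testing cohomology of perfect objects on thickenings of a point -/

set_option autoImplicit false
set_option maxHeartbeats 1000000
set_option linter.style.haveILetI false
set_option backward.isDefEq.respectTransparency false
universe u

open CategoryTheory CategoryTheory.Limits AlgebraicGeometry HomologicalComplex
open DerivedCategory (Q)
attribute [local instance] HasDerivedCategory.standard

noncomputable section

namespace GrothLib.FMK22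

open GrothLib.OX

section Algebra

variable {R R' : Type u} [CommRing R] [CommRing R']

/-- An element dying under a surjective extension of scalars lies in the kernel times the module. -/
theorem mem_ker_smul_top (φ : R →+* R') (hφ : Function.Surjective φ) {M : ModuleCat.{u} R} (q : M)
    (hq : (ModuleCat.ExtendRestrictScalarsAdj.Unit.map φ (X := M)).hom q = 0) :
    q ∈ RingHom.ker φ • (⊤ : Submodule R M) := by
  letI := φ.toAlgebra
  let ψ : (R ⧸ RingHom.ker φ) ≃ₗ[R] R' :=
    (Ideal.quotientKerAlgEquivOfSurjective (f := Algebra.ofId R R') hφ).toLinearEquiv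
  have h1 : (1 : R') ⊗ₜ[R] q = (0 : TensorProduct R R' M) := hq
  have h2 : (1 : R ⧸ RingHom.ker φ) ⊗ₜ[R] q = (0 : TensorProduct R (R ⧸ RingHom.ker φ) M) := by
    apply (TensorProduct.congr ψ (LinearEquiv.refl R M)).injective
    rw [TensorProduct.congr_tmul, map_zero]
    exact (congrArg (fun a => a ⊗ₜ[R] q)
      (map_one (Ideal.quotientKerAlgEquivOfSurjective (f := Algebra.ofId R R') hφ))).trans h1
  have h3 := congrArg (TensorProduct.quotTensorEquivQuotSMul M (RingHom.ker φ)) h2
  rw [map_zero] at h3
  rw [← Submodule.Quotient.mk_eq_zero]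
  simpa using h3

/-- A short complex exact after reduction modulo arbitrarily high powers of the maximal ideal is exact. -/
theorem exact_of_reductions [IsLocalRing R] [IsNoetherianRing R] (S : ShortComplex (ModuleCat.{u} R))
    [Module.Finite R S.X₂]
    (h : ∀ e : ℕ, ∃ (B : CommRingCat.{u}) (φ : R →+* B), Function.Surjective φ ∧
      RingHom.ker φ ≤ IsLocalRing.maximalIdeal R ^ e ∧ (S.map (ModuleCat.extendScalars φ)).Exact) : S.Exact := by
  let d := cokernel.desc S.f S.g S.zero
  haveI : Module.Finite R (cokernel S.f : ModuleCat _) :=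
    Module.Finite.of_surjective (cokernel.π S.f).hom ((ModuleCat.epi_iff_surjective _).1 inferInstance)
  refine (ShortComplex.exact_iff_mono_cokernel_desc S).2 ((ModuleCat.mono_iff_injective _).2 ?_)
  rw [injective_iff_map_eq_zero]
  intro q hq
  have hmem : q ∈ (⨅ e : ℕ, IsLocalRing.maximalIdeal R ^ e • ⊤ : Submodule R (cokernel S.f : ModuleCat _)) := by
    refine Submodule.mem_iInf _ |>.2 fun e => ?_
    obtain ⟨B, φ, hφ, hk, hS⟩ := h e
    let F := ModuleCat.extendScalars φ
    have hm : Mono (F.map d) := by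
      have h3 := (ShortComplex.exact_iff_mono_cokernel_desc _).1 hS
      rw [show F.map d = (PreservesCokernel.iso F S.f).hom ≫
          cokernel.desc (S.map F).f (S.map F).g (S.map F).zero from ?_]
      · haveI := h3
        exact mono_comp _ _
      · rw [← cancel_epi (F.map (cokernel.π S.f))]
        have hp : F.map (cokernel.π S.f) ≫ (PreservesCokernel.iso F S.f).hom = cokernel.π (F.map S.f) := by
          simp
        refine Eq.trans ?_ ((Category.assoc _ _ _).symm.trans ((congrArg (· ≫ _) hp).trans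
          (cokernel.π_desc _ _ _))).symm
        rw [← Functor.map_comp, cokernel.π_desc]
        rfl
    have hq0 : (ModuleCat.ExtendRestrictScalarsAdj.Unit.map φ).hom q = 0 := by
      apply (ModuleCat.mono_iff_injective _).1 hm
      letI := φ.toAlgebra
      change (F.map d).hom ((1 : (B : Type u)) ⊗ₜ[R] q) = _
      erw [ModuleCat.ExtendScalars.map_tmul]
      change (1 : (B : Type u)) ⊗ₜ[R] d.hom q = _
      rw [hq, TensorProduct.tmul_zero]
      exact (map_zero _).symm
    exact Submodule.smul_mono_left hk (mem_ker_smul_top φ hφ q hq0)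
  rw [Ideal.iInf_pow_smul_eq_bot_of_isLocalRing (IsLocalRing.maximalIdeal R)
    (IsLocalRing.maximalIdeal.isMaximal R).ne_top] at hmem
  simpa using hmem

end Algebra

variable {Y : Scheme.{u}}

/-- A degree vanishing on closed subschemes shrinking to `y` to any order vanishes at `y`. -/
theorem notMem_support_of_thickenings [IsLocallyNoetherian Y] (K : DCoh.D Y) (hK : DCoh.IsPerfect K) (y : Y) (n : ℤ)
    (h : ∀ e : ℕ, ∃ (Z : Scheme.{u}) (g : Z ⟶ Y) (_ : IsClosedImmersion g) (_ : DCoh.HasLpull g) (t : Z),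
      g t = y ∧ RingHom.ker (g.stalkMap t).hom ≤ IsLocalRing.maximalIdeal _ ^ e ∧
        IsZero (DCoh.HD ((DCoh.Lpull g).obj K) n)) :
    y ∉ CohB1.support (DCoh.HD K n) := by
  obtain ⟨Pc, -, ⟨ePc⟩⟩ := exists_kflat_rep K
  obtain ⟨V, E, hy, hE, ⟨i₀⟩⟩ := (isPerfect_iff_rep ePc).1 hK y
  obtain ⟨W, P, hyW, ⟨a, m, hb⟩, hf, -, ⟨i₁⟩⟩ := exists_free_bounded hE hy i₀
  let i : Q.obj P ≅ (resD W.ι).obj K := i₁.symm ≪≫ ((resDFac W.ι).app Pc).symm ≪≫ (resD W.ι).mapIso ePc
  let w : W := ⟨y, hyW⟩
  haveI : IsLocallyNoetherian (W : Scheme.{u}) := isLocallyNoetherian_of_isOpenImmersion W.ι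
  have hP : DCoh.IsStrictlyPerfect P :=
    strictlyPerfect_of_free hf (a := a) (b := a + m) fun l hl => hb l (by omega)
  let S := (stCx w P).sc' (n - 1) n (n + 1)
  haveI : Module.Finite ((W : Scheme.{u}).presheaf.stalk w) S.X₂ := (projective_stCx w hf n).2
  have hS : S.Exact := by
    refine exact_of_reductions S fun e => ?_
    obtain ⟨Z, g, hg, hL, t, rfl, hker, hz⟩ := h e
    let t' : ((g ⁻¹ᵁ W : Z.Opens) : Scheme.{u}) := ⟨t, hyW⟩
    let g' := g ∣_ W
    haveI : IsClosedImmersion g' := IsZariskiLocalAtTarget.restrict hg W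
    haveI := OX.hasLpull g'
    have hgt : g' t' = w := Subtype.ext (morphismRestrict_base_coe g W t')
    obtain ⟨v⟩ := lpull_value g' P (isKFlat_of_strictlyPerfect hP)
    obtain ⟨r⟩ := ThickDesc6.nonempty_resD_lpull g W K
    have hz' : IsZero (DCoh.HD ((resD (g ⁻¹ᵁ W).ι).obj ((DCoh.Lpull g).obj K)) n) :=
      ((Scheme.Modules.restrictFunctor _).map_isZero hz).of_iso (HDResIso _ _ n)
    have hq : ((pullCxF g').obj P).ExactAt n := by
      rw [exactAt_iff_isZero_homology]
      exact hz'.of_iso (((DerivedCategory.homologyFunctorFactors _ n).app _).symm ≪≫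
        (DerivedCategory.homologyFunctor _ n).mapIso (v.symm ≪≫ (DCoh.Lpull g').mapIso i ≪≫ r))
    rw [((pullCxF g').obj P).exactAt_iff' (n - 1) n (n + 1) (by simp) (by simp)] at hq
    have h1 : ((P.sc' (n - 1) n (n + 1)).map (fib g' t')).Exact := hq.map (stalk t')
    have h2 : (((stCx (g' t') P).sc' (n - 1) n (n + 1)).map (ModuleCat.extendScalars (g'.stalkMap t').hom)).Exact :=
      (ShortComplex.exact_iff_of_iso ((P.sc' (n - 1) n (n + 1)).mapNatIso (pullStalkIso g' t'))).1 h1
    have hsurj : Function.Surjective (g'.stalkMap t').hom := g'.stalkMap_surjective t'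
    have hk : RingHom.ker (g'.stalkMap t').hom ≤ IsLocalRing.maximalIdeal _ ^ e := fun a ha => by
      let E := morphismRestrictStalkMap g W t'
      have hc : (g.stalkMap t).hom (E.hom.left.hom a) = E.hom.right.hom ((g'.stalkMap t').hom a) :=
        ConcreteCategory.congr_hom E.hom.w a
      rw [show (g'.stalkMap t').hom a = 0 from ha, map_zero] at hc
      let eL : (W : Scheme.{u}).presheaf.stalk (g' t') ≃+* Y.presheaf.stalk (g t) :=
        (Arrow.leftFunc.mapIso E).commRingCatIsoToRingEquiv
      have hm : eL a ∈ IsLocalRing.maximalIdeal (Y.presheaf.stalk (g t)) ^ e := hker hc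
      have hmap : (IsLocalRing.maximalIdeal _ ^ e).map eL.symm.toRingHom ≤
          IsLocalRing.maximalIdeal ((W : Scheme.{u}).presheaf.stalk (g' t')) ^ e := by
        rw [Ideal.map_pow]
        refine Ideal.pow_right_mono (IsLocalRing.le_maximalIdeal ?_) e
        exact (Ideal.map_symm eL) ▸ Ideal.comap_ne_top eL.toRingHom (IsLocalRing.maximalIdeal.isMaximal _).ne_top
      have h3 := hmap (Ideal.mem_map_of_mem eL.symm.toRingHom hm)
      simpa using h3
    revert h2 hk hsurj
    generalize (g'.stalkMap t').hom = φ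
    revert φ
    rw [hgt]
    intro φ h2 hsurj hk
    exact ⟨_, φ, hsurj, hk, h2⟩
  have h0 : IsZero ((stalk w).obj ((Scheme.Modules.restrictFunctor W.ι).obj (DCoh.HD K n))) := by
    refine (IsZero.of_iso ?_ ((stalk w).mapIso ((HDResIso W.ι K n).symm ≪≫
      (DerivedCategory.homologyFunctor _ n).mapIso i.symm ≪≫
      (DerivedCategory.homologyFunctorFactors (W : Scheme.{u}).Modules n).app P)))
    refine IsZero.of_iso ?_ ((P.sc n).mapHomologyIso (stalk w)).symm
    exact (exactAt_iff_isZero_homology (stCx w P) n).1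
      (((stCx w P).exactAt_iff' (n - 1) n (n + 1) (by simp) (by simp)).2 hS)
  intro hs
  have hsub := ModuleCat.subsingleton_of_isZero h0
  exact (TensorPerf20.mem_support_restrict W.ι (DCoh.HD K n) w).2 hs hsub

end GrothLib.FMK22
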