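import Groth.Agent.Lib.FMK22.Amplitude

/-! # Duals of torsion-free sheaves of finite tor dimension -/

set_option autoImplicit false
set_option maxHeartbeats 1000000
set_option linter.style.haveILetI false
set_option backward.isDefEq.respectTransparency false
universe u

open CategoryTheory CategoryTheory.Limits AlgebraicGeometry HomologicalComplex
open DerivedCategory (Q)
attribute [local instance] HasDerivedCategory.standard

noncomputable section

namespace GrothLib.FMK22

open GrothLib.OX

theorem mono_smul_id_iff {R : Type u} [CommRing R] (M : ModuleCat.{u} R) (r : R) :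
    Mono (r • 𝟙 M) ↔ IsSMulRegular M r := by
  rw [ModuleCat.mono_iff_injective]
  rfl

theorem mono_smul_of_iso {R : Type u} [CommRing R] {M N : ModuleCat.{u} R} (e : M ≅ N) (r : R)
    (h : Mono (r • 𝟙 M)) : Mono (r • 𝟙 N) := by
  have h1 : r • 𝟙 N = e.inv ≫ (r • 𝟙 M) ≫ e.hom := by simp
  rw [h1]
  haveI : Mono ((r • 𝟙 M) ≫ e.hom) := mono_comp _ _
  exact mono_comp _ _

/-- Opcycles over torsion-free cohomology are torsion-free. -/
theorem mono_smul_opcycles {R : Type u} [CommRing R] (K : CochainComplex (ModuleCat.{u} R) ℤ) (i : ℤ) (r : R)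
    (h₁ : Mono (r • 𝟙 (K.homology i))) (h₂ : Mono (r • 𝟙 (K.X (i + 1)))) : Mono (r • 𝟙 (K.opcycles i)) :=
  Preadditive.mono_of_cancel_zero _ fun {W} g hg => by
    have hg' : r • g = 0 := by simpa using hg
    have h3 : g ≫ K.fromOpcycles i (i + 1) = 0 := by
      rw [← cancel_mono (r • 𝟙 (K.X (i + 1))), zero_comp, Category.assoc, Linear.comp_smul, Category.comp_id,
        Linear.comp_smul, ← Linear.smul_comp, hg', zero_comp]
    let hker := K.homologyIsKernel i (i + 1) (by simp)
    let l := KernelFork.IsLimit.lift' hker g h3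
    have h4 : l.1 = 0 := by
      haveI : Mono (Fork.ι (KernelFork.ofι (K.homologyι i) (K.homologyι_comp_fromOpcycles i (i + 1)))) :=
        mono_of_isLimit_fork hker
      rw [← cancel_mono (r • 𝟙 (K.homology i)), zero_comp, Linear.comp_smul, Category.comp_id]
      refine (cancel_mono (Fork.ι (KernelFork.ofι (K.homologyι i) (K.homologyι_comp_fromOpcycles i (i + 1))))).1 ?_
      rw [zero_comp, Linear.smul_comp, l.2, hg']
    rw [← l.2, h4, zero_comp]

/-- Regular elements stay regular on base change along a flat map. -/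
theorem mono_smul_extendScalars {R S : Type u} [CommRing R] [CommRing S] (φ : R →+* S) (hφ : φ.Flat)
    (M : ModuleCat.{u} R) (r : R) (h : Mono (r • 𝟙 M)) :
    Mono (φ r • 𝟙 ((ModuleCat.extendScalars φ).obj M)) := by
  have h1 : Mono ((ModuleCat.extendScalars φ).map (r • 𝟙 M)) := by
    rw [ModuleCat.mono_iff_injective]
    letI := φ.toAlgebra
    have : Module.Flat R S := hφ
    exact Module.Flat.lTensor_preserves_injective_linearMap _ ((ModuleCat.mono_iff_injective _).1 h)
  have h2 : (ModuleCat.extendScalars φ).map (r • 𝟙 M) = φ r • 𝟙 ((ModuleCat.extendScalars φ).obj M) := by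
    letI := φ.toAlgebra
    refine ModuleCat.ExtendScalars.hom_ext fun m => ?_
    show (1 : S) ⊗ₜ[R] (r • m) = φ r • ((1 : S) ⊗ₜ[R] m)
    rw [TensorProduct.tmul_smul, ← algebraMap_smul S r]
    rfl
  rwa [h2] at h1

/-- Depth is positive on a module with a regular element. -/
theorem one_le_of_isDepth {R : Type u} [CommRing R] [IsLocalRing R] [IsNoetherianRing R] (N : ModuleCat.{u} R)
    [Module.Finite R N] {r : R} (hr : r ∈ IsLocalRing.maximalIdeal R) (h : IsSMulRegular N r) {d : ℕ}
    (hd : AusBuch.IsDepth R N d) : 1 ≤ d := by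
  rcases subsingleton_or_nontrivial N with hN | hN
  · by_contra hd0
    obtain rfl : d = 0 := by omega
    refine hd.2 (subsingleton_of_forall_eq 0 fun x => ?_)
    rw [← Abelian.Ext.comp_mk₀_id x, (ModuleCat.isZero_of_subsingleton N).eq_of_src (𝟙 _) 0, Abelian.Ext.mk₀_zero,
      Abelian.Ext.comp_zero]
  · obtain ⟨d', hd', h'⟩ := AusBuch.isDepth_exists R (M := N)
    obtain rfl := AusBuch.IsDepth.unique R hd h'
    have h1 : (1 : ℕ∞) ≤ LocCoh.depth R N :=
      (Depth.one_le_idealDepth_iff (M := N) (IsLocalRing.maximalIdeal.isMaximal R).ne_top).2 ⟨r, hr, h⟩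
    rw [hd'] at h1
    exact_mod_cast h1

variable {Y : Scheme.{u}} [IsLocallyNoetherian Y]

/-- **The cohomology of the dual of a torsion-free sheaf has small support.** -/
theorem notMem_support_dual_torsionFree (D : CochainComplex Y.Modules ℤ) [DCoh.HasLTensorCx D] [DCoh.HasRSheafHom D]
    (hD : DCoh.IsPerfect (DCoh.toD Y D)) (G : Y.Modules) (eG : DCoh.toD Y D ≅ DCoh.inD Y G) (y : Y)
    [LocCoh.IsCohenMacaulayLocalRing (Y.presheaf.stalk y)]
    (htf : ∀ r : Y.presheaf.stalk y, r ∈ nonZeroDivisors (Y.presheaf.stalk y) →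
      ∀ m : ↑(G.presheaf.stalk y), r • m = 0 → m = 0)
    (δ : ℕ) (hδ : ringKrullDim (Y.presheaf.stalk y) = δ) (i : ℕ) (hi : 0 < i) (hiδ : δ ≤ i) :
    y ∉ CohB1.support (DCoh.HD ((DCoh.RSheafHom D).obj (DCoh.inD Y (Coh.structureModule Y))) (i : ℤ)) := by
  have hz : ∀ l : ℤ, l < 0 → IsZero (DCoh.HD (DCoh.toD Y D) l) := fun l hl => by
    haveI : (DCoh.inD Y G).IsGE 0 := inferInstance
    exact (DerivedCategory.isZero_of_isGE (DCoh.inD Y G) 0 l hl).of_iso
      ((DerivedCategory.homologyFunctor _ l).mapIso eG)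
  have hsupp : ∀ l : ℤ, l < 0 → y ∉ CohB1.support (DCoh.HD (DCoh.toD Y D) l) := fun l hl hs =>
    hs (AddCommGrpCat.subsingleton_of_isZero ((Scheme.Modules.toPresheaf _ ⋙
      TopCat.Presheaf.stalkFunctor AddCommGrpCat.{u} (X := Y.toTopCat) y).map_isZero (hz l hl)))
  rcases Nat.eq_zero_or_pos δ with rfl | hpos
  · obtain ⟨U, j, _, ⟨u, rfl⟩, R, c, hf, hb, ⟨eR⟩⟩ := exists_free_ge_of_dim _ hD y 0 0 hδ.le 0 le_rfl hsupp
      (fun _ _ _ _ _ _ _ _ d _ => Nat.zero_le d)
    exact notMem_support_dual D j u R hf _ c hb eR _ (by omega)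
  · obtain ⟨U, j, _, ⟨u, hu⟩, R, c, hf, hb, ⟨eR⟩⟩ := exists_free_ge_of_dim _ hD y 0 δ hδ.le 1 hpos hsupp
      (fun U j _ u hu P hf hP d hd => by
        obtain ⟨iP⟩ := hP
        subst hu
        obtain ⟨x, hx, hreg⟩ := (Depth.one_le_idealDepth_iff (M := Y.presheaf.stalk (j u))
          (IsLocalRing.maximalIdeal.isMaximal (Y.presheaf.stalk (j u))).ne_top).1 (by
            have h := LocCoh.IsCohenMacaulayLocalRing.supportDim_eq_depth (R := Y.presheaf.stalk (j u))
            rw [Module.supportDim_self_eq_ringKrullDim, hδ] at h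
            show (1 : ℕ∞) ≤ LocCoh.depth (Y.presheaf.stalk (j u)) (Y.presheaf.stalk (j u))
            have h' : (δ : ℕ∞) = LocCoh.depth (Y.presheaf.stalk (j u)) (Y.presheaf.stalk (j u)) := by exact_mod_cast h
            rw [← h']
            exact_mod_cast hpos)
        have hnzd : x ∈ nonZeroDivisors (Y.presheaf.stalk (j u)) := by
          refine mem_nonZeroDivisors_iff_right.2 fun z hz => hreg ?_
          show x • z = x • 0
          rw [smul_zero, smul_eq_mul, mul_comm, hz]
        let φ := (j.stalkMap u).hom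
        have hφ : Function.Bijective φ := ConcreteCategory.bijective_of_isIso (j.stalkMap u)
        haveI : IsLocallyNoetherian U := isLocallyNoetherian_of_isOpenImmersion j
        have hφx : φ x ∈ IsLocalRing.maximalIdeal (U.presheaf.stalk u) :=
          (IsLocalRing.mem_maximalIdeal _).2 fun hu' => (IsLocalRing.mem_maximalIdeal _).1 hx
            ((isUnit_map_iff (j.stalkMap u).hom x).1 hu')
        haveI : Module.Finite (U.presheaf.stalk u) ((stCx u P).opcycles 0) :=
          haveI := (projective_stCx u hf 0).2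
          Module.Finite.of_surjective ((stCx u P).pOpcycles 0).hom
            ((ModuleCat.epi_iff_surjective _).1 inferInstance)
        refine one_le_of_isDepth ((stCx u P).opcycles 0) hφx ((mono_smul_id_iff _ _).1 ?_) hd
        refine mono_smul_opcycles (stCx u P) 0 (φ x) ?_ ?_
        · have hG : Mono (x • 𝟙 ((stalk (j u)).obj G)) := (mono_smul_id_iff _ _).2
            (isSMulRegular_iff_right_eq_zero_of_smul.2 fun m hm => htf x hnzd m hm)
          refine mono_smul_of_iso ?_ _ (mono_smul_extendScalars φ (RingHom.Flat.of_bijective hφ) _ x hG)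
          exact ((restrictStalkExtIso j u).app G).symm ≪≫ (stalk u).mapIso
            ((Scheme.Modules.restrictFunctor j).mapIso
                (((DerivedCategory.singleFunctorCompHomologyFunctorIso Y.Modules 0).app G).symm ≪≫
                  (DerivedCategory.homologyFunctor _ 0).mapIso eG.symm) ≪≫
              (HDResIso j (DCoh.toD Y D) 0).symm ≪≫ (DerivedCategory.homologyFunctor _ 0).mapIso iP.symm ≪≫
              (DerivedCategory.homologyFunctorFactors U.Modules 0).app P) ≪≫
            ((P.sc 0).mapHomologyIso (stalk u)).symm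
        · obtain ⟨n, ⟨i₁⟩⟩ := hf (0 + 1)
          obtain ⟨hfree, -⟩ := finite_stalk i₁ u
          have hnz : IsSMulRegular (U.presheaf.stalk u) (φ x) := fun z w hzw => by
            obtain ⟨z, rfl⟩ := hφ.2 z
            obtain ⟨w, rfl⟩ := hφ.2 w
            refine congrArg φ (hreg ?_)
            show x • z = x • w
            apply hφ.1
            simpa [smul_eq_mul, map_mul] using hzw
          let B := Module.Free.chooseBasis (U.presheaf.stalk u) ((stalk u).obj (P.X (0 + 1)))
          refine (mono_smul_id_iff _ _).2 fun z w hzw => B.repr.injective (Finsupp.ext fun l => hnz ?_)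
          show φ x • B.repr z l = φ x • B.repr w l
          rw [← Finsupp.smul_apply, ← Finsupp.smul_apply, ← map_smul, ← map_smul]
          exact congrArg (fun v => B.repr v l) hzw)
    rw [← hu]
    exact notMem_support_dual D j u R hf _ c hb eR _ (by omega)

end GrothLib.FMK22
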