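import Groth.Agent.Lib.FMK22.Amplitude
import Groth.Agent.Lib.FMK22.Fibre
import Groth.Agent.Lib.FMK22.Hyper
import Groth.Agent.Lib.DualRing.SchemePull
import Groth.Agent.Lib.AlgSp.FieldBase
import Groth.Agent.Lib.FMComp25.Basic

/-! # Perfect complexes whose derived fibres have no negative cohomology -/

set_option autoImplicit false
set_option maxHeartbeats 1000000
set_option linter.style.haveILetI false
set_option backward.isDefEq.respectTransparency false
universe u

open CategoryTheory CategoryTheory.Limits CategoryTheory.Pretriangulated AlgebraicGeometry HomologicalComplex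
open DerivedCategory (Q)
attribute [local instance] HasDerivedCategory.standard

noncomputable section

namespace GrothLib.FMK22

open GrothLib.OX

/-- One shortening step at the bottom, from injectivity on the fibre. -/
theorem exists_step_fib {U T : Scheme.{u}} [Subsingleton T] (g : T ⟶ U) (t : T) (hT : IsField (T.presheaf.stalk t))
    (P : CochainComplex U.Modules ℤ) (hfree : FreeTerms P) {a b : ℤ} (hs : DCoh.VanishesOutside P a b)
    (hmono : Mono ((fib g t).map (P.d a (a + 1)))) :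
    ∃ (W : Scheme.{u}) (k : W ⟶ U) (_ : IsOpenImmersion k), g t ∈ Set.range k ∧
      ∃ P' : CochainComplex W.Modules ℤ, FreeTerms P' ∧ DCoh.VanishesOutside P' (a + 1) b ∧
        Nonempty (Q.obj P' ≅ Q.obj ((resCx k).obj P)) := by
  obtain ⟨m, ⟨eA⟩⟩ := hfree a
  obtain ⟨n, ⟨eB⟩⟩ := hfree (a + 1)
  obtain ⟨W, k, hk, hxW, hmonoW, hcok⟩ := exists_mono_of_fib_mono g t hT eA eB (P.d a (a + 1)) hmono
  let P₂ := (resCx k).obj P
  have hs₂ : DCoh.VanishesOutside P₂ a b := fun l hl => (Scheme.Modules.restrictFunctor k).map_isZero (hs l hl)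
  have hd' : Mono (P₂.d a (a + 1)) := hmonoW
  have hGE : P₂.IsGE (a + 1) := (P₂.isGE_iff (a + 1)).2 fun l hl => by
    by_cases hla : l = a
    · subst hla
      rw [P₂.exactAt_iff' (l - 1) l (l + 1) (by simp) (by simp)]
      exact (ShortComplex.exact_iff_mono _ ((hs₂ (l - 1) (by omega)).eq_of_src _ _)).2 hd'
    · exact ExactAt.of_isZero (hs₂ l (by omega))
  let P' := P₂.truncGE (a + 1)
  have hvan : DCoh.VanishesOutside P' (a + 1) b := fun l hl => by
    by_cases hl' : l < a + 1
    · exact CochainComplex.isZero_of_isStrictlyGE P' (a + 1) l hl'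
    · rcases eq_or_ne l (a + 1) with rfl | hne
      · exact (IsZero.of_epi (P₂.pOpcycles (a + 1)) (hs₂ (a + 1) (by omega))).of_iso (P₂.truncGEXIsoOpcycles (a + 1))
      · exact (hs₂ l (by omega)).of_iso (P₂.truncGEXIso (a + 1) l (by omega))
  have hcok' : FlatMod.IsFinLocFree (P'.X (a + 1)) := DCoh.isFinLocFree_of_iso
    (IsColimit.coconePointUniqueUpToIso (cokernelIsCokernel (P₂.d a (a + 1)))
      (P₂.opcyclesIsCokernel a (a + 1) (by simp)) ≪≫ (P₂.truncGEXIsoOpcycles (a + 1)).symm) hcok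
  obtain ⟨w, hw⟩ := hxW
  obtain ⟨A, r, hA, ⟨eC⟩⟩ := hcok' w
  haveI : QuasiIso (P₂.πTruncGE (a + 1)) := inferInstance
  refine ⟨(A : Scheme.{u}), A.ι ≫ k, inferInstance, ⟨⟨w, hA⟩, by rw [Scheme.Hom.comp_apply]; exact hw⟩,
    (resCx A.ι).obj P', fun l => ?_, fun l hl => (Scheme.Modules.restrictFunctor A.ι).map_isZero (hvan l hl), ?_⟩
  · rcases lt_trichotomy l (a + 1) with hl | rfl | hl
    · exact ⟨0, ⟨((Scheme.Modules.restrictFunctor A.ι).map_isZero
        (CochainComplex.isZero_of_isStrictlyGE P' (a + 1) l hl)).iso (isZero_freeMod_zero _)⟩⟩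
    · exact ⟨r, ⟨eC⟩⟩
    · obtain ⟨q, ⟨i⟩⟩ := freeTerms_resCx A.ι (freeTerms_resCx k hfree) l
      exact ⟨q, ⟨(Scheme.Modules.restrictFunctor A.ι).mapIso (P₂.truncGEXIso (a + 1) l hl) ≪≫ i⟩⟩
  · exact ⟨((resDFac A.ι).app P').symm ≪≫ (resD A.ι).mapIso (asIso (Q.map (P₂.πTruncGE (a + 1)))).symm ≪≫
      (resDFac A.ι).app _ ≪≫ Q.mapIso ((resCxCompIso A.ι k).app P).symm⟩

variable {Y : Scheme.{u}}

/-- A perfect object whose derived fibre at `y` has no negative cohomology is, near `y`, a complex of finite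
free modules in degrees `≥ 0`. -/
theorem exists_free_ge_zero (K : DCoh.D Y) (hK : DCoh.IsPerfect K) (y : Y)
    [DCoh.HasLpull (Y.fromSpecResidueField y)]
    (hfib : ∀ i, i < 0 → IsZero (DCoh.HD ((DCoh.Lpull (Y.fromSpecResidueField y)).obj K) i)) :
    ∃ (U : Scheme.{u}) (j : U ⟶ Y) (_ : IsOpenImmersion j), y ∈ Set.range j ∧
      ∃ (P : CochainComplex U.Modules ℤ) (b : ℤ), FreeTerms P ∧ DCoh.VanishesOutside P 0 b ∧
        Nonempty (Q.obj P ≅ (resD j).obj K) := by
  have key : ∀ (N : ℕ) (U : Scheme.{u}) (j : U ⟶ Y) [IsOpenImmersion j] (u : U), j u = y →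
      ∀ (P : CochainComplex U.Modules ℤ) (a b : ℤ), FreeTerms P → DCoh.VanishesOutside P a b →
      (Q.obj P ≅ (resD j).obj K) → 0 - a ≤ N →
      ∃ (U : Scheme.{u}) (j : U ⟶ Y) (_ : IsOpenImmersion j), y ∈ Set.range j ∧
        ∃ (P : CochainComplex U.Modules ℤ) (b : ℤ), FreeTerms P ∧ DCoh.VanishesOutside P 0 b ∧
          Nonempty (Q.obj P ≅ (resD j).obj K) := by
    intro N
    induction N with
    | zero =>
      intro U j _ u hu P a b hf hb i hN
      exact ⟨U, j, inferInstance, ⟨u, hu⟩, P, b, hf, fun l hl => hb l (by omega), ⟨i⟩⟩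
    | succ N ih =>
      intro U j _ u hu P a b hf hb i hN
      by_cases ha : 0 ≤ a
      · exact ⟨U, j, inferInstance, ⟨u, hu⟩, P, b, hf, fun l hl => hb l (by omega), ⟨i⟩⟩
      · have hr : y ∈ Set.range j := ⟨u, hu⟩
        let g := ptLift j y hr
        obtain ⟨t⟩ : Nonempty ↥(Spec (Y.residueField y)) := inferInstance
        have hg : g t = u := j.injective (by rw [hu]; exact ptLift_apply j y hr t)
        haveI := OX.hasLpull j
        haveI := OX.hasLpull g
        haveI := OX.hasLpull (g ≫ j)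
        obtain ⟨c⟩ := SuppTens22.nonempty_lpull_openImmersion j
        obtain ⟨e⟩ : Nonempty ((DCoh.Lpull (Y.fromSpecResidueField y)).obj K ≅
            (DCoh.Lpull g).obj ((resD j).obj K)) := by
          revert ‹DCoh.HasLpull (Y.fromSpecResidueField y)›
          rw [← ptLift_fac j y hr]
          intros
          exact ⟨((lpullCompIso g j).app K).symm ≪≫ (DCoh.Lpull g).mapIso (c.app K)⟩
        obtain ⟨v⟩ := lpull_value g P (isKFlat_of_strictlyPerfect (strictlyPerfect_of_free hf hb))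
        have hex : ((pullCxF g).obj P).ExactAt a := by
          rw [exactAt_iff_isZero_homology]
          exact (hfib a (by omega)).of_iso (((DerivedCategory.homologyFunctorFactors _ a).app _).symm ≪≫
            (DerivedCategory.homologyFunctor _ a).mapIso (v.symm ≪≫ (DCoh.Lpull g).mapIso i ≪≫ e.symm))
        rw [((pullCxF g).obj P).exactAt_iff' (a - 1) a (a + 1) (by simp) (by simp)] at hex
        haveI := (ShortComplex.exact_iff_mono _
          (((Scheme.Modules.pullback g).map_isZero (hb (a - 1) (by omega))).eq_of_src _ _)).1 hex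
        have hm : Mono ((fib g t).map (P.d a (a + 1))) :=
          inferInstanceAs (Mono ((stalk t).map (((pullCxF g).obj P).sc' (a - 1) a (a + 1)).g))
        obtain ⟨W, k, _, ⟨w, hw⟩, P', hf', hb', ⟨i'⟩⟩ := exists_step_fib g t
          (isField_stalk_spec _ (Field.toIsField _) t) P hf hb hm
        exact ih W (k ≫ j) w (by rw [Scheme.Hom.comp_apply, hw, hg, hu]) P' (a + 1) b hf' hb'
          (i' ≪≫ ((resDFac k).app P).symm ≪≫ (resD k).mapIso i ≪≫ (resDCompIso k j).app K) (by omega)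
  obtain ⟨Pc, -, ⟨ePc⟩⟩ := exists_kflat_rep K
  obtain ⟨V, E, hy, hE, ⟨i₀⟩⟩ := (isPerfect_iff_rep ePc).1 hK y
  obtain ⟨W, E', hyW, ⟨a, n, hb⟩, hf, -, ⟨i⟩⟩ := exists_free_bounded hE hy i₀
  exact key (0 - a).toNat W W.ι ⟨y, hyW⟩ rfl E' a (a + n) hf (fun l hl => hb l (by omega))
    (i.symm ≪≫ ((resDFac W.ι).app Pc).symm ≪≫ (resD W.ι).mapIso ePc) (by omega)

/-- The kernel transform of a sheaf has no negative cohomology on the derived fibres. -/
theorem isZero_fibre_phi_lt {k : Type u} [Field k] {X Y : Scheme.{u}} (a : X ⟶ Spec (CommRingCat.of k))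
    (b : Y ⟶ Spec (CommRingCat.of k)) [IsProper a] [IsProper b]
    (P₀ : (pullback a b).Modules) (hP₀ : FlatMod.IsFinLocFree P₀) [DCoh.HasLpull (pullback.fst a b)]
    [DCoh.HasLTensorCx ((single (pullback a b).Modules (ComplexShape.up ℤ) 0).obj P₀)]
    [DCoh.HasRpush (pullback.snd a b)] (F : X.Modules) (hF : DCoh.IsPerfect (DCoh.inD X F)) (y : Y)
    [DCoh.HasLpull (Y.fromSpecResidueField y)] (i : ℤ) (hi : i < 0) :
    IsZero (DCoh.HD ((DCoh.Lpull (Y.fromSpecResidueField y)).obj
      ((FMK.phi a b ((single (pullback a b).Modules (ComplexShape.up ℤ) 0).obj P₀)).obj (DCoh.inD X F))) i) := by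
  let p := pullback.fst a b
  let q := pullback.snd a b
  let g := Y.fromSpecResidueField y
  let j := pullback.fst q g
  let S := (single (pullback a b).Modules (ComplexShape.up ℤ) 0).obj P₀
  have hS : DCoh.IsKFlat S := isKFlat_single _ (flat_of_isFinLocFree hP₀) 0
  have hSp : DCoh.IsPerfect (DCoh.toD (pullback a b) S) :=
    isPerfect_single_of_finLocFree hP₀
  let M := (DCoh.LTensorCx S).obj ((DCoh.Lpull p).obj (DCoh.inD X F))
  have hM : DCoh.IsQCohD M := isQCohD_of_isPerfect (isPerfect_kernel p S hSp hF)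
  haveI : Flat q := haveI : Flat a := AlgSp.flat_to_field a; inferInstance
  haveI := OX.hasLpull j
  haveI := OX.hasLpull (j ≫ p)
  haveI : DCoh.HasRΓ (pullback q g) := KInj.hasRightDerivedFunctor _
  refine (isZero_fibre_rGamma_iff q y M hM i).1 ((isZero_rGamma_iff_hom _ i).2 fun φ => ?_)
  haveI : Flat (j ≫ p) := by
    haveI : Flat (g ≫ b) := AlgSp.flat_to_field _
    exact MorphismProperty.of_isPullback
      ((IsPullback.of_hasPullback q g).flip.paste_vert (IsPullback.of_hasPullback a b).flip).flip.flip inferInstance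
  haveI := preservesFiniteLimits_pullback_of_flat (j ≫ p)
  obtain ⟨fl⟩ := DualRing.nonempty_lpull_flat (j ≫ p)
  let S' := (pullCxF j).obj S
  haveI : DCoh.HasLTensorCx ((pullCxF j).obj S) := hasLTensorCx _
  obtain ⟨lt⟩ := FMComp25.nonempty_lpull_ltensor_nat (f := j) (P := S) hS
  let N := (Scheme.Modules.pullback j).obj P₀
  have hN : FlatMod.IsFinLocFree N := isFinLocFree_pullback j hP₀
  obtain ⟨t₁, t₂⟩ := exact_tF_finLocFree hN
  haveI := t₁
  haveI := t₂
  haveI := hasLTensorCx ((single (pullback q g).Modules (ComplexShape.up ℤ) 0).obj N)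
  let eS : Q.obj S' ≅ Q.obj ((single (pullback q g).Modules (ComplexShape.up ℤ) 0).obj N) :=
    (Q (C := (pullback q g).Modules)).mapIso ((singleMapHomologicalComplex (Scheme.Modules.pullback j)
      (ComplexShape.up ℤ) 0).app P₀)
  obtain ⟨cS⟩ := nonempty_ltensorCx_congr_of_iso eS
  obtain ⟨ts⟩ := nonempty_ltensorCx_single_finLocFree (N := N)
  let e : (DCoh.Lpull j).obj M ≅
      (Euler.tF N).mapDerivedCategory.obj ((Scheme.Modules.pullback (j ≫ p)).mapDerivedCategory.obj (DCoh.inD X F)) :=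
    lt.app _ ≪≫ (DCoh.LTensorCx S').mapIso ((lpullCompIso j p).app _ ≪≫ fl.app _) ≪≫ (cS ≪≫ ts).app _
  have h0 : (DCoh.inD X F).IsGE 0 := inferInstanceAs (((DerivedCategory.singleFunctor X.Modules 0).obj F).IsGE 0)
  haveI := DerTrunc.isGE_mapDerivedCategory (Scheme.Modules.pullback (j ≫ p)) (DCoh.inD X F) 0
  haveI := DerTrunc.isGE_mapDerivedCategory (Euler.tF N)
    ((Scheme.Modules.pullback (j ≫ p)).mapDerivedCategory.obj (DCoh.inD X F)) 0
  have hge : ((DCoh.Lpull j).obj M).IsGE 0 :=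
    @CategoryTheory.Triangulated.TStructure.isGE_of_iso _ _ _ _ _ _ _ DerivedCategory.TStructure.t _ _ e.symm 0
      inferInstance
  exact DerivedCategory.TStructure.t.zero_of_isLE_of_isGE φ i 0 hi inferInstance hge

end GrothLib.FMK22
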