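import Groth.Agent.Lib.FMK22.GVDual
import Groth.Agent.Lib.FMK22.DualSingle
import Groth.Agent.Lib.FMK22.VanishLow
import Groth.Agent.Lib.FMK22.PhiShift
import Groth.Agent.Lib.FMK22.HyperQCoh
import Groth.Agent.Lib.FMBC15.PhiPull

/-! # The transform of the dual by the twisted dual kernel -/

set_option autoImplicit false
set_option maxHeartbeats 1000000
set_option linter.style.haveILetI false
set_option backward.isDefEq.respectTransparency false
universe u

open CategoryTheory CategoryTheory.Limits AlgebraicGeometry HomologicalComplex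
open DerivedCategory (Q)
attribute [local instance] HasDerivedCategory.standard

noncomputable section

namespace GrothLib.FMK22

open GrothLib.OX

variable {k : Type u} [Field k] {X Y : Scheme.{u}} (a : X ⟶ Spec (CommRingCat.of k))
  (b : Y ⟶ Spec (CommRingCat.of k))

/-- `Φ_{P^∨ ⊗ q^*W}(RΔ F)` is the dual of `Φ_P F` with values in `W`, shifted. -/
theorem nonempty_phi_twisted_dual [IsProper a] [IsProper b]
    (hXcm : ∀ x : ↥X, LocCoh.IsCohenMacaulayLocalRing ↑(X.presheaf.stalk x)) (d : ℕ)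
    (hXeq : ∀ Z ∈ irreducibleComponents ↥X, topologicalKrullDim ↥Z = (d : WithBot ℕ∞))
    [DCoh.HasRpush a] (ha : DCoh.RpushPreservesQCoh a)
    {adx : DCoh.DQCoh (Spec (CommRingCat.of k)) ⥤ DCoh.DQCoh X} (adj : DCoh.RpushQ a ha ⊣ adx)
    (O : DCoh.DQCoh (Spec (CommRingCat.of k)))
    (hO : Nonempty (O.obj ≅ DCoh.inD (Spec (CommRingCat.of k)) (Coh.structureModule (Spec (CommRingCat.of k)))))
    (P₀ : (pullback a b).Modules) (hP₀ : FlatMod.IsFinLocFree P₀) [DCoh.HasSheafHom P₀]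
    [DCoh.HasLpull (pullback.fst a b)] [DCoh.HasRpush (pullback.snd a b)]
    [DCoh.HasLTensorCx ((single (pullback a b).Modules (ComplexShape.up ℤ) 0).obj P₀)]
    (N : Y.Modules) (hN : Coh.IsQCoh N)
    [DCoh.HasLTensorCx ((single (pullback a b).Modules (ComplexShape.up ℤ) 0).obj (CohB1.tensorMod
      ((DCoh.sheafHom P₀).obj (Coh.structureModule (pullback a b))) ((Scheme.Modules.pullback (pullback.snd a b)).obj N)))]
    (F : X.Modules) (hF : DCoh.IsPerfect (DCoh.inD X F))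
    [DCoh.HasLTensorCx ((single X.Modules (ComplexShape.up ℤ) 0).obj F)]
    [DCoh.HasRSheafHom ((single X.Modules (ComplexShape.up ℤ) 0).obj F)]
    (K : CochainComplex Y.Modules ℤ) (hK : DCoh.IsKFlat K) [DCoh.HasLTensorCx K] [DCoh.HasRSheafHom K]
    (eK : DCoh.toD Y K ≅ (FMK.phi a b ((single (pullback a b).Modules (ComplexShape.up ℤ) 0).obj P₀)).obj (DCoh.inD X F))
    (W : CochainComplex Y.Modules ℤ) (hW : DCoh.IsKFlat W) [DCoh.HasLTensorCx W] (eW : DCoh.toD Y W ≅ DCoh.inD Y N) :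
    Nonempty ((DCoh.RSheafHom K).obj (DCoh.inD Y N) ≅
        (DCoh.LTensorCx W).obj ((DCoh.RSheafHom K).obj (DCoh.inD Y (Coh.structureModule Y)))) ∧
      Nonempty ((DCoh.RSheafHom K).obj (DCoh.inD Y N) ≅ (shiftFunctor (DCoh.D Y) (d : ℤ)).obj
        ((FMK.phi a b ((single (pullback a b).Modules (ComplexShape.up ℤ) 0).obj (CohB1.tensorMod
          ((DCoh.sheafHom P₀).obj (Coh.structureModule (pullback a b)))
          ((Scheme.Modules.pullback (pullback.snd a b)).obj N)))).obj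
          ((DCoh.RSheafHom ((single X.Modules (ComplexShape.up ℤ) 0).obj F)).obj
            (DCoh.inD X (DCoh.HD (adx.obj O).obj (-(d : ℤ))))))) := by
  haveI : IsNoetherian (Spec (CommRingCat.of k)) := inferInstance
  haveI : IsNoetherian Y := RightAdj22.isNoetherian_of_proper b
  haveI : Flat a := AlgSp.flat_to_field a
  let p := pullback.fst a b
  let q := pullback.snd a b
  haveI : Flat q := inferInstance
  haveI : IsLocallyNoetherian (pullback a b : Scheme.{u}) := LocallyOfFiniteType.isLocallyNoetherian q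
  let OZ := Coh.structureModule (pullback a b)
  let Pd := (DCoh.sheafHom P₀).obj OZ
  let S := (single (pullback a b).Modules (ComplexShape.up ℤ) 0).obj P₀
  let Sd := (single (pullback a b).Modules (ComplexShape.up ℤ) 0).obj Pd
  haveI : DCoh.HasLTensorCx Sd := hasLTensorCx Sd
  haveI : DCoh.HasRSheafHom S := hasRSheafHom S
  have hSp : DCoh.IsPerfect (DCoh.toD (pullback a b) S) := isPerfect_single_of_finLocFree hP₀
  have hPd : FlatMod.IsFinLocFree Pd := LocFreeHom.isFinLocFree_iHom hP₀ (isFinLocFree_structureModule _)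
  have hSd : DCoh.IsKFlat Sd := isKFlat_single _ (flat_of_isFinLocFree hPd) 0
  obtain ⟨eP⟩ := nonempty_RSheafHom_single P₀ hP₀ OZ
  have hFp : DCoh.IsPerfect (DCoh.toD X ((single X.Modules (ComplexShape.up ℤ) 0).obj F)) :=
    isPerfect_of_iso hF (FMInv15.singleQIso F).symm
  obtain ⟨hKp, ⟨e⟩⟩ := nonempty_dual_phi a b hXcm d hXeq ha adj O hO S hSp Sd
    ⟨FMInv15.singleQIso Pd ≪≫ eP.symm⟩ ((single X.Modules (ComplexShape.up ℤ) 0).obj F) hFp K
    ⟨eK ≪≫ (FMK.phi a b S).mapIso (FMInv15.singleQIso F).symm⟩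
  obtain ⟨D, -, _, _, -, -, ⟨iD⟩⟩ := RightAdj20.exists_dual_pair K hK hKp
  obtain ⟨t⟩ := nonempty_tensor_dual_iso K D hK hKp iD (DCoh.inD Y N)
  obtain ⟨sy⟩ := KSix19.nonempty_ltensor_symm (K₁ := W) (K₂ := D) eW iD
  let c₁ : (DCoh.RSheafHom K).obj (DCoh.inD Y N) ≅
      (DCoh.LTensorCx W).obj ((DCoh.RSheafHom K).obj (DCoh.inD Y (Coh.structureModule Y))) := t.symm ≪≫ sy
  refine ⟨⟨c₁⟩, ?_⟩
  let ω := DCoh.inD X (DCoh.HD (adx.obj O).obj (-(d : ℤ)))
  let R := (DCoh.RSheafHom ((single X.Modules (ComplexShape.up ℤ) 0).obj F)).obj ω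
  let M := (shiftFunctor (DCoh.D X) (d : ℤ)).obj R
  let T := (DCoh.Lpull p).obj M
  have hωq : DCoh.IsQCohD ω := FMBC15.isQCohD_inD _ ((adx.obj O).property _)
  have hRq : DCoh.IsQCohD R := isQCohD_RSheafHom_of_perfect _ hFp hωq
  have hMq : DCoh.IsQCohD M := fun l => isQCoh_of_iso
    ((((DerivedCategory.homologyFunctor X.Modules 0).shiftIso (d : ℤ) l (d + l) rfl).app R)).symm (hRq _)
  have hWq : DCoh.IsQCohD (DCoh.toD Y W) := KSix19.BettiExact.isQCohD_of_iso' eW.symm (FMBC15.isQCohD_inD _ hN)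
  let W' := (pullCxF q).obj W
  have hW' : DCoh.IsKFlat W' := isKFlat_pullback q hW
  haveI : DCoh.HasLTensorCx ((pullCxF q).obj W) := hasLTensorCx _
  obtain ⟨τ⟩ := RightAdj22.nonempty_proj_nat q W hW hWq
  let B : (DCoh.IsQCohD (X := (pullback a b : Scheme.{u}))).FullSubcategory :=
    ⟨(DCoh.LTensorCx Sd).obj T, RightAdj22.isQCohD_ltensor Sd
      (isQCohD_of_isPerfect (isPerfect_single_of_finLocFree hPd)) (TorBC25.isQCohD_lpull p hMq)⟩
  let U := ((DCoh.tensorCx (X := (pullback a b : Scheme.{u}))).obj Sd).obj W'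
  haveI : DCoh.HasLTensorCx U := hasLTensorCx U
  haveI : DCoh.HasLpull q := hasLpull q
  obtain ⟨vU⟩ := ltensorCx_value W' Sd hSd
  obtain ⟨vW⟩ := lpull_value q W hW
  haveI := preservesFiniteLimits_pullback_of_flat q
  obtain ⟨fl⟩ := DualRing.nonempty_lpull_flat q
  let N' := (Scheme.Modules.pullback q).obj N
  let eN : DCoh.toD (pullback a b) W' ≅ DCoh.inD (pullback a b) N' :=
    vW.symm ≪≫ (DCoh.Lpull q).mapIso eW ≪≫ fl.app _ ≪≫
      ((Scheme.Modules.pullback q).mapDerivedCategorySingleFunctor 0).app N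
  obtain ⟨sy'⟩ := KSix19.nonempty_ltensor_symm (K₁ := Sd) (K₂ := W') (Iso.refl (DCoh.toD (pullback a b) Sd)) eN
  obtain ⟨t₁, t₂⟩ := exact_tF_finLocFree hPd
  haveI := t₁
  haveI := t₂
  obtain ⟨ts⟩ := nonempty_ltensorCx_single_finLocFree (N := Pd)
  let eU : Q.obj U ≅ Q.obj ((single (pullback a b).Modules (ComplexShape.up ℤ) 0).obj (CohB1.tensorMod Pd N')) :=
    vU.symm ≪≫ sy' ≪≫ ts.app _ ≪≫ ((Euler.tF Pd).mapDerivedCategorySingleFunctor 0).app N' ≪≫
      (DerivedCategory.singleFunctor _ 0).mapIso (((OX.tensorBraiding (X := (pullback a b : Scheme.{u}))).app Pd).app N') ≪≫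
      (FMInv15.singleQIso _).symm
  obtain ⟨cU⟩ := nonempty_ltensorCx_congr_of_iso eU
  obtain ⟨sh⟩ := nonempty_phi_shift a b ((single (pullback a b).Modules (ComplexShape.up ℤ) 0).obj
    (CohB1.tensorMod Pd N')) R (d : ℤ)
  exact ⟨c₁ ≪≫ (DCoh.LTensorCx W).mapIso e ≪≫
    (DCoh.LTensorCx W).mapIso ((rpushIsoRres q).app _) ≪≫ τ.app B ≪≫ ((rpushIsoRres q).app _).symm ≪≫
    (DCoh.Rpush q).mapIso ((ltensorCompIso Sd W' hW').app T ≪≫ cU.app T) ≪≫ sh⟩

end GrothLib.FMK22
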